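import Cfsg.Agent.H104.AtomGL
import Cfsg.Agent.H104.AtomTools
import Cfsg.Agent.H104.RowPSL

/-!
# `AbIrr` and `NormOm` for `SL_n(q)` and `PSL_n(q)`, `p ∤ q (q - 1)`
-/

set_option autoImplicit false

open Matrix

namespace Cfsg.Agent.H104.IrrSL

open Cfsg.Agent.H193 Cfsg.Agent.H193.Types AtomTypes AtomSys AtomPeel AtomGL AtomTools ClosedSet H795

universe u v

section

variable {F : Type u} [Field F] [Fintype F] {E : Type v} [Field E] [Algebra F E] {p : ℕ}
  [IsAlgClosed E] [hp : Fact p.Prime] {ζ : E} (hζ : IsPrimitiveRoot ζ p) (w : (ZMod p)ˣ)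
  (hw : (w : ZMod p) = (Fintype.card F : ZMod p))

/-- elements of `p`-power order have determinant `1` -/
theorem det_eq_one (hq : ¬ p ∣ Fintype.card F - 1) {δ : F} {k : ℕ} (h : δ ^ p ^ k = 1) : δ = 1 := by
  have h0 : δ ≠ 0 := by
    rintro rfl
    rw [zero_pow (pow_ne_zero _ hp.out.ne_zero)] at h
    exact zero_ne_one h
  have h1 : δ ^ (Fintype.card F - 1) = 1 := FiniteField.pow_card_sub_one_eq_one δ h0
  have h2 : δ ^ Nat.gcd (p ^ k) (Fintype.card F - 1) = 1 := pow_gcd_eq_one.2 ⟨h, h1⟩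
  have h3 : Nat.gcd (p ^ k) (Fintype.card F - 1) = 1 :=
    Nat.Coprime.pow_left k ((Nat.Prime.coprime_iff_not_dvd hp.out).2 hq)
  rwa [h3, pow_one] at h2

include hζ

omit [Fintype F] in
theorem exists_ty_ne {ι : Type} [Fintype ι] [DecidableEq ι] {A : Matrix ι ι F} (hA : A ^ p = 1) (hA1 : A ≠ 1) :
    ∃ c : ZMod p, c ≠ 0 ∧ ty ζ A c ≠ 0 := by
  classical
  by_contra hcon
  push Not at hcon
  apply hA1
  obtain ⟨c, P, hP, hc⟩ := exists_diagE hζ hA
  have hc0 : ∀ i, c i = 0 := by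
    intro i
    by_contra hi
    have h1 := hcon (c i) hi
    rw [hc, Finset.card_eq_zero] at h1
    have h2 : i ∈ (Finset.univ.filter fun j => c j = c i) := by simp
    rw [h1] at h2
    exact absurd h2 (Finset.notMem_empty i)
  apply Matrix.map_injective (algebraMap F E).injective
  show A.map (algebraMap F E) = (1 : Matrix ι ι F).map (algebraMap F E)
  rw [hP]
  have h1 : (Matrix.diagonal (fun i => ζ ^ (c i).val) : Matrix ι ι E) = 1 := by
    rw [← Matrix.diagonal_one]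
    congr 1
    funext i
    rw [hc0 i, ZMod.val_zero, pow_zero]
  rw [h1, mul_one, ← Units.val_mul, mul_inv_cancel, Units.val_one, Matrix.map_one _ (map_zero _) (map_one _)]

include hw

theorem sl_peel (hq : ¬ p ∣ Fintype.card F - 1) {n : ℕ} {x : SpecialLinearGroup (Fin n) F} (hx : x ^ p = 1) (hx1 : x ≠ 1) :
    ∃ y k : SpecialLinearGroup (Fin n) F,
      Peel ζ p w (SpecialLinearGroup.toGL x) (SpecialLinearGroup.toGL y) ∧
      ∃ u : ℕ, (u : ZMod p) ≠ 1 ∧ k * x * k⁻¹ = y ^ u * (y⁻¹ * x) := by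
  classical
  have hxM : ((x : Matrix (Fin n) (Fin n) F)) ^ p = 1 := congrArg Subtype.val hx
  have hxG : (SpecialLinearGroup.toGL x) ^ p = 1 := by rw [← map_pow, hx, map_one]
  -- an eigenvalue `≠ 1`
  obtain ⟨c, hc, hxc⟩ := exists_ty_ne hζ hxM (fun h => hx1 (Subtype.ext h))
  obtain ⟨C, M, e, hCr, hMr, hCorb, he⟩ := exists_split hζ w hw hxM hc hxc
  have huC : IsUnit C := IsUnit.of_pow_eq_one hCr (NeZero.ne p)
  have hCu : huC.unit ^ p = 1 := Units.ext (by rw [Units.val_pow_eq_pow_val, IsUnit.unit_spec, hCr, Units.val_one])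
  have hx' : ∀ v, e (((SpecialLinearGroup.toGL x : GL (Fin n) F) : Matrix (Fin n) (Fin n) F) *ᵥ v) =
      ((huC.unit : Matrix (Fin (orderOf w)) (Fin (orderOf w)) F) *ᵥ (e v).1, (fun v => M *ᵥ v) (e v).2) := by
    intro v
    rw [IsUnit.unit_spec]
    exact he v
  have hw1 : 1 ≤ orderOf w := orderOf_pos w
  have hC0 : ty (r := p) ζ C 0 = 0 := (hCorb 0).2 (by
    rintro ⟨s, -, hs⟩
    exact mul_ne_zero s.ne_zero hc hs.symm)
  have hCc : ty (r := p) ζ C c = 1 := (hCorb c).1 ⟨1, Subgroup.one_mem _, by simp⟩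
  have hfix : ∀ v, (huC.unit : Matrix (Fin (orderOf w)) (Fin (orderOf w)) F) *ᵥ v = v → v = 0 := by
    intro v hv
    by_contra hv0
    exact ty_zero_pos hζ hv0 (by rwa [IsUnit.unit_spec] at hv) hC0
  have hC1 : huC.unit ≠ 1 := by
    intro h
    have h1 : C = 1 := by
      have := congrArg Units.val h
      rwa [IsUnit.unit_spec, Units.val_one] at this
    have h2 := hfix (fun _ => 1) (by rw [IsUnit.unit_spec, h1, Matrix.one_mulVec])
    exact one_ne_zero (congrFun h2 ⟨0, hw1⟩)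
  have hpeel := peel hζ w (x := SpecialLinearGroup.toGL x) hx' hCu hC1 ⟨c, hc, fun d _ => by
    rw [IsUnit.unit_spec]; exact hCorb d⟩ hfix
  -- the conjugating element
  obtain ⟨k₁, hk₁⟩ := isConj_iff.1 (isConj_pow hζ w hw hCu)
  have hd0 : ((k₁ : Matrix _ _ F).det)⁻¹ ≠ 0 := inv_ne_zero (by
    have := k₁.isUnit
    rw [Matrix.isUnit_iff_isUnit_det] at this
    exact this.ne_zero)
  obtain ⟨T, hT, hTd⟩ := exists_commute_det hζ w hw hw1 hCu hd0
  have hkT : (k₁ * T) * huC.unit * (k₁ * T)⁻¹ = huC.unit ^ Fintype.card F := by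
    rw [← hk₁]
    calc (k₁ * T) * huC.unit * (k₁ * T)⁻¹ = k₁ * (T * huC.unit) * T⁻¹ * k₁⁻¹ := by group
      _ = k₁ * (huC.unit * T) * T⁻¹ * k₁⁻¹ := by rw [hT]
      _ = _ := by group
  have hdk : ((k₁ * T : GL (Fin (orderOf w)) F) : Matrix (Fin (orderOf w)) (Fin (orderOf w)) F).det = 1 := by
    rw [Units.val_mul, Matrix.det_mul, hTd, mul_inv_cancel₀]
    intro h
    rw [h, _root_.inv_zero] at hd0
    exact hd0 rfl
  have hdC : C.det = 1 := det_eq_one (p := p) (k := 1) hq (by rw [pow_one, ← Matrix.det_pow, hCr, Matrix.det_one])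
  let y : SpecialLinearGroup (Fin n) F := ⟨liftM e C, by rw [det_liftM, hdC]⟩
  let k : SpecialLinearGroup (Fin n) F := ⟨liftM e ((k₁ * T : GL (Fin (orderOf w)) F) : Matrix (Fin (orderOf w)) (Fin (orderOf w)) F), by
    rw [det_liftM, hdk]⟩
  have hyG : SpecialLinearGroup.toGL y = lift e huC.unit := Units.ext rfl
  have hkG : SpecialLinearGroup.toGL k = lift e (k₁ * T) := Units.ext rfl
  refine ⟨y, k, by rw [hyG]; exact hpeel, Fintype.card F, ?_, ?_⟩
  · intro h
    apply hq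
    rw [← ZMod.natCast_eq_zero_iff, Nat.cast_sub Fintype.card_pos, h, Nat.cast_one, sub_self]
  · apply SpecialLinearGroup.toGL_injective
    rw [map_mul, map_mul, map_mul, map_mul, map_inv, map_inv, map_pow, hyG, hkG, lift_conj hx' (k₁ * T), hkT, map_pow]

/-- classes of `GL` are classes of `SL` for elements of order `p` -/
theorem sl_conj {n : ℕ} (hn : 1 ≤ n) {y z : SpecialLinearGroup (Fin n) F} (hy : y ^ p = 1) (hz : z ^ p = 1)
    (h : ty (r := p) ζ (y : Matrix (Fin n) (Fin n) F) = ty ζ (z : Matrix (Fin n) (Fin n) F)) : IsConj y z := by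
  have hyG : (SpecialLinearGroup.toGL y) ^ p = 1 := by rw [← map_pow, hy, map_one]
  have hzG : (SpecialLinearGroup.toGL z) ^ p = 1 := by rw [← map_pow, hz, map_one]
  obtain ⟨g, hg⟩ := isConj_iff.1 ((isConj_iff_ty hζ hyG hzG).2 h)
  have hd0 : ((g : Matrix _ _ F).det)⁻¹ ≠ 0 := inv_ne_zero (by
    have := g.isUnit
    rw [Matrix.isUnit_iff_isUnit_det] at this
    exact this.ne_zero)
  obtain ⟨T, hT, hTd⟩ := exists_commute_det hζ w hw hn hyG hd0
  have hgd : (g : Matrix (Fin n) (Fin n) F).det ≠ 0 := fun h => by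
    rw [h, _root_.inv_zero] at hd0
    exact hd0 rfl
  obtain ⟨g', hg'⟩ : ∃ g' : SpecialLinearGroup (Fin n) F, SpecialLinearGroup.toGL g' = g * T :=
    ⟨⟨((g * T : GL (Fin n) F) : Matrix (Fin n) (Fin n) F), by
      rw [Units.val_mul, Matrix.det_mul, hTd, mul_inv_cancel₀ hgd]⟩, Units.ext rfl⟩
  refine isConj_iff.2 ⟨g', ?_⟩
  apply SpecialLinearGroup.toGL_injective
  rw [map_mul, map_mul, map_inv, hg', ← hg]
  calc (g * T) * SpecialLinearGroup.toGL y * (g * T)⁻¹ = g * (T * SpecialLinearGroup.toGL y) * T⁻¹ * g⁻¹ := by group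
    _ = g * (SpecialLinearGroup.toGL y * T) * T⁻¹ * g⁻¹ := by rw [hT]
    _ = _ := by group

end

variable {F : Type} [Field F] [Fintype F] {p : ℕ} [hp : Fact p.Prime]

theorem sl_trunc (hpF : (p : F) ≠ 0) (hq : ¬ p ∣ Fintype.card F - 1) (n : ℕ) :
    Trunc p ((Units.coeHom (Matrix (Fin n) (Fin n) F)).comp SpecialLinearGroup.toGL) := by
  rintro A s hA hs ⟨k, hk⟩
  have h1 := trunc_pow (ρ := (Units.coeHom (Matrix (Fin n) (Fin n) F)).comp SpecialLinearGroup.toGL)
    (card_ne_zero_of_pGroup hpF hA) hs (p ^ k)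
  rw [hk, map_one, one_mul, add_sub_cancel] at h1
  have h2 := congrArg Matrix.det h1
  rw [Matrix.det_pow, Matrix.det_one] at h2
  exact ⟨⟨_, det_eq_one (k := k) hq h2⟩, rfl⟩

/-- **`SL_n(q)`, `p ∤ q (q - 1)`.** -/
theorem sl_main (hpF : (p : F) ≠ 0) (hq : ¬ p ∣ Fintype.card F - 1) (n : ℕ) :
    ClIrr p (SpecialLinearGroup (Fin n) F) ∧ NormOm p (SpecialLinearGroup (Fin n) F) := by
  obtain ⟨ζ, hζ⟩ := ClassCount.exists_root (F := F) hp.out hpF
  obtain ⟨w, hw⟩ := ClassCount.exists_unit (RankBound.card_ne_zero (p := p) (F := F) hpF)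
  have hinj : Function.Injective (SpecialLinearGroup.toGL : SpecialLinearGroup (Fin n) F →* GL (Fin n) F) :=
    SpecialLinearGroup.toGL_injective
  constructor
  · refine clIrr_of_peel hζ w SpecialLinearGroup.toGL hinj (fun x hx hx1 => ?_) (fun y z hy hz _ h => ?_)
      (sep_of_peel hζ w SpecialLinearGroup.toGL hinj fun x hx hx1 => sl_peel hζ w hw hq hx hx1)
    · obtain ⟨y, _, hy, _⟩ := sl_peel hζ w hw hq hx hx1
      exact ⟨y, hy⟩
    · rcases Nat.eq_zero_or_pos n with rfl | hn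
      · rw [Subsingleton.elim y z]
        exact IsConj.refl z
      · exact sl_conj hζ w hw hn hy hz h
  · refine normOm_of_peel hζ w hpF SpecialLinearGroup.toGL hinj (fun x hx hx1 => ?_) (sl_trunc hpF hq n)
    obtain ⟨y, _, hy, _⟩ := sl_peel hζ w hw hq hx hx1
    exact ⟨y, hy⟩

/-- passing to the central quotient -/
theorem proj {G : Type} [Group G] [Finite G] (h0 : ∀ z : G, z ∈ Subgroup.center G → z ^ p = 1 → z = 1)
    (h1 : AbIrr p G) (h2 : NormOm p G) : AbIrr p (G ⧸ Subgroup.center G) ∧ NormOm p (G ⧸ Subgroup.center G) := by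
  have hker : ¬ p ∣ Nat.card (QuotientGroup.mk' (Subgroup.center G)).ker := by
    intro hd
    obtain ⟨z, hz⟩ := exists_prime_orderOf_dvd_card' p hd
    have h3 : (z : G) = 1 := by
      refine h0 z ?_ ?_
      · exact (QuotientGroup.eq_one_iff (z : G)).1 z.2
      · have h4 : z ^ p = 1 := by rw [← hz]; exact pow_orderOf_eq_one z
        exact congrArg Subtype.val h4
    rw [show z = 1 from Subtype.ext h3, orderOf_one] at hz
    exact hp.out.one_lt.ne hz
  exact ⟨AbIrr.of_surjective _ (QuotientGroup.mk'_surjective _) hker h1,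
    NormOm.of_surjective _ (QuotientGroup.mk'_surjective _) (by rw [QuotientGroup.ker_mk']) hker h2⟩

/-- **`PSL_n(q)`, `p ∤ q (q - 1)`.** -/
theorem psl_main (hpF : (p : F) ≠ 0) (hq : ¬ p ∣ Fintype.card F - 1) {n : ℕ} (hn : 1 ≤ n) :
    AbIrr p (ProjectiveSpecialLinearGroup (Fin n) F) ∧ NormOm p (ProjectiveSpecialLinearGroup (Fin n) F) := by
  obtain ⟨h1, h2⟩ := sl_main hpF hq n
  refine proj (fun z hz hzp => ?_) (abIrr_of fun _ => h1) h2
  exact RowPSL.center_free hn (fun c _ h => RowPSL.not_dvd_sub_one_of hq h) z hzp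
    ((QuotientGroup.eq_one_iff z).2 hz)

end Cfsg.Agent.H104.IrrSL
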