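import Cfsg.Agent.H104.AtomGU
import Cfsg.Agent.H193.OrthReal

/-!
# Models of atoms with an invariant form
-/

set_option autoImplicit false
set_option linter.unusedSectionVars false

open Matrix

namespace Cfsg.Agent.H104.AtomIsom

open Cfsg.Agent.H193 Cfsg.Agent.H193.Types Cfsg.Agent.H193.Count Cfsg.Agent.H193.Realise Cfsg.Agent.H193.RealForm
  AtomTypes AtomSys AtomGL AtomTools AtomForm AtomGU ClosedSet H795

universe u v

section LE

variable {F : Type u} [Field F] {κ : Type} [Fintype κ] [DecidableEq κ]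

/-- the linear automorphism of an invertible matrix -/
noncomputable def toLE (M : GL κ F) : (κ → F) ≃ₗ[F] (κ → F) :=
  Matrix.toLin'OfInv (M' := (M : Matrix κ κ F)) (M := ((M⁻¹ : GL κ F) : Matrix κ κ F)) M.inv_mul M.mul_inv

theorem toLE_apply (M : GL κ F) (v : κ → F) : toLE M v = (M : Matrix κ κ F) *ᵥ v := Matrix.toLin'_apply _ v

theorem toLE_lin (M : GL κ F) : (toLE M).toLinearMap = Matrix.toLin' (M : Matrix κ κ F) :=
  LinearMap.ext fun v => toLE_apply M v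

theorem toLE_pow {M : GL κ F} {n : ℕ} (hM : M ^ n = 1) : ((toLE M).toLinearMap : Module.End F (κ → F)) ^ n = 1 := by
  rw [toLE_lin, ← Matrix.toLin'_pow, ← Units.val_pow_eq_pow_val, hM, Units.val_one, Matrix.toLin'_one]
  rfl

theorem exists_GL (z : (κ → F) ≃ₗ[F] (κ → F)) : ∃ Z : GL κ F, ∀ v, (Z : Matrix κ κ F) *ᵥ v = z v :=
  ⟨⟨LinearMap.toMatrix' z.toLinearMap, LinearMap.toMatrix' z.symm.toLinearMap, by
    rw [← LinearMap.toMatrix'_comp, LinearEquiv.comp_coe, LinearEquiv.symm_trans_self, LinearEquiv.refl_toLinearMap,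
      LinearMap.toMatrix'_id], by
    rw [← LinearMap.toMatrix'_comp, LinearEquiv.comp_coe, LinearEquiv.self_trans_symm, LinearEquiv.refl_toLinearMap,
      LinearMap.toMatrix'_id]⟩, fun v => LinearMap.toMatrix'_mulVec z.toLinearMap v⟩

theorem GL_ext {A B : GL κ F} (h : ∀ v, (A : Matrix κ κ F) *ᵥ v = (B : Matrix κ κ F) *ᵥ v) : A = B := by
  apply Units.ext
  apply Matrix.toLin'.injective
  apply LinearMap.ext
  intro v
  rw [Matrix.toLin'_apply, Matrix.toLin'_apply]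
  exact h v

end LE

section

variable {F : Type u} [Field F] [Fintype F] {E : Type v} [Field E] [Algebra F E] {p : ℕ}
  [IsAlgClosed E] [hp : Fact p.Prime] {ζ : E} (hζ : IsPrimitiveRoot ζ p)

include hζ

/-- conjugacy of isometries of a bilinear form -/
theorem conj_isom (hp2 : p ≠ 2) {κ : Type} [Fintype κ] [DecidableEq κ] (B : (κ → F) →ₗ[F] (κ → F) →ₗ[F] F) (ε : F)
    (hB : ∀ u, (∀ v, B u v = 0) → u = 0) (hBs : ∀ u v, B v u = ε * B u v) {C C' : GL κ F} (hC : C ^ p = 1)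
    (hC' : C' ^ p = 1) (hty : ty (r := p) ζ (C : Matrix κ κ F) = ty ζ (C' : Matrix κ κ F))
    (h1 : ∀ u v, B ((C : Matrix κ κ F) *ᵥ u) ((C : Matrix κ κ F) *ᵥ v) = B u v)
    (h2 : ∀ u v, B ((C' : Matrix κ κ F) *ᵥ u) ((C' : Matrix κ κ F) *ᵥ v) = B u v)
    (hfix : ∀ v, (C : Matrix κ κ F) *ᵥ v = v → v = 0) :
    ∃ k : GL κ F, k * C * k⁻¹ = C' ∧ ∀ u v, B ((k : Matrix κ κ F) *ᵥ u) ((k : Matrix κ κ F) *ᵥ v) = B u v := by
  obtain ⟨x, hx⟩ := isConj_iff.1 ((isConj_iff_ty hζ hC hC').2 hty)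
  have hx' : x * C = C' * x := by rw [← hx]; group
  obtain ⟨z, hz1, hz2⟩ := InvForm.exists_isometry B B ε hB hB hBs hBs (toLE C) (toLE C')
    (fun u v => by rw [toLE_apply, toLE_apply, h1]) (fun u v => by rw [toLE_apply, toLE_apply, h2])
    (fun v hv => hfix v (by
      have := OrthConj.sq_fixed (toLE C) (toLE_pow hC) ((Nat.Prime.eq_two_or_odd' hp.out).resolve_left hp2) hv
      rwa [toLE_apply] at this)) (toLE x) (fun v => by
      rw [toLE_apply, toLE_apply, toLE_apply, toLE_apply, Matrix.mulVec_mulVec, Matrix.mulVec_mulVec,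
        ← Units.val_mul, ← Units.val_mul, hx'])
  obtain ⟨k, hk⟩ := exists_GL z
  refine ⟨k, ?_, fun u v => by rw [hk, hk, hz2]⟩
  rw [mul_inv_eq_iff_eq_mul]
  apply GL_ext
  intro v
  rw [Units.val_mul, Units.val_mul, ← Matrix.mulVec_mulVec, ← Matrix.mulVec_mulVec, hk, hk, ← toLE_apply C, hz1,
    toLE_apply]

/-- no fixed vectors -/
theorem no_fix {κ : Type} [Fintype κ] [DecidableEq κ] {C : GL κ F}
    (h0 : ty (r := p) ζ (C : Matrix κ κ F) 0 = 0) (v : κ → F) (hv : (C : Matrix κ κ F) *ᵥ v = v) : v = 0 := by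
  by_contra h
  exact ty_zero_pos hζ h hv h0


omit [Fintype F] [IsAlgClosed E] hp hζ in
/-- matrices of linear automorphisms -/
theorem exists_GL_ty (ζ : E) [Fact p.Prime] {κ : Type} [Fintype κ] [DecidableEq κ] (g : (κ → F) ≃ₗ[F] (κ → F))
    (hg : (g.toLinearMap : Module.End F (κ → F)) ^ p = 1) :
    ∃ C : GL κ F, C ^ p = 1 ∧ (∀ v, (C : Matrix κ κ F) *ᵥ v = g v) ∧
      ∀ c : ZMod p, ty ζ (C : Matrix κ κ F) c = typ ζ g.toLinearMap.charpoly c := by
  obtain ⟨C, hC, hty, h⟩ := exists_matrix ζ (LinearEquiv.refl F (κ → F)) g hg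
  exact ⟨C, hC, fun v => h v, hty⟩

omit [Fintype F] in
theorem orb_neg_one (w : (ZMod p)ˣ) {c d : ZMod p} (h : AtomPeel.Orb (gen w) c d) :
    AtomPeel.Orb (gen w) c (-d) := by
  by_contra h1
  have h2 := ((inv_gen_iff w (ind (gen w) c)).1 ind_inv).2 d
  rw [ind_one h, ind_zero h1] at h2
  exact zero_ne_one h2

theorem exists_model_sp (w : (ZMod p)ˣ) (hw : (w : ZMod p) = (Fintype.card F : ZMod p)) (hp2 : p ≠ 2) {c : ZMod p}
    (hc : c ≠ 0) :
    ∃ (C : GL (Fin (orderOf (gen w))) F)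
      (B : (Fin (orderOf (gen w)) → F) →ₗ[F] (Fin (orderOf (gen w)) → F) →ₗ[F] F), C ^ p = 1 ∧
      ty (r := p) ζ (C : Matrix (Fin (orderOf (gen w))) (Fin (orderOf (gen w))) F) = ind (gen w) c ∧
      (∀ u, (∀ v, B u v = 0) → u = 0) ∧ (∀ u v, B v u = -1 * B u v) ∧ (∀ v, B v v = 0) ∧
      ∀ u v, B ((C : Matrix (Fin (orderOf (gen w))) (Fin (orderOf (gen w))) F) *ᵥ u)
        ((C : Matrix (Fin (orderOf (gen w))) (Fin (orderOf (gen w))) F) *ᵥ v) = B u v := by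
  obtain ⟨h1, h2⟩ := (inv_gen_iff w (ind (gen w) c)).1 ind_inv
  obtain ⟨g, b, hg, hgty, hbn, hbg, hfix⟩ := exists_bilin hζ w hw hp2 h1 h2 (ind_at_zero hc) (sum_ind hc)
  obtain ⟨B, hBn, hBs, hBg⟩ := InvForm.exists_form b hbn (-1) (by ring) g hbg hfix
  obtain ⟨C, hC, hCv, hty⟩ := exists_GL_ty ζ g hg
  exact ⟨C, B, hC, funext fun d => by rw [hty, hgty], hBn, hBs, InvForm.alt_of_skew B hBs g hBg hfix,
    fun u v => by rw [hCv, hCv, hBg]⟩

theorem exists_model_quad (w : (ZMod p)ˣ) (hw : (w : ZMod p) = (Fintype.card F : ZMod p)) (hp2 : p ≠ 2) {n : ℕ}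
    {a : ZMod p → ℕ} (ha : Inv (gen w) a) (h0 : a 0 = 0) (hn : ∑ c, a c = n) :
    ∃ (C : GL (Fin n) F) (P : QuadraticForm F (Fin n → F)), C ^ p = 1 ∧
      ty (r := p) ζ (C : Matrix (Fin n) (Fin n) F) = a ∧ Cfsg.Agent.LieClassical.OrthCore.Nondeg P ∧
      ∀ v, P ((C : Matrix (Fin n) (Fin n) F) *ᵥ v) = P v := by
  obtain ⟨h1, h2⟩ := (inv_gen_iff w a).1 ha
  obtain ⟨g, P, hg, hgty, hP, hPg, -⟩ := OrthReal.exists_space hζ w hw hp2 h1 h2 h0 hn
  obtain ⟨C, hC, hCv, hty⟩ := exists_GL_ty ζ g hg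
  exact ⟨C, P, hC, funext fun d => by rw [hty, hgty], hP, fun v => by rw [hCv, hPg]⟩

omit [Fintype F] [Field F] [Field E] [Algebra F E] [IsAlgClosed E] hζ in
theorem ind_le {w : (ZMod p)ˣ} {c : ZMod p} {a : ZMod p → ℕ} (ha : Inv w a) (hc : a c ≠ 0) (d : ZMod p) :
    ind w c d ≤ a d := by
  by_cases hd : AtomPeel.Orb w c d
  · rw [ind_one hd]
    obtain ⟨s, hs, rfl⟩ := hd
    obtain ⟨k, rfl⟩ := hs
    have h1 := Inv.zpow w ha k c
    change 1 ≤ a (((w ^ k : (ZMod p)ˣ) : ZMod p) * c)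
    rw [h1]
    exact Nat.one_le_iff_ne_zero.2 hc
  · rw [ind_zero hd]
    exact Nat.zero_le _

omit [Fintype F] in
/-- equivariant isomorphisms from types -/
theorem exists_equiv {V W : Type*} [AddCommGroup V] [Module F V] [FiniteDimensional F V] [AddCommGroup W] [Module F W]
    [FiniteDimensional F W] (g : V ≃ₗ[F] V) (h : W ≃ₗ[F] W) (hg : (g.toLinearMap : Module.End F V) ^ p = 1)
    (hh : (h.toLinearMap : Module.End F W) ^ p = 1)
    (hty : ∀ c : ZMod p, typ ζ g.toLinearMap.charpoly c = typ ζ h.toLinearMap.charpoly c) :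
    ∃ x : V ≃ₗ[F] W, ∀ v, x (g v) = h (x v) := by
  obtain ⟨n, ⟨e₁⟩⟩ : ∃ n, Nonempty ((Fin n → F) ≃ₗ[F] V) := ⟨_, ⟨(Module.finBasis F V).equivFun.symm⟩⟩
  obtain ⟨m, ⟨e₂⟩⟩ : ∃ n, Nonempty ((Fin n → F) ≃ₗ[F] W) := ⟨_, ⟨(Module.finBasis F W).equivFun.symm⟩⟩
  obtain ⟨N₁, hN₁, ht₁, h₁⟩ := exists_matrix ζ e₁ g hg
  obtain ⟨N₂, hN₂, ht₂, h₂⟩ := exists_matrix ζ e₂ h hh
  have hdim : n = m := by
    have s1 := sum_ty hζ (M := (N₁ : Matrix (Fin n) (Fin n) F)) (by rw [← Units.val_pow_eq_pow_val, hN₁, Units.val_one])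
    have s2 := sum_ty hζ (M := (N₂ : Matrix (Fin m) (Fin m) F)) (by rw [← Units.val_pow_eq_pow_val, hN₂, Units.val_one])
    rw [Fintype.card_fin] at s1 s2
    rw [← s1, ← s2]
    exact Finset.sum_congr rfl fun c _ => by rw [ht₁, ht₂, hty]
  subst hdim
  obtain ⟨c, hc⟩ := isConj_iff.1 ((isConj_iff_ty hζ hN₁ hN₂).2 (funext fun d => by rw [ht₁, ht₂, hty]))
  have hc' : c * N₁ = N₂ * c := by rw [← hc]; group
  refine ⟨(e₁.symm.trans (toLE c)).trans e₂, fun v => ?_⟩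
  have h3 : g v = e₁ ((N₁ : Matrix (Fin n) (Fin n) F) *ᵥ (e₁.symm v)) := by rw [h₁, LinearEquiv.apply_symm_apply]
  rw [h3]
  simp only [LinearEquiv.trans_apply, LinearEquiv.symm_apply_apply]
  rw [← h₂, toLE_apply, toLE_apply, Matrix.mulVec_mulVec, Matrix.mulVec_mulVec, ← Units.val_mul, ← Units.val_mul, hc']

omit [Fintype F] [IsAlgClosed E] hp hζ in
theorem prod_pow {V W : Type*} [AddCommGroup V] [Module F V] [AddCommGroup W] [Module F W]
    (g : V ≃ₗ[F] V) (h : W ≃ₗ[F] W) (hg : (g.toLinearMap : Module.End F V) ^ p = 1)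
    (hh : (h.toLinearMap : Module.End F W) ^ p = 1) :
    ((g.prodCongr h).toLinearMap : Module.End F (V × W)) ^ p = 1 := by
  apply LinearMap.ext
  rintro ⟨u, v⟩
  have h1 : ∀ k : ℕ, (((g.prodCongr h).toLinearMap : Module.End F (V × W)) ^ k) (u, v) =
      (((g.toLinearMap : Module.End F _) ^ k) u, ((h.toLinearMap : Module.End F _) ^ k) v) := by
    intro k
    induction k with
    | zero => rfl
    | succ k ih => rw [OrthConj.pow_apply_succ, ih, OrthConj.pow_apply_succ, OrthConj.pow_apply_succ]; rfl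
  rw [h1, hg, hh]
  rfl

omit [Fintype F] [IsAlgClosed E] hp hζ in
theorem prod_typ (ζ : E) [Fact p.Prime] {V W : Type*} [AddCommGroup V] [Module F V] [FiniteDimensional F V] [AddCommGroup W]
    [Module F W] [FiniteDimensional F W]
    (g : V ≃ₗ[F] V) (h : W ≃ₗ[F] W) (c : ZMod p) :
    typ ζ (g.prodCongr h).toLinearMap.charpoly c = typ ζ g.toLinearMap.charpoly c + typ ζ h.toLinearMap.charpoly c := by
  have h1 : (g.prodCongr h).toLinearMap = g.toLinearMap.prodMap h.toLinearMap := rfl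
  rw [h1, LinearMap.charpoly_prodMap, typ_mul ζ (LinearMap.charpoly_monic _).ne_zero (LinearMap.charpoly_monic _).ne_zero]

end

end Cfsg.Agent.H104.AtomIsom
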