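import Cfsg.Agent.H104.AtomIsom
import Cfsg.Agent.H175.OmegaAdjust

/-!
# Splitting off a model in a quadratic space, fixed spaces
-/

set_option autoImplicit false
set_option linter.unusedSectionVars false

open Matrix

namespace Cfsg.Agent.H104.AtomQuad

open Cfsg.Agent.H193 Cfsg.Agent.H193.Types Cfsg.Agent.H193.Count Cfsg.Agent.H193.Realise Cfsg.Agent.H193.RealForm
  AtomTypes AtomSys AtomGL AtomTools AtomForm AtomGU AtomIsom ClosedSet H795 QuadraticMap
  Cfsg.Agent.LieClassical.OrthCore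

universe u v

section fixS

variable {F : Type*} [Field F] {V : Type*} [AddCommGroup V] [Module F V] {N : ℕ}

/-- the fixed vectors -/
def fixS (x : V ≃ₗ[F] V) : Submodule F V := LinearMap.ker (x.toLinearMap - LinearMap.id)

theorem mem_fixS {x : V ≃ₗ[F] V} {v : V} : v ∈ fixS x ↔ x v = v := by
  rw [fixS, LinearMap.mem_ker, LinearMap.sub_apply, LinearMap.id_apply, sub_eq_zero]
  rfl

theorem isCompl_fixS (x : V ≃ₗ[F] V) (hx : (x.toLinearMap : Module.End F V) ^ N = 1) (hN : (N : F) ≠ 0) :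
    IsCompl (LinearMap.ker (OrthConj.T x N)) (fixS x) := by
  constructor
  · rw [Submodule.disjoint_def]
    intro v hv hv'
    rw [LinearMap.mem_ker] at hv
    rw [OrthConj.T_fixed x N (mem_fixS.1 hv')] at hv
    exact (smul_eq_zero.1 hv).resolve_left hN
  · rw [codisjoint_iff, eq_top_iff]
    intro v _
    obtain ⟨u, v', rfl, hu, hv'⟩ := OrthConj.decomp x hx hN v
    rw [add_comm]
    exact Submodule.add_mem_sup (LinearMap.mem_ker.2 hv') (mem_fixS.2 hu)

theorem exists_restr (x : V ≃ₗ[F] V) (hx : (x.toLinearMap : Module.End F V) ^ N = 1) :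
    ∃ x' : LinearMap.ker (OrthConj.T x N) ≃ₗ[F] LinearMap.ker (OrthConj.T x N), (∀ v, (x' v : V) = x v) ∧
      (x'.toLinearMap : Module.End F (LinearMap.ker (OrthConj.T x N))) ^ N = 1 := by
  obtain ⟨x', hx'⟩ : ∃ x' : LinearMap.ker (OrthConj.T x N) ≃ₗ[F] LinearMap.ker (OrthConj.T x N), ∀ v, (x' v : V) = x v := by
    refine ⟨LinearEquiv.ofSubmodules x (LinearMap.ker (OrthConj.T x N)) (LinearMap.ker (OrthConj.T x N)) ?_, fun v => rfl⟩
    ext v
    rw [Submodule.mem_map]
    constructor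
    · rintro ⟨w, hw, rfl⟩
      rw [LinearMap.mem_ker] at hw ⊢
      exact (OrthConj.T_g x hx w).trans hw
    · intro hv
      refine ⟨x.symm v, ?_, x.apply_symm_apply v⟩
      rw [LinearMap.mem_ker] at hv ⊢
      rw [← OrthConj.T_g x hx, LinearEquiv.apply_symm_apply, hv]
  refine ⟨x', hx', LinearMap.ext fun v => Subtype.ext ?_⟩
  have h1 : ∀ k : ℕ, ((((x'.toLinearMap : Module.End F _) ^ k) v : LinearMap.ker (OrthConj.T x N)) : V) =
      ((x.toLinearMap : Module.End F V) ^ k) v := by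
    intro k
    induction k with
    | zero => rfl
    | succ k ih => rw [OrthConj.pow_apply_succ, hx', ih, OrthConj.pow_apply_succ]
  rw [h1, hx]
  rfl

/-- the fixed space is nondegenerate -/
theorem fixS_nondeg {Q : QuadraticForm F V} (hQ : (polarBilin Q).Nondegenerate) (x : V ≃ₗ[F] V) (hxQ : ∀ v, Q (x v) = Q v)
    (hx : (x.toLinearMap : Module.End F V) ^ N = 1) (hN : (N : F) ≠ 0) :
    ∀ u ∈ fixS x, (∀ v ∈ fixS x, polar Q u v = 0) → u = 0 := by
  intro u hu h
  apply hQ.1
  intro v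
  obtain ⟨a, v', rfl, ha, hv'⟩ := OrthConj.decomp x hx hN v
  rw [map_add, OrthConj.polar_fixed x hxQ hN (mem_fixS.1 hu) hv', add_zero]
  exact h a (mem_fixS.2 ha)

theorem kerT_nondeg {Q : QuadraticForm F V} (hQ : (polarBilin Q).Nondegenerate) (x : V ≃ₗ[F] V) (hxQ : ∀ v, Q (x v) = Q v)
    (hx : (x.toLinearMap : Module.End F V) ^ N = 1) (hN : (N : F) ≠ 0) :
    (polarBilin (Q.comp (LinearMap.ker (OrthConj.T x N)).subtype)).Nondegenerate := by
  have hpol : ∀ u v : LinearMap.ker (OrthConj.T x N), polarBilin (Q.comp (LinearMap.ker (OrthConj.T x N)).subtype) u v =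
      polarBilin Q (u : V) (v : V) := by
    intro u v
    simp only [polarBilin_apply_apply, QuadraticMap.polar, QuadraticMap.comp_apply, Submodule.coe_subtype,
      Submodule.coe_add]
  have hrefl : (polarBilin (Q.comp (LinearMap.ker (OrthConj.T x N)).subtype)).IsRefl := by
    intro u v huv
    rw [ClassicalGeometry.WittQuad.polar_comm', huv]
  rw [hrefl.nondegenerate_iff_separatingLeft]
  intro u hu
  apply Subtype.ext
  apply hQ.1
  intro v
  obtain ⟨a, v', rfl, ha, hv'⟩ := OrthConj.decomp x hx hN v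
  rw [map_add, ClassicalGeometry.WittQuad.polar_comm' Q _ a, OrthConj.polar_fixed x hxQ hN ha (LinearMap.mem_ker.1 u.2),
    zero_add]
  have := hu ⟨v', LinearMap.mem_ker.2 hv'⟩
  rwa [hpol] at this

end fixS

section

variable {F : Type u} [Field F] {E : Type v} [Field E] [Algebra F E] {p : ℕ}
  [IsAlgClosed E] [hp : Fact p.Prime] {ζ : E} (hζ : IsPrimitiveRoot ζ p)

include hζ

/-- the type of a map without fixed vectors vanishes at `0` -/
theorem typ_zero {V : Type*} [AddCommGroup V] [Module F V] [FiniteDimensional F V] (x : V ≃ₗ[F] V)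
    (h : ∀ v, x v = v → v = 0) : typ ζ x.toLinearMap.charpoly (0 : ZMod p) = 0 := by
  rw [typ_eq_rootMultiplicity, ZMod.val_zero, pow_zero, Polynomial.rootMultiplicity_eq_zero_iff]
  intro h1
  exfalso
  have h2 : x.toLinearMap.charpoly.IsRoot (1 : F) := by
    rw [← map_one (algebraMap F E)] at h1
    rw [Polynomial.IsRoot, Polynomial.eval_map, Polynomial.eval₂_hom] at h1
    exact (map_eq_zero (algebraMap F E)).1 h1
  obtain ⟨v, hv⟩ := ((Module.End.hasEigenvalue_iff_isRoot_charpoly x.toLinearMap (1 : F)).2 h2).exists_hasEigenvector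
  have h3 := hv.apply_eq_smul
  rw [one_smul] at h3
  exact hv.2 (h v h3)

/-- types of the identity -/
theorem typ_id' {V : Type*} [AddCommGroup V] [Module F V] [FiniteDimensional F V] (d : ZMod p) :
    typ ζ (LinearEquiv.refl F V).toLinearMap.charpoly d = if d = 0 then Module.finrank F V else 0 := by
  have h1 : (LinearEquiv.refl F V).toLinearMap.charpoly =
      (LinearMap.id : (Fin (Module.finrank F V) → F) →ₗ[F] (Fin (Module.finrank F V) → F)).charpoly := by
    have h2 := LinearEquiv.charpoly_conj (Module.finBasis F V).equivFun (LinearEquiv.refl F V).toLinearMap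
    rw [← h2]
    congr 1
    apply LinearMap.ext
    intro v
    simp [LinearEquiv.conj_apply]
  rw [h1, typ_id hζ, Fintype.card_fin]

/-- the types of the restriction, and the dimension of the fixed space -/
theorem typ_restr {V : Type*} [AddCommGroup V] [Module F V] [FiniteDimensional F V] (x : V ≃ₗ[F] V)
    (hx : (x.toLinearMap : Module.End F V) ^ p = 1)
    (x' : LinearMap.ker (OrthConj.T x p) ≃ₗ[F] LinearMap.ker (OrthConj.T x p)) (hx' : ∀ v, (x' v : V) = x v) :
    (∀ d : ZMod p, typ ζ x'.toLinearMap.charpoly d = if d = 0 then 0 else typ ζ x.toLinearMap.charpoly d) ∧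
      typ ζ x.toLinearMap.charpoly (0 : ZMod p) = Module.finrank F (fixS x) := by
  have hpF : (p : F) ≠ 0 := Types.natCast_ne_zero hζ
  have h1 := isCompl_fixS x hx hpF
  let D := Submodule.prodEquivOfIsCompl _ _ h1
  have h2 : x.toLinearMap = D.conj (x'.prodCongr (LinearEquiv.refl F (fixS x))).toLinearMap := by
    apply LinearMap.ext
    intro v
    obtain ⟨⟨a, b⟩, rfl⟩ := D.surjective v
    rw [LinearEquiv.conj_apply, LinearMap.comp_apply, LinearMap.comp_apply]
    simp only [LinearEquiv.coe_coe, LinearEquiv.symm_apply_apply, LinearEquiv.prodCongr_apply, LinearEquiv.refl_apply]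
    rw [Submodule.coe_prodEquivOfIsCompl', Submodule.coe_prodEquivOfIsCompl', map_add, hx', mem_fixS.1 b.2]
  have h3 : ∀ d : ZMod p, typ ζ x.toLinearMap.charpoly d = typ ζ x'.toLinearMap.charpoly d +
      if d = 0 then Module.finrank F (fixS x) else 0 := by
    intro d
    rw [← typ_id' hζ, ← prod_typ ζ x' (LinearEquiv.refl F (fixS x)) d]
    conv_lhs => rw [h2]
    rw [LinearEquiv.charpoly_conj]
  have h4 : typ ζ x'.toLinearMap.charpoly (0 : ZMod p) = 0 := by
    refine typ_zero hζ x' fun v hv => ?_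
    have h5 : x v = v := by rw [← hx', hv]
    have h6 := OrthConj.T_fixed x p h5
    rw [LinearMap.mem_ker.1 v.2] at h6
    exact Subtype.ext ((smul_eq_zero.1 h6.symm).resolve_left hpF)
  refine ⟨fun d => ?_, ?_⟩
  · by_cases hd : d = 0
    · rw [if_pos hd, hd, h4]
    · rw [if_neg hd, h3 d, if_neg hd, add_zero]
  · rw [h3, h4, if_pos rfl, zero_add]

/-- dimension of the fixed space -/
theorem finrank_fixS {ι : Type} [Fintype ι] [DecidableEq ι] {x : GL ι F} (hx : x ^ p = 1) :
    Module.finrank F (fixS (toLE x)) = ty ζ (x : Matrix ι ι F) (0 : ZMod p) := by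
  obtain ⟨x', hx', -⟩ := exists_restr (toLE x) (toLE_pow hx)
  rw [← (typ_restr hζ (toLE x) (toLE_pow hx) x' hx').2, toLE_lin, Types.charpoly_toLin']
  rfl

set_option maxHeartbeats 400000 in
/-- **Splitting off a model.** -/
theorem split_quad [Fintype F] (w : (ZMod p)ˣ) (hw : (w : ZMod p) = (Fintype.card F : ZMod p)) (hp2 : p ≠ 2)
    {ι : Type} [Fintype ι] [DecidableEq ι] {Q : QuadraticForm F (ι → F)} (hQ : (polarBilin Q).Nondegenerate)
    {x : GL ι F} (hx : x ^ p = 1) (hxQ : ∀ v, Q ((x : Matrix ι ι F) *ᵥ v) = Q v)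
    (hinv : Inv (gen w) (ty (r := p) ζ (x : Matrix ι ι F)))
    {κ : Type} [Fintype κ] [DecidableEq κ] {P : QuadraticForm F (κ → F)} (hP : Nondeg P) {C : GL κ F} (hC : C ^ p = 1)
    (hCP : ∀ v, P ((C : Matrix κ κ F) *ᵥ v) = P v)
    (hCinv : Inv (gen w) (ty (r := p) ζ (C : Matrix κ κ F)))
    (hC0 : ty (r := p) ζ (C : Matrix κ κ F) 0 = 0)
    (hle : ∀ d : ZMod p, ty ζ (C : Matrix κ κ F) d ≤ ty ζ (x : Matrix ι ι F) d) :
    ∃ (R : Type u) (_ : AddCommGroup R) (_ : Module F R) (e : (ι → F) ≃ₗ[F] (κ → F) × R) (xR : R → R) (QR : R → F),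
      (∀ v, e ((x : Matrix ι ι F) *ᵥ v) = ((C : Matrix κ κ F) *ᵥ (e v).1, xR (e v).2)) ∧
      ∀ v, Q v = P (e v).1 + QR (e v).2 := by
  classical
  have hpF : (p : F) ≠ 0 := Types.natCast_ne_zero hζ
  obtain ⟨b, hb⟩ : ∃ b : ZMod p → ℕ, b = fun d => if d = 0 then 0 else
      ty ζ (x : Matrix ι ι F) d - ty ζ (C : Matrix κ κ F) d := ⟨_, rfl⟩
  have hb0 : b 0 = 0 := by rw [hb]; simp
  have hb1 : ∀ d, d ≠ 0 → b d = ty ζ (x : Matrix ι ι F) d - ty ζ (C : Matrix κ κ F) d := fun d hd => by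
    rw [hb]; simp [hd]
  have hbinv : Inv (gen w) b := by
    intro d
    by_cases hd : d = 0
    · rw [hd, mul_zero]
    · rw [hb1 _ (mul_ne_zero (gen w).ne_zero hd), hb1 d hd, hinv, hCinv]
  obtain ⟨n, hn⟩ : ∃ n, ∑ c, b c = n := ⟨_, rfl⟩
  obtain ⟨M, P₂, hM, hMty, hP₂, hMP⟩ := exists_model_quad hζ w hw hp2 hbinv hb0 hn
  obtain ⟨x', hx', hx'p⟩ := exists_restr (toLE x) (toLE_pow hx)
  have htr := typ_restr hζ (toLE x) (toLE_pow hx) x' hx'
  have hxE : ∀ d : ZMod p, typ ζ (toLE x).toLinearMap.charpoly d = ty ζ (x : Matrix ι ι F) d := fun d => by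
    rw [toLE_lin, Types.charpoly_toLin']; rfl
  obtain ⟨y, hy⟩ := exists_equiv hζ x' ((toLE C).prodCongr (toLE M)) hx'p
    (prod_pow _ _ (toLE_pow hC) (toLE_pow hM)) (fun d => by
      rw [htr.1, prod_typ ζ, toLE_lin C, toLE_lin M, Types.charpoly_toLin', Types.charpoly_toLin']
      have e1 : typ ζ (M : Matrix (Fin n) (Fin n) F).charpoly d = b d := congrFun hMty d
      have e2 : typ ζ (C : Matrix κ κ F).charpoly d = ty ζ (C : Matrix κ κ F) d := rfl
      rw [e1, e2]
      by_cases hd : d = 0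
      · rw [if_pos hd, hd, hC0, hb0]
      · rw [if_neg hd, hxE, hb1 d hd]
        have := hle d
        omega)
  -- the form on the model
  obtain ⟨P', hP'⟩ : ∃ P' : QuadraticForm F ((κ → F) × (Fin n → F)), ∀ u, P' u = P u.1 + P₂ u.2 :=
    ⟨P.comp (LinearMap.fst F _ _) + P₂.comp (LinearMap.snd F _ _), fun u => rfl⟩
  have hpolar : ∀ u v, polar P' u v = polar P u.1 v.1 + polar P₂ u.2 v.2 := by
    intro u v
    simp only [polar, hP', Prod.fst_add, Prod.snd_add]
    ring
  have hP'n : (polarBilin P').Nondegenerate := OrthReal.nondegenerate_of (Q := P') (by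
    rintro ⟨u1, u2⟩ hu
    have h1 : u1 = 0 := hP _ fun v => by
      have := hu (v, 0)
      rw [hpolar] at this
      simpa [polar_zero_right] using this
    have h2 : u2 = 0 := hP₂ _ fun v => by
      have := hu (0, v)
      rw [hpolar] at this
      simpa [polar_zero_right] using this
    rw [h1, h2]; rfl)
  have hQE : ∀ v, Q (toLE x v) = Q v := fun v => by rw [toLE_apply]; exact hxQ v
  obtain ⟨z, hz1, hz2⟩ := InvForm.exists_isometry_quad (Q.comp (LinearMap.ker (OrthConj.T (toLE x) p)).subtype) P'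
    (kerT_nondeg hQ (toLE x) hQE (toLE_pow hx) hpF) hP'n x' ((toLE C).prodCongr (toLE M))
    (fun v => by simp only [QuadraticMap.comp_apply, Submodule.coe_subtype, hx', hQE])
    (fun v => by
      rw [hP', hP']
      change P (toLE C v.1) + P₂ (toLE M v.2) = _
      rw [toLE_apply, toLE_apply, hCP, hMP])
    (fun v hv => by
      have h1 : toLE x (toLE x (v : ι → F)) = v := by rw [← hx', ← hx', hv]
      have h2 := OrthConj.sq_fixed (toLE x) (toLE_pow hx) ((Nat.Prime.eq_two_or_odd' hp.out).resolve_left hp2) h1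
      have h3 := OrthConj.T_fixed (toLE x) p h2
      rw [LinearMap.mem_ker.1 v.2] at h3
      exact Subtype.ext ((smul_eq_zero.1 h3.symm).resolve_left hpF)) y hy
  have hcompl := isCompl_fixS (toLE x) (toLE_pow hx) hpF
  let D := Submodule.prodEquivOfIsCompl _ _ hcompl
  let e : (ι → F) ≃ₗ[F] (κ → F) × ((Fin n → F) × fixS (toLE x)) :=
    (D.symm.trans (z.prodCongr (LinearEquiv.refl F (fixS (toLE x))))).trans (LinearEquiv.prodAssoc F _ _ _)
  have he : ∀ (a : LinearMap.ker (OrthConj.T (toLE x) p)) (c : fixS (toLE x)), e ((a : ι → F) + c) = ((z a).1, ((z a).2, c)) := by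
    intro a c
    have h1 : D (a, c) = (a : ι → F) + c := Submodule.coe_prodEquivOfIsCompl' _ _ hcompl (a, c)
    rw [← h1]
    change (LinearEquiv.prodAssoc F _ _ _) ((z.prodCongr (LinearEquiv.refl F (fixS (toLE x)))) (D.symm (D (a, c)))) = _
    rw [LinearEquiv.symm_apply_apply]
    rfl
  have hdec : ∀ v : ι → F, ∃ (a : LinearMap.ker (OrthConj.T (toLE x) p)) (c : fixS (toLE x)), v = (a : ι → F) + c := by
    intro v
    obtain ⟨⟨a, c⟩, rfl⟩ := D.surjective v
    exact ⟨a, c, Submodule.coe_prodEquivOfIsCompl' _ _ hcompl (a, c)⟩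
  refine ⟨(Fin n → F) × fixS (toLE x), inferInstance, inferInstance, e,
    fun r => ((M : Matrix (Fin n) (Fin n) F) *ᵥ r.1, r.2), fun r => P₂ r.1 + Q r.2, fun v => ?_, fun v => ?_⟩
  · obtain ⟨a, c, rfl⟩ := hdec v
    have h1 : (x : Matrix ι ι F) *ᵥ ((a : ι → F) + c) = ((x' a : LinearMap.ker (OrthConj.T (toLE x) p)) : ι → F) + c := by
      rw [Matrix.mulVec_add, hx', toLE_apply]
      congr 1
      have := mem_fixS.1 c.2
      rwa [toLE_apply] at this
    rw [h1, he, he, hz1]
    change ((toLE C) (z a).1, ((toLE M) (z a).2, c)) = _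
    rw [toLE_apply, toLE_apply]
  · obtain ⟨a, c, rfl⟩ := hdec v
    rw [he]
    have h1 : Q ((a : ι → F) + c) = Q (a : ι → F) + Q (c : ι → F) := by
      rw [QuadraticMap.map_add ⇑Q, QuadraticMap.polar_comm]
      have := OrthConj.polar_fixed (Q := Q) (toLE x) hQE hpF (mem_fixS.1 c.2) (LinearMap.mem_ker.1 a.2)
      rw [polarBilin_apply_apply] at this
      rw [this, add_zero]
    have h2 := hz2 a
    rw [hP'] at h2
    have h3 : (Q.comp (LinearMap.ker (OrthConj.T (toLE x) p)).subtype) a = Q (a : ι → F) := rfl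
    rw [h3] at h2
    rw [h1, ← h2]
    ring

end

end Cfsg.Agent.H104.AtomQuad
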