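import Cfsg.Agent.H104.Closed

/-!
# Atoms and `NormOm`

`ρ : G →* Matrix ι ι F` faithful, characteristic prime to `p`; `At` a set of elements `y` with `y ^ p = 1`
("atoms") whose eigenspaces for the eigenvalues `≠ 1` are lines (`comm`).

* `normOm_crit` : if some Sylow subgroup `S` is trivial on the fixed space of its atoms, `NormOm p G`;
* `normOm_of_trunc` : if every element of order `p` has an atom in its support and `p`-elements can be truncated,
  `NormOm p G`;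
* `clIrr_of` : irreducibility.
-/

set_option autoImplicit false

namespace Cfsg.Agent.H104.AtomSys

open Subgroup H795 ClosedSet Module
open scoped Matrix

variable {F : Type*} [Field F] {ι : Type} [Fintype ι] [DecidableEq ι]

/-- fixed space -/
def fx (M : Matrix ι ι F) : Submodule F (ι → F) := LinearMap.ker (Matrix.mulVecLin (M - 1))

theorem mem_fx {M : Matrix ι ι F} {v : ι → F} : v ∈ fx M ↔ M *ᵥ v = v := by
  rw [fx, LinearMap.mem_ker, Matrix.mulVecLin_apply, Matrix.sub_mulVec, Matrix.one_mulVec, sub_eq_zero]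

variable {G : Type*} [Group G] [Finite G]

/-- averages -/
noncomputable def avg (ρ : G →* Matrix ι ι F) (A : Subgroup G) : Matrix ι ι F :=
  letI := Fintype.ofFinite A
  ((Nat.card A : ℕ) : F)⁻¹ • ∑ a : A, ρ a

variable {ρ : G →* Matrix ι ι F} {A : Subgroup G}

theorem mul_avg {a : G} (ha : a ∈ A) : ρ a * avg ρ A = avg ρ A := by
  let _ := Fintype.ofFinite A
  rw [avg, mul_smul_comm, Finset.mul_sum]
  congr 1
  refine Fintype.sum_equiv (Equiv.mulLeft (⟨a, ha⟩ : A)) _ _ fun b => ?_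
  rw [Equiv.coe_mulLeft, ← map_mul]
  rfl

theorem avg_mul {a : G} (ha : a ∈ A) : avg ρ A * ρ a = avg ρ A := by
  let _ := Fintype.ofFinite A
  rw [avg, smul_mul_assoc, Finset.sum_mul]
  congr 1
  refine Fintype.sum_equiv (Equiv.mulRight (⟨a, ha⟩ : A)) _ _ fun b => ?_
  rw [Equiv.coe_mulRight, ← map_mul]
  rfl

theorem mul_avg_comm {X : Matrix ι ι F} (h : ∀ a ∈ A, X * ρ a = ρ a * X) : X * avg ρ A = avg ρ A * X := by
  let _ := Fintype.ofFinite A
  rw [avg, mul_smul_comm, smul_mul_assoc, Finset.mul_sum, Finset.sum_mul]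
  congr 1
  exact Finset.sum_congr rfl fun a _ => h a a.2

/-- if `X` kills all `ρ a - 1` then it kills `1 - avg` -/
theorem mul_one_sub_avg (hA : ((Nat.card A : ℕ) : F) ≠ 0) {X : Matrix ι ι F} (h : ∀ a ∈ A, X * (ρ a - 1) = 0) :
    X * (1 - avg ρ A) = 0 := by
  let _ := Fintype.ofFinite A
  have h1 : ∑ a : A, X * ρ a = ((Nat.card A : ℕ) : F) • X := by
    rw [Finset.sum_congr rfl fun (a : A) _ => (show X * ρ (a : G) = X by
      have := h a a.2
      rwa [mul_sub, mul_one, sub_eq_zero] at this)]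
    rw [Finset.sum_const, Finset.card_univ, ← Nat.card_eq_fintype_card, Nat.cast_smul_eq_nsmul]
  rw [mul_sub, mul_one, avg, mul_smul_comm, Finset.mul_sum, h1, smul_smul, inv_mul_cancel₀ hA, one_smul, sub_self]

theorem avg_mulVec (hA : ((Nat.card A : ℕ) : F) ≠ 0) {v : ι → F} (h : ∀ a ∈ A, ρ a *ᵥ v = v) : avg ρ A *ᵥ v = v := by
  let _ := Fintype.ofFinite A
  rw [avg, Matrix.smul_mulVec, Matrix.sum_mulVec, Finset.sum_congr rfl fun (a : A) _ => h (a : G) a.2, Finset.sum_const,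
    Finset.card_univ, ← Nat.card_eq_fintype_card, ← Nat.cast_smul_eq_nsmul F, smul_smul, inv_mul_cancel₀ hA, one_smul]

theorem avg_idem (hA : ((Nat.card A : ℕ) : F) ≠ 0) : avg ρ A * avg ρ A = avg ρ A := by
  have h1 : avg ρ A * (1 - avg ρ A) = 0 := mul_one_sub_avg hA fun a ha => by
    rw [mul_sub, mul_one, avg_mul ha, sub_self]
  rw [mul_sub, mul_one, sub_eq_zero] at h1
  exact h1.symm

omit [Finite G] in
/-- `M (ρ a - 1) = 0` propagates to the subgroup generated -/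
theorem closure_kill {X : Matrix ι ι F} {Y : Set G} (h : ∀ y ∈ Y, X * (ρ y - 1) = 0) : ∀ a ∈ closure Y, X * (ρ a - 1) = 0 := by
  intro a ha
  induction ha using closure_induction with
  | mem y hy => exact h y hy
  | one => rw [map_one, sub_self, mul_zero]
  | mul a b _ _ h1 h2 =>
    have h3 : ρ (a * b) - 1 = (ρ a - 1) * ρ b + (ρ b - 1) := by rw [map_mul]; noncomm_ring
    rw [h3, mul_add, ← mul_assoc, h1, zero_mul, h2, add_zero]
  | inv a _ h1 =>
    have h3 : ρ a⁻¹ - 1 = -((ρ a - 1) * ρ a⁻¹) := by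
      rw [sub_mul, ← map_mul, mul_inv_cancel, map_one, one_mul, neg_sub]
    rw [h3, mul_neg, ← mul_assoc, h1, zero_mul, neg_zero]

section

variable {p : ℕ} [hp : Fact p.Prime]

theorem card_ne_zero_of_pGroup (hpF : (p : F) ≠ 0) (hA : IsPGroup p A) : ((Nat.card A : ℕ) : F) ≠ 0 := by
  obtain ⟨n, hn⟩ := IsPGroup.iff_card.1 hA
  rw [hn, Nat.cast_pow]
  exact pow_ne_zero _ hpF

/-- **Criterion.** -/
theorem normOm_crit (hpF : (p : F) ≠ 0) (hρ : Function.Injective ρ) (At : Set G) (hpow : ∀ y ∈ At, y ^ p = 1)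
    (hcomm : ∀ y ∈ At, ∀ X Y : Matrix ι ι F, X * ρ y = ρ y * X → Y * ρ y = ρ y * Y → (X * Y - Y * X) * (ρ y - 1) = 0)
    (S : Sylow p G) (hfix : IsMulCommutative (S : Subgroup G) → ∀ s ∈ (S : Subgroup G), ∀ v : ι → F,
      (∀ y ∈ At, y ∈ (S : Subgroup G) → ρ y *ᵥ v = v) → ρ s *ᵥ v = v) : NormOm p G := by
  refine normOm_of S fun hab c hc s hs => ?_
  have hfix := hfix hab
  let Y : Set G := {y | y ∈ At ∧ y ∈ (S : Subgroup G)}
  have hYS : closure Y ≤ (S : Subgroup G) := (closure_le _).2 fun y hy => hy.2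
  have hYp : IsPGroup p (closure Y) := S.2.to_le hYS
  have hcard := card_ne_zero_of_pGroup hpF hYp
  have hcy : ∀ y ∈ Y, c * y = y * c := fun y hy => by
    have h1 := hc y hy.2 (hpow y hy.1)
    exact mul_inv_eq_iff_eq_mul.1 h1
  have hsy : ∀ y ∈ Y, s * y = y * s := fun y hy => H795.comm_of hab hs hy.2
  have hkill : ∀ a ∈ closure Y, (ρ c * ρ s - ρ s * ρ c) * (ρ a - 1) = 0 := closure_kill fun y hy =>
    hcomm y hy.1 _ _ (by rw [← map_mul, hcy y hy, map_mul]) (by rw [← map_mul, hsy y hy, map_mul])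
  have h1 := mul_one_sub_avg hcard hkill
  have hca : ∀ a ∈ closure Y, c * a = a * c := by
    intro a ha
    induction ha using closure_induction with
    | mem y hy => exact hcy y hy
    | one => rw [mul_one, one_mul]
    | mul a b _ _ h1 h2 => rw [← mul_assoc, h1, mul_assoc, h2, mul_assoc]
    | inv a _ h1 => exact ((show Commute c a from h1).inv_right).eq
  have hcavg : ρ c * avg ρ (closure Y) = avg ρ (closure Y) * ρ c := mul_avg_comm fun a ha => by
    rw [← map_mul, hca a ha, map_mul]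
  have hsavg : ρ s * avg ρ (closure Y) = avg ρ (closure Y) := by
    apply Matrix.toLin'.injective
    apply LinearMap.ext
    intro v
    rw [Matrix.toLin'_apply, Matrix.toLin'_apply, ← Matrix.mulVec_mulVec]
    apply hfix s hs
    intro y hy hyS
    rw [Matrix.mulVec_mulVec, mul_avg (subset_closure (show y ∈ Y from ⟨hy, hyS⟩))]
  have h2 : (ρ c * ρ s - ρ s * ρ c) * avg ρ (closure Y) = 0 := by
    rw [sub_mul, mul_assoc, hsavg, mul_assoc, hcavg, ← mul_assoc, hsavg, sub_self]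
  have h3 : ρ c * ρ s - ρ s * ρ c = 0 := by
    have h4 : ρ c * ρ s - ρ s * ρ c = (ρ c * ρ s - ρ s * ρ c) * avg ρ (closure Y) +
        (ρ c * ρ s - ρ s * ρ c) * (1 - avg ρ (closure Y)) := by noncomm_ring
    rw [h4, h1, h2, add_zero]
  apply hρ
  rw [map_mul, map_mul]
  exact sub_eq_zero.1 h3

/-- truncation of a `p`-element `s` to the fixed space of `A` -/
def Trunc (p : ℕ) (ρ : G →* Matrix ι ι F) : Prop :=
  ∀ (A : Subgroup G) (s : G), IsPGroup p A → (∀ a ∈ A, s * a = a * s) → (∃ k : ℕ, s ^ p ^ k = 1) →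
    ∃ t : G, ρ t = ρ s * avg ρ A + (1 - avg ρ A)

theorem normOm_of_trunc (hpF : (p : F) ≠ 0) (hρ : Function.Injective ρ) (At : Set G) (hpow : ∀ y ∈ At, y ^ p = 1)
    (hne : ∀ y ∈ At, y ≠ 1)
    (hcomm : ∀ y ∈ At, ∀ X Y : Matrix ι ι F, X * ρ y = ρ y * X → Y * ρ y = ρ y * Y → (X * Y - Y * X) * (ρ y - 1) = 0)
    (hdec : ∀ x : G, x ^ p = 1 → x ≠ 1 → ∃ y ∈ At, fx (ρ x) ≤ fx (ρ y) ∧
      ∀ v : ι → F, ∃ w : ι → F, ρ y *ᵥ v - v = ρ x *ᵥ w - w)
    (htr : Trunc p ρ) : NormOm p G := by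
  let W : Sylow p G → Submodule F (ι → F) := fun S => ⨅ y : {y // y ∈ At ∧ y ∈ (S : Subgroup G)}, fx (ρ y)
  have hW : ∀ S v, v ∈ W S ↔ ∀ y ∈ At, y ∈ (S : Subgroup G) → ρ y *ᵥ v = v := by
    intro S v
    rw [Submodule.mem_iInf]
    constructor
    · intro h y hy hyS
      exact mem_fx.1 (h ⟨y, hy, hyS⟩)
    · rintro h ⟨y, hy, hyS⟩
      exact mem_fx.2 (h y hy hyS)
  obtain ⟨S, hSmin⟩ := Finite.exists_min (fun S : Sylow p G => finrank F (W S))
  refine normOm_crit hpF hρ At hpow hcomm S fun hab s hs v0 hv0 => ?_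
  by_contra hsv
  let Y : Set G := {y | y ∈ At ∧ y ∈ (S : Subgroup G)}
  have hYS : closure Y ≤ (S : Subgroup G) := (closure_le _).2 fun y hy => hy.2
  have hYp : IsPGroup p (closure Y) := S.2.to_le hYS
  have hcard := card_ne_zero_of_pGroup hpF hYp
  set e := avg ρ (closure Y) with he
  have hee : e * e = e := avg_idem hcard
  have hsa : ∀ a ∈ closure Y, s * a = a * s := fun a ha => H795.comm_of hab hs (hYS ha)
  have hse : ρ s * e = e * ρ s := mul_avg_comm fun a ha => by rw [← map_mul, hsa a ha, map_mul]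
  obtain ⟨k, hk⟩ : ∃ k : ℕ, s ^ p ^ k = 1 := by
    obtain ⟨k, hk⟩ := S.2 ⟨s, hs⟩
    exact ⟨k, congrArg Subtype.val hk⟩
  obtain ⟨t, ht⟩ := htr (closure Y) s hYp hsa ⟨k, hk⟩
  rw [← he] at ht
  have hev : ∀ v : ι → F, (∀ a ∈ closure Y, ρ a *ᵥ v = v) → e *ᵥ v = v := fun v hv => avg_mulVec hcard hv
  have hfixcl : ∀ v : ι → F, (∀ y ∈ At, y ∈ (S : Subgroup G) → ρ y *ᵥ v = v) → ∀ a ∈ closure Y, ρ a *ᵥ v = v := by
    intro v hv a ha
    induction ha using closure_induction with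
    | mem y hy => exact hv y hy.1 hy.2
    | one => rw [map_one, Matrix.one_mulVec]
    | mul a b _ _ h1 h2 => rw [map_mul, ← Matrix.mulVec_mulVec, h2, h1]
    | inv a _ h1 =>
      nth_rewrite 1 [← h1]
      rw [Matrix.mulVec_mulVec, ← map_mul, inv_mul_cancel, map_one, Matrix.one_mulVec]
  have hmul : ∀ a ∈ closure Y, ρ a * e = e := fun a ha => mul_avg ha
  have hmul' : ∀ a ∈ closure Y, e * ρ a = e := fun a ha => avg_mul ha
  -- powers of `t`
  have htn : ∀ n : ℕ, ρ (t ^ n) = ρ (s ^ n) * e + (1 - e) := by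
    intro n
    induction n with
    | zero => rw [pow_zero, pow_zero, map_one, one_mul]; abel
    | succ n ih =>
      rw [pow_succ, map_mul, ih, ht, pow_succ, map_mul]
      have h1 : (ρ (s ^ n) * e + (1 - e)) * (ρ s * e + (1 - e)) = ρ (s ^ n) * (e * ρ s) * e + ρ (s ^ n) * (e - e * e) +
          (ρ s * e - (e * ρ s) * e) + (1 - e - (e - e * e)) := by noncomm_ring
      rw [h1, ← hse, mul_assoc (ρ s) e e, hee, mul_assoc (ρ (s ^ n)), mul_assoc (ρ s), hee]
      noncomm_ring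
  have htk : t ^ p ^ k = 1 := hρ (by rw [htn, hk, map_one, one_mul]; abel)
  have ht1 : t ≠ 1 := by
    intro h
    apply hsv
    have h1 : ρ t *ᵥ v0 = v0 := by rw [h, map_one, Matrix.one_mulVec]
    rw [ht, Matrix.add_mulVec, ← Matrix.mulVec_mulVec, Matrix.sub_mulVec, hev v0 (hfixcl v0 hv0), Matrix.one_mulVec,
      sub_self, add_zero] at h1
    exact h1
  -- an element of order `p`
  obtain ⟨m, hm1, hm2⟩ : ∃ m : ℕ, t ^ p ^ m ≠ 1 ∧ (t ^ p ^ m) ^ p = 1 := by
    have hex : ∃ n : ℕ, t ^ p ^ n = 1 := ⟨k, htk⟩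
    classical
    have h0 : Nat.find hex ≠ 0 := by
      intro h
      have := Nat.find_spec hex
      rw [h, pow_zero, pow_one] at this
      exact ht1 this
    obtain ⟨m, hm⟩ := Nat.exists_eq_succ_of_ne_zero h0
    refine ⟨m, Nat.find_min hex (by omega), ?_⟩
    have := Nat.find_spec hex
    rw [hm, Nat.succ_eq_add_one, pow_succ, pow_mul] at this
    exact this
  obtain ⟨z, hz, hzfix, hzrng⟩ := hdec (t ^ p ^ m) hm2 hm1
  -- `z - 1` lives on the fixed space
  have hWe : ∀ v, e *ᵥ v ∈ W S := fun v => (hW S _).2 fun y hy hyS => by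
    rw [Matrix.mulVec_mulVec, hmul y (subset_closure (show y ∈ Y from ⟨hy, hyS⟩))]
  have hz1 : ∀ v, e *ᵥ (ρ z *ᵥ v - v) = ρ z *ᵥ v - v := by
    intro v
    obtain ⟨w, hw⟩ := hzrng v
    have h1 : ρ (t ^ p ^ m) *ᵥ w - w = e *ᵥ (ρ (s ^ p ^ m) *ᵥ w - w) := by
      have h2 : ρ (s ^ p ^ m) * e = e * ρ (s ^ p ^ m) := by
        rw [map_pow]
        exact ((show Commute (ρ s) e from hse).pow_left _).eq
      rw [htn, h2, Matrix.add_mulVec, Matrix.sub_mulVec, Matrix.one_mulVec, Matrix.mulVec_sub, Matrix.mulVec_mulVec]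
      abel
    rw [hw, h1, Matrix.mulVec_mulVec, hee]
  have hz2 : ∀ v, ρ z *ᵥ (v - e *ᵥ v) = v - e *ᵥ v := by
    intro v
    apply mem_fx.1
    apply hzfix
    rw [mem_fx, htn, Matrix.add_mulVec, ← Matrix.mulVec_mulVec, Matrix.sub_mulVec, Matrix.one_mulVec, Matrix.mulVec_sub,
      Matrix.mulVec_mulVec, hee, sub_self, Matrix.mulVec_zero, zero_add, sub_zero]
  have hz2' : ∀ v, ρ z *ᵥ v - v = ρ z *ᵥ (e *ᵥ v) - e *ᵥ v := by
    intro v
    have h1 := hz2 v
    rw [Matrix.mulVec_sub] at h1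
    have h2 : ρ z *ᵥ v = v - e *ᵥ v + ρ z *ᵥ (e *ᵥ v) := by rw [← h1]; abel
    rw [h2]; abel
  have hza : ∀ a ∈ closure Y, z * a = a * z := by
    intro a ha
    apply hρ
    rw [map_mul, map_mul]
    apply Matrix.toLin'.injective
    apply LinearMap.ext
    intro v
    rw [Matrix.toLin'_apply, Matrix.toLin'_apply, ← Matrix.mulVec_mulVec, ← Matrix.mulVec_mulVec]
    have h1 : ρ z *ᵥ (ρ a *ᵥ v) = ρ a *ᵥ v + (ρ z *ᵥ v - v) := by
      have h2 := hz2' (ρ a *ᵥ v)
      have h5 : e *ᵥ (ρ a *ᵥ v) = e *ᵥ v := by rw [Matrix.mulVec_mulVec, hmul' a ha]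
      rw [h5, ← hz2' v] at h2
      rw [← h2]; abel
    have h3 : ρ a *ᵥ (ρ z *ᵥ v) = ρ a *ᵥ v + (ρ z *ᵥ v - v) := by
      have h4 : ρ z *ᵥ v = v + (ρ z *ᵥ v - v) := by abel
      nth_rewrite 1 [h4]
      rw [Matrix.mulVec_add, ← hz1 v, Matrix.mulVec_mulVec (v := ρ z *ᵥ v - v), hmul a ha]
    rw [h1, h3]
  -- a Sylow subgroup containing `closure Y` and `z`
  have hle : closure Y ≤ normalizer ((zpowers z : Subgroup G) : Set G) := by
    intro a ha
    rw [mem_normalizer_iff]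
    intro x
    have hzx : ∀ x ∈ zpowers z, a * x * a⁻¹ = x := by
      rintro x ⟨i, rfl⟩
      have h1 : Commute a (z ^ i) := (show Commute a z from (hza a ha).symm).zpow_right i
      change a * z ^ i * a⁻¹ = z ^ i
      rw [h1.eq, mul_inv_cancel_right]
    constructor
    · intro hx
      rw [hzx x hx]
      exact hx
    · intro hx
      have h1 := hzx _ hx
      have h2 : a * x * a⁻¹ = x := by
        have h3 : a * x * a⁻¹ = a⁻¹ * (a * (a * x * a⁻¹) * a⁻¹) * a := by group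
        rw [h1] at h3
        rw [h3]; group
      rwa [h2] at hx
  have hzp : IsPGroup p (zpowers z) := by
    rintro ⟨_, i, rfl⟩
    refine ⟨1, Subtype.ext ?_⟩
    change (z ^ i) ^ p ^ 1 = 1
    rw [pow_one, ← zpow_natCast, ← zpow_mul, mul_comm, zpow_mul, zpow_natCast, hpow z hz, one_zpow]
  have hsup : IsPGroup p (closure Y ⊔ zpowers z : Subgroup G) := IsPGroup.to_sup_of_normal_right' hYp hzp hle
  obtain ⟨T, hT⟩ := hsup.exists_le_sylow
  have hWT : W T ≤ W S ⊓ fx (ρ z) := by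
    intro v hv
    rw [hW] at hv
    refine ⟨(hW S v).2 fun y hy hyS => hv y hy ?_, mem_fx.2 (hv z hz ?_)⟩
    · exact hT (le_sup_left (a := closure Y) (subset_closure (show y ∈ Y from ⟨hy, hyS⟩)))
    · exact hT (le_sup_right (a := closure Y) (mem_zpowers z))
  have hWeq : W S ≤ fx (ρ z) := by
    have h1 : W T = W S := by
      apply Submodule.eq_of_le_of_finrank_le (hWT.trans inf_le_left) (hSmin T)
    rw [← h1]
    exact hWT.trans inf_le_right
  apply hne z hz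
  apply hρ
  rw [map_one]
  apply Matrix.toLin'.injective
  apply LinearMap.ext
  intro v
  rw [Matrix.toLin'_apply, Matrix.toLin'_apply, Matrix.one_mulVec]
  have h1 := hz2' v
  rw [mem_fx.1 (hWeq (hWe v)), sub_self] at h1
  exact sub_eq_zero.1 h1

omit [Finite G] hp in
/-- **Irreducibility.** -/
theorem clIrr_of (At : Set G)
    (hconj : ∀ y ∈ At, ∀ z ∈ At, ∃ (k : ℕ) (g : G), g * y ^ k * g⁻¹ = z)
    (hdec : ∀ x : G, x ^ p = 1 → x ≠ 1 → ∃ y ∈ At, y * x = x * y ∧ fx (ρ x) < fx (ρ (y⁻¹ * x)))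
    (hAt : ∀ y ∈ At, y ^ p = 1)
    (hsep : ∀ 𝔅 : Set G, Closed p 𝔅 → (∃ x ∈ 𝔅, x ≠ 1) → ∃ z ∈ At, z ∈ 𝔅) : ClIrr p G := by
  intro 𝔅 h𝔅 hne
  obtain ⟨z, hz, hz𝔅⟩ := hsep 𝔅 h𝔅 hne
  have hall : ∀ y ∈ At, y ∈ 𝔅 := by
    intro y hy
    obtain ⟨k, g, rfl⟩ := hconj z hz y hy
    exact h𝔅.conj _ (h𝔅.pow_mem hz𝔅 k) g
  have key : ∀ n : ℕ, ∀ x : G, x ^ p = 1 → finrank F (ι → F) ≤ n + finrank F (fx (ρ x)) → x ∈ 𝔅 := by
    intro n
    induction n with
    | zero =>
      intro x hx hn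
      by_cases hx1 : x = 1
      · rw [hx1]; exact h𝔅.one
      · exfalso
        obtain ⟨y, _, _, hlt⟩ := hdec x hx hx1
        have h1 := Submodule.finrank_lt_finrank_of_lt hlt
        have h2 := Submodule.finrank_le (fx (ρ (y⁻¹ * x)))
        omega
    | succ n ih =>
      intro x hx hn
      by_cases hx1 : x = 1
      · rw [hx1]; exact h𝔅.one
      obtain ⟨y, hy, hyx, hlt⟩ := hdec x hx hx1
      have h1 := Submodule.finrank_lt_finrank_of_lt hlt
      have hyx' : y⁻¹ * x = x * y⁻¹ := by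
        rw [inv_mul_eq_iff_eq_mul, ← mul_assoc, hyx, mul_inv_cancel_right]
      have h2 : (y⁻¹ * x) ^ p = 1 := by
        rw [(show Commute y⁻¹ x from hyx').mul_pow, inv_pow, hAt y hy, hx, inv_one, one_mul]
      have h3 := ih (y⁻¹ * x) h2 (by omega)
      have h4 : x = y * (y⁻¹ * x) := by group
      rw [h4]
      refine h𝔅.mul _ (hall y hy) _ h3 ?_
      rw [mul_inv_cancel_left, hyx', inv_mul_cancel_right]
  intro x hx
  exact key (finrank F (ι → F)) x hx (Nat.le_add_right _ _)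

end

end Cfsg.Agent.H104.AtomSys
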