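import Mathlib
import Cfsg.Agent.H160.QSemi
import Cfsg.Agent.H160.QUpper
import Cfsg.Agent.H955.QCount

/-!
# Isometries with a single orbit of roots (helper104)

`semi` : if the roots of an isometry of determinant one and trivial spinor sign form one orbit of size `2 m = dim V` then
its order divides `(q ^ m - 1) / 2` or `(q ^ m + 1) / 2`.
-/

set_option autoImplicit false
set_option linter.unusedSectionVars false

namespace Cfsg.Agent.H104.QSemiB

open QuadraticMap Module
open Cfsg.Agent.LieClassical.OrthCore Cfsg.Agent.H160.QSpin Cfsg.Agent.H160.QDisc Cfsg.Agent.H160.QSplit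
  Cfsg.Agent.H160.QSemi Cfsg.Agent.H160.QRoots Cfsg.Agent.H160.QChar Cfsg.Agent.H160.QUpper

variable {F : Type*} [Field F] [Fintype F] [DecidableEq F] {V : Type*} [AddCommGroup V] [Module F V]
  [FiniteDimensional F V] [Finite V]

theorem sq_sub (q m : ℕ) : (q ^ m + 1) * (q ^ m - 1) = q ^ (2 * m) - 1 := by
  rw [mul_comm 2 m, pow_mul]
  have := Nat.sq_sub_sq (q ^ m) 1
  rw [one_pow] at this
  exact this.symm

theorem semi (h2 : (2 : F) ≠ 0) {Q : QuadraticForm F V} (hQ : Nondeg Q) {m : ℕ} (hm : 1 ≤ m)
    (hV : finrank F V = 2 * m) {g : V ≃ₗ[F] V} (hg : El Q 1 g) {μ : AlgebraicClosure F}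
    [DecidableEq (AlgebraicClosure F)]
    (hmin : IsMin (Fintype.card F) μ m) (hR : rts (en g) = (orb (Fintype.card F) μ m).val) :
    orderOf g ∣ (Fintype.card F ^ m - 1) / 2 ∨ orderOf g ∣ (Fintype.card F ^ m + 1) / 2 := by
  classical
  obtain ⟨p, hp1⟩ := CharP.exists F
  have hp : Fact p.Prime := ⟨CharP.char_is_prime F p⟩
  obtain ⟨hgO, hdet, hsp⟩ := hg
  obtain ⟨e, he⟩ := card_odd_eq (F := F) h2
  have hq0 : 0 < Fintype.card F := Fintype.card_pos
  have hcount : ∀ x, (rts (en g)).count x ≤ 1 := by
    intro x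
    rw [hR]
    exact Multiset.nodup_iff_count_le_one.1 (orb _ μ m).nodup x
  have hex : ∀ {M N c : ℕ}, Bd (rts (en g)) M N → M ≤ p ^ c → g ^ (N * p ^ c) = 1 := by
    intro M N c hB hc
    apply en_inj
    rw [en_pow]
    exact pow_eq_one_of_bd (by convert hB) hc
  have hbd : ∀ i, μ ^ i = 1 → g ^ i = 1 := by
    intro i hi
    have hB : Bd (rts (en g)) 1 i := by
      refine ⟨fun x => by convert hcount x, fun x hx => ?_⟩
      rw [hR] at hx
      exact ex_orb hx hi
    have := hex (c := 0) hB (by simp)
    simpa using this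
  have hfix : ∀ i v, v ≠ 0 → (g ^ i) v = v → g ^ i = 1 := by
    intro i v hv hgv
    apply hbd
    by_contra hμi
    apply hv
    refine no_fixed (g := en g) (n := i) (fun x hx hxi => hμi ?_) (v := v) ?_
    · rw [hR] at hx
      obtain ⟨j, _, rfl | rfl⟩ := mem_orb.1 hx
      · rw [← pow_mul, mul_comm, pow_mul] at hxi
        have h6 : (μ ^ i) ^ (Fintype.card F ^ j) = 1 ^ (Fintype.card F ^ j) := by rw [hxi, one_pow]
        exact inj_pow (frob_inj F) j h6
      · rw [inv_pow, ← pow_mul, mul_comm, pow_mul, inv_eq_one] at hxi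
        have h6 : (μ ^ i) ^ (Fintype.card F ^ j) = 1 ^ (Fintype.card F ^ j) := by rw [hxi, one_pow]
        exact inj_pow (frob_inj F) j h6
    · rw [← en_pow]
      exact hgv
  have hn : 0 < orderOf g := by
    have hfin : Finite (V ≃ₗ[F] V) := Finite.of_injective (fun g : V ≃ₗ[F] V => (g : V → V)) DFunLike.coe_injective
    exact orderOf_pos g
  have hoddm : Odd (Fintype.card F ^ m) := Odd.pow ⟨e, he⟩
  obtain ⟨k, hk⟩ := hoddm
  have hk0 : 1 ≤ k := by
    have h3 : 3 ≤ Fintype.card F := by
      have := Fintype.one_lt_card (α := F)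
      omega
    have := Nat.le_self_pow (n := m) (by omega) (Fintype.card F)
    omega
  have em : Fintype.card F ^ m - 1 = 2 * k := by omega
  have ep : Fintype.card F ^ m + 1 = 2 * (k + 1) := by omega
  have em' : (Fintype.card F ^ m - 1) / 2 = k := by omega
  have ep' : (Fintype.card F ^ m + 1) / 2 = k + 1 := by omega
  rw [em', ep']
  have hord : orderOf g ∣ 2 * k ∨ orderOf g ∣ 2 * (k + 1) := by
    rcases hmin.pow hq0 with h | h
    · left
      rw [em] at h
      exact orderOf_dvd_of_pow_eq_one (hbd _ h)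
    · right
      rw [ep] at h
      exact orderOf_dvd_of_pow_eq_one (hbd _ h)
  let _ := Fintype.ofFinite {x : V // Q x = 1}
  rw [spin_apply] at hsp
  have hpow : ∀ (i : ℕ) (x : {x : V // Q x = 1}),
      (((qperm Q ⟨g, hgO⟩ ^ i) x : {x : V // Q x = 1}) : V) = (g ^ i) x := by
    intro i x
    rw [← map_pow]
    rfl
  rcases sign_semireg (qperm Q ⟨g, hgO⟩) hn (by
      ext x
      rw [hpow, pow_orderOf_eq_one]
      rfl) (by
      intro i hi hin x hx
      have h3 := congrArg Subtype.val hx
      rw [hpow] at h3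
      have hx0 : (x : V) ≠ 0 := by
        intro h0
        have := x.2
        rw [h0, QuadraticMap.map_zero] at this
        exact zero_ne_one this
      exact pow_ne_one_of_lt_orderOf hi.ne' hin (hfix i x hx0 h3)) hsp with ho | hd
  · -- odd order
    have hc : Nat.Coprime (orderOf g) 2 := Nat.coprime_two_right.2 ho
    rcases hord with h | h
    · exact Or.inl (hc.dvd_of_dvd_mul_left h)
    · exact Or.inr (hc.dvd_of_dvd_mul_left h)
  · -- `2 n` divides the number of vectors
    have hcopn : Nat.Coprime (2 * orderOf g) (Fintype.card F ^ m) := by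
      have h3 : Nat.Coprime (orderOf g) (Fintype.card F ^ m) := by
        have hh : orderOf g ∣ Fintype.card F ^ (2 * m) - 1 := by
          rw [← sq_sub, em, ep]
          rcases hord with h | h
          · exact h.mul_left _
          · exact h.mul_right _
        have hpos : 1 ≤ Fintype.card F ^ (2 * m) := Nat.one_le_pow _ _ hq0
        have h9 : Nat.Coprime (Fintype.card F ^ (2 * m) - 1) (Fintype.card F ^ (2 * m)) :=
          (Nat.coprime_self_sub_left hpos).2 (Nat.coprime_one_left _)
        have h10 : Nat.Coprime (Fintype.card F ^ (2 * m) - 1) (Fintype.card F ^ m) :=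
          h9.coprime_dvd_right (pow_dvd_pow _ (by omega))
        exact h10.coprime_dvd_left hh
      exact Nat.Coprime.mul_left (Nat.coprime_two_left.2 ⟨k, hk⟩) h3
    have hpm : Fintype.card F ^ (2 * m) = Fintype.card F ^ m * Fintype.card F ^ m := by rw [two_mul, pow_add]
    by_cases hP : Cfsg.Agent.H955.IsPlus Q
    · left
      have h3 := Cfsg.Agent.H955.card_eq_one_of_isPlus hQ hV hP
      rw [Nat.card_eq_fintype_card, Nat.card_eq_fintype_card] at h3
      have h4 : 2 * orderOf g ∣ Fintype.card F ^ m * (2 * k) := by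
        have h5 : Fintype.card F * Fintype.card {x : V // Q x = 1} = Fintype.card F ^ m * (2 * k) := by
          have : Fintype.card F ^ m * (2 * k) + Fintype.card F ^ m = Fintype.card F ^ (2 * m) := by
            rw [hpm]
            nth_rewrite 4 [hk]
            ring
          omega
        rw [← h5]
        exact hd.mul_left _
      have h6 := hcopn.dvd_of_dvd_mul_left h4
      exact Nat.dvd_of_mul_dvd_mul_left (by norm_num) h6
    · right
      have h3 := Cfsg.Agent.H955.card_eq_one_of_not_isPlus hQ hV hP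
      rw [Nat.card_eq_fintype_card, Nat.card_eq_fintype_card] at h3
      have h4 : 2 * orderOf g ∣ Fintype.card F ^ m * (2 * (k + 1)) := by
        have h5 : Fintype.card F * Fintype.card {x : V // Q x = 1} = Fintype.card F ^ m * (2 * (k + 1)) := by
          rw [h3, hpm]
          nth_rewrite 2 [hk]
          ring
        rw [← h5]
        exact hd.mul_left _
      have h6 := hcopn.dvd_of_dvd_mul_left h4
      exact Nat.dvd_of_mul_dvd_mul_left (by norm_num) h6

end Cfsg.Agent.H104.QSemiB
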