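import Mathlib
import Cfsg.Agent.H229.T.Upper
import Cfsg.Agent.H229.T.AFour
import Cfsg.Agent.H403.S88.GrpB
import Cfsg.Agent.H104.NoElt

/-!
# Centralizers of elements of prime order in odd-dimensional orthogonal groups and their actions (helper104)

* `exists_cent` : the centralizer of an element of order `r` (a primitive prime of `q ^ (2 m) - 1`) in dimension `2 m + t`
  contains `Ω_t(q)`;
* `exists_hom` : the same in a group containing `PΩ_{2n+1}(q)`;
* `norm_t` : an element of order `t` of `Ω_t(q)`, `t ≥ 5` prime, with nonzero norm on a module in characteristic `≠ 2, t`.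
-/

set_option autoImplicit false
set_option linter.unusedSectionVars false

namespace Cfsg.Agent.H104.CBadOm

open QuadraticMap Module
open Cfsg.Agent.LieClassical.OrthCore Cfsg.Agent.LieClassical.OrthForms Cfsg.Agent.LieClassical.OrthFinite
open Cfsg.Agent.LieClassical.OrthTrans
open Cfsg.Agent.H160 Cfsg.Agent.H160.QSpin Cfsg.Agent.H160.QDisc Cfsg.Agent.H160.QFinal Cfsg.Agent.H160.QModel
open Cfsg.Agent.H160.QReal Cfsg.Agent.H229.T Cfsg.Agent.H403.S88.Grp

universe u v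

/-- the two forms of minimality -/
theorem prim_of_min {q r m : ℕ} (hq : 0 < q) (h0 : 0 < m) (hmin : ∀ d, 0 < d → d < m → ¬ r ∣ q ^ d - 1 ∧ ¬ r ∣ q ^ d + 1)
    (hm : r ∣ q ^ m - 1 ∨ r ∣ q ^ m + 1) : ∀ d, 0 < d → (r ∣ q ^ d - 1 ∨ r ∣ q ^ d + 1) → m ∣ d := by
  intro d
  induction d using Nat.strong_induction_on with
  | _ d ih =>
  intro hd0 hd
  rcases lt_trichotomy d m with h | h | h
  · exact absurd hd (not_or.2 (hmin d hd0 h))
  · exact dvd_of_eq h.symm
  · have h1 := ih (d - m) (by omega) (by omega) (NoElt.small_of hq h hm hd)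
    have h3 := h1.add (dvd_refl m)
    rwa [Nat.sub_add_cancel h.le] at h3

section Cent

variable {F : Type*} [Field F] [Fintype F]

/-- **`Ω_t(q)` in the centralizer.** -/
theorem exists_cent (h2 : (2 : F) ≠ 0) {V : Type*} [AddCommGroup V] [Module F V] [FiniteDimensional F V] [Finite V]
    {p : ℕ} [hp : Fact p.Prime] [CharP F p] {Q : QuadraticForm F V} (hQ : Nondeg Q) {m r t : ℕ} [NeZero t]
    (hto : Odd t) (hm : 1 ≤ m) (ht : t < 2 * m) (hV : finrank F V = 2 * m + t) (hr : r.Prime) (hr2 : r ≠ 2) (hrp : r ≠ p)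
    (hprim : ∀ d, 0 < d → (r ∣ Fintype.card F ^ d - 1 ∨ r ∣ Fintype.card F ^ d + 1) → m ∣ d)
    {a : V ≃ₗ[F] V} (ha : a ∈ O Q) (hao : orderOf a = r) :
    ∃ (c : F) (_ : c ≠ 0) (f : Om (D F t c) →* Om Q), Function.Injective f ∧
      ∀ h, a * ((f h : Om Q) : V ≃ₗ[F] V) = ((f h : Om Q) : V ≃ₗ[F] V) * a := by
  classical
  obtain ⟨Q₁, Q₂, a₁, e, hQ₁, hQ₂, he, hae, -, -, -⟩ := split_a hQ hm ht hV hr hr2 hrp hprim ha hao
  obtain ⟨c, e2, hc, he2⟩ := exists_frame (n := t) h2 hto hQ₂ (by simp)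
  refine ⟨c, hc, ((omCongr he).toMonoidHom.comp (omRight h2 hQ₁ hQ₂)).comp (omCongr he2).toMonoidHom, ?_, ?_⟩
  · exact ((omCongr he).injective.comp (omRight_injective h2 hQ₁ hQ₂)).comp (omCongr he2).injective
  · intro h
    show a * cj e (pr 1 (omCongr he2 h).1) = cj e (pr 1 (omCongr he2 h).1) * a
    rw [hae, ← cj_mul, ← cj_mul, ← pr_mul, ← pr_mul, one_mul, mul_one, mul_one, one_mul]

/-- the same in a group containing `PΩ_{2n+1}(q)` -/
theorem exists_hom (h2 : (2 : F) ≠ 0) {p : ℕ} [hp : Fact p.Prime] [CharP F p] {n m c r : ℕ} (hn : n = m + c)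
    (hn2 : 2 ≤ n) (hc : c < m) (hr : r.Prime) (hr2 : r ≠ 2) (hrp : r ≠ p)
    (hprim : ∀ d, 0 < d → (r ∣ Fintype.card F ^ d - 1 ∨ r ∣ Fintype.card F ^ d + 1) → m ∣ d)
    {A : Type v} [Group A] {S : Subgroup A} (e : S ≃* Cfsg.POmega F (Cfsg.quadFormOdd n F)) {α : A} (hα : α ∈ S)
    (hao : orderOf α = r) :
    ∃ (x : F) (_ : x ≠ 0) (f : Om (D F (2 * c + 1) x) →* Subgroup.centralizer ({α} : Set A)), Function.Injective f := by
  classical
  have h9 := nondeg_oddForm n F h2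
  have key : ∀ (g : (Unit ⊕ (Fin n ⊕ Fin n) → F) → F) (_ : g = ⇑(oddForm n F)) (e : S ≃* Cfsg.POmega F g),
      ∃ (x : F) (_ : x ≠ 0) (f : Om (D F (2 * c + 1) x) →* Subgroup.centralizer ({α} : Set A)), Function.Injective f := by
    intro g hg e
    subst hg
    have hcd : Fintype.card (Unit ⊕ (Fin n ⊕ Fin n)) = 2 * n + 1 := by
      simp only [Fintype.card_sum, Fintype.card_unit, Fintype.card_fin]
      ring
    obtain ⟨e'⟩ := exists_pomega h2 h9 (by rw [hcd]; omega) (by rw [hcd]; exact ⟨n, rfl⟩)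
    let E : S ≃* Om (oddForm n F) := e.trans e'
    obtain ⟨a, ha⟩ : ∃ a, a = E ⟨α, hα⟩ := ⟨_, rfl⟩
    have hao' : orderOf (a : (Unit ⊕ (Fin n ⊕ Fin n) → F) ≃ₗ[F] (Unit ⊕ (Fin n ⊕ Fin n) → F)) = r := by
      rw [Subgroup.orderOf_coe, ha, MulEquiv.orderOf_eq, ← Subgroup.orderOf_coe]
      exact hao
    obtain ⟨x, hx, f, hf, hfc⟩ := exists_cent (t := 2 * c + 1) h2 h9 ⟨c, rfl⟩ (m := m) (by omega) (by omega)
      (by rw [finrank_fintype_fun_eq_card, hcd]; omega) hr hr2 hrp hprim (Om_le_O _ a.2) hao'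
    refine ⟨x, hx, (S.subtype.comp (E.symm.toMonoidHom.comp f)).codRestrict _ ?_, ?_⟩
    · intro h
      rw [Subgroup.mem_centralizer_singleton_iff]
      have h3 : a * f h = f h * a := Subtype.ext (hfc h)
      have h4 := congrArg E.symm h3
      rw [map_mul, map_mul, ha, MulEquiv.symm_apply_apply] at h4
      exact (congrArg Subtype.val h4).symm
    · intro x y hxy
      have h3 : ((E.symm (f x) : S) : A) = ((E.symm (f y) : S) : A) :=
        congrArg (fun z : Subgroup.centralizer ({α} : Set A) => (z : A)) hxy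
      exact hf (E.symm.injective (Subtype.ext h3))
  exact key _ (coe_oddForm n F).symm e

end Cent

section Norm

variable {F : Type*} [Field F] [Fintype F]

/-- the action of the rotation on the sign changes is free -/
theorem free_t {t : ℕ} [NeZero t] (ht : t.Prime) (hto : Odd t) (h2 : (2 : F) ≠ 0) {c : F} (hc : c ≠ 0) {k : ℕ}
    (hk0 : 0 < k) (hkt : k < t) (s : ZMod t → ℤˣ)
    (h : ro hto h2 hc ^ k * psi t 1 c s = psi t 1 c s * ro hto h2 hc ^ k) : psi t 1 c s = 1 := by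
  have := Fact.mk ht
  obtain ⟨s', hs⟩ : ∃ s' : ZMod t → ℤˣ, s' = s * (fun i => s (i + ((1 : ℕ) : ZMod t)))⁻¹ := ⟨_, rfl⟩
  have h1 : rot F (k : ZMod t) * ds F s' = ds F s' * rot F (k : ZMod t) := by
    have h3 := congrArg Subtype.val h
    rw [Subgroup.coe_mul, Subgroup.coe_mul, psi_coe, ← hs, SubgroupClass.coe_pow] at h3
    have h4 : ((ro hto h2 hc : Om (D F t c)) : (ZMod t → F) ≃ₗ[F] (ZMod t → F)) = rot F 1 := rfl
    rw [h4, rot_pow] at h3
    exact h3
  rw [rot_ds] at h1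
  have h4 := ds_inj h2 (mul_right_cancel h1)
  have h5 : ∀ i, s' (i + k) = s' i := fun i => congrFun h4 i
  have h6 : ∀ (j : ℕ) i, s' (i + (j * k : ℕ)) = s' i := by
    intro j
    induction j with
    | zero => intro i; simp
    | succ j ih =>
      intro i
      have : ((((j + 1) * k : ℕ)) : ZMod t) = ((j * k : ℕ) : ZMod t) + k := by push_cast; ring
      rw [this, ← add_assoc, h5, ih]
  have hkne : (k : ZMod t) ≠ 0 := by
    rw [Ne, ZMod.natCast_eq_zero_iff]
    intro h7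
    have := Nat.le_of_dvd hk0 h7
    omega
  have h7 : ∀ i, s' i = s' 0 := by
    intro i
    have h8 := h6 (i * (k : ZMod t)⁻¹).val 0
    rw [Nat.cast_mul, ZMod.natCast_zmod_val, inv_mul_cancel_right₀ hkne, zero_add] at h8
    exact h8
  have h8 : ∏ i, s' i = 1 := by
    rw [hs]
    simp only [Pi.mul_apply, Pi.inv_apply]
    rw [Finset.prod_mul_distrib, Finset.prod_inv_distrib]
    have h9 : ∏ i, s (i + ((1 : ℕ) : ZMod t)) = ∏ i, s i :=
      Fintype.prod_equiv (Equiv.addRight ((1 : ℕ) : ZMod t)) _ _ (fun i => rfl)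
    rw [h9, mul_inv_cancel]
  have h9 : s' 0 = 1 := by
    rw [Finset.prod_congr rfl (fun i _ => h7 i), Finset.prod_const, Finset.card_univ, ZMod.card] at h8
    exact eq_one_of_odd hto (by rw [pow_two]; exact Int.units_mul_self _) h8
  apply Subtype.ext
  rw [psi_coe, ← hs]
  have h10 : s' = 1 := by
    funext i
    rw [h7, h9]
    rfl
  rw [h10, ds_one]
  rfl

/-- **An element of order `t` of `Ω_t(q)` with nonzero norm.** -/
theorem norm_t {t : ℕ} [NeZero t] (ht : t.Prime) (ht5 : 5 ≤ t) (h2 : (2 : F) ≠ 0) {c : F} (hc : c ≠ 0) {p : ℕ}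
    (hp : p.Prime) (hp2 : p ≠ 2) (hpt : p ≠ t) {W : Type*} [CommGroup W] (θ : Om (D F t c) →* MulAut W)
    (hW : ∀ w : W, w ^ p = 1) (hW1 : ∃ w : W, w ≠ 1) :
    ∃ b : Om (D F t c), orderOf b = t ∧ ∃ w : W, ∏ i ∈ Finset.range t, θ (b ^ i) w ≠ 1 := by
  classical
  have hto : Odd t := ht.odd_of_ne_two (by omega)
  refine ⟨ro hto h2 hc, orderOf_ro hto h2 hc, ?_⟩
  by_contra hcon
  push Not at hcon
  let U := (psi (F := F) t 1 c).range
  have hfin : Finite U := inferInstance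
  have h4 := H371.Frob.trivial_of_norm θ U (c := ro hto h2 hc) (m := t) (e := p) (by omega)
    (by
      rintro _ ⟨s, rfl⟩ i
      obtain ⟨s', hs'⟩ := ro_inv_psi (m := 1) hto h2 hc i s
      exact ⟨s', hs'.symm⟩)
    (by
      rintro i hi0 hi _ ⟨s, rfl⟩ hcomm
      exact free_t ht hto h2 hc hi0 hi s hcomm)
    hW
    (by
      refine Nat.Coprime.coprime_dvd_left (card_psi_range c) (Nat.Coprime.pow_left t ?_)
      exact (Nat.coprime_primes Nat.prime_two hp).2 hp2.symm)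
    hcon
  -- simplicity
  have hnd := nondeg_D (n := t) h2 hc
  have hs1 : IsSimpleGroup (Cfsg.POmega F ⇑(D F t c)) := isSimpleGroup_POmega hnd (by rw [ZMod.card]; exact ht5)
  obtain ⟨e⟩ := exists_pomega h2 hnd (by rw [ZMod.card]; exact ht5) (by rw [ZMod.card]; exact hto)
  have hs2 : IsSimpleGroup (Om (D F t c)) := (e.isSimpleGroup_congr).1 hs1
  have hker : θ.ker ≠ ⊥ := by
    intro h5
    let s : ZMod t → ℤˣ := fun i => if i = 0 then -1 else 1
    have h6 : psi t 1 c s ∈ θ.ker := by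
      rw [MonoidHom.mem_ker]
      exact MulEquiv.ext (h4 _ ⟨s, rfl⟩)
    rw [h5, Subgroup.mem_bot] at h6
    have h7 := congrArg Subtype.val h6
    rw [psi_coe] at h7
    have h8 : ds F (s * (fun i : ZMod t => s (i + ((1 : ℕ) : ZMod t)))⁻¹) = ds F 1 := by
      rw [h7, ds_one]
      rfl
    have h9 := congrFun (ds_inj h2 h8) 0
    have : Fact (1 < t) := ⟨by omega⟩
    have h10 : (0 : ZMod t) + ((1 : ℕ) : ZMod t) ≠ 0 := by
      rw [zero_add, Nat.cast_one]
      exact one_ne_zero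
    simp only [Pi.mul_apply, Pi.inv_apply, Pi.one_apply, s, if_true, if_neg h10] at h9
    exact absurd h9 (by decide)
  have htop : θ.ker = ⊤ := (hs2.eq_bot_or_eq_top_of_normal _ inferInstance).resolve_left hker
  obtain ⟨w, hw⟩ := hW1
  have h5 := hcon w
  have h6 : ∀ i, θ (ro hto h2 hc ^ i) w = w := by
    intro i
    have h7 : ro hto h2 hc ^ i ∈ θ.ker := by rw [htop]; exact Subgroup.mem_top _
    rw [MonoidHom.mem_ker.1 h7]
    rfl
  rw [Finset.prod_congr rfl (fun i _ => h6 i), Finset.prod_const, Finset.card_range] at h5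
  have h7 : orderOf w ∣ Nat.gcd t p := Nat.dvd_gcd (orderOf_dvd_of_pow_eq_one h5) (orderOf_dvd_of_pow_eq_one (hW w))
  rw [Nat.Coprime.gcd_eq_one ((Nat.coprime_primes ht hp).2 hpt.symm)] at h7
  exact hw (orderOf_eq_one_iff.1 (Nat.dvd_one.1 h7))

/-- **An element of order three of `Ω₃(q)`, `q` prime to 6, with nonzero norm.** -/
theorem norm_three (h2 : (2 : F) ≠ 0) (h3 : (3 : F) ≠ 0) {c : F} (hc : c ≠ 0) {p : ℕ}
    (hp : p.Prime) (hp2 : p ≠ 2) (hp3 : p ≠ 3) {W : Type*} [CommGroup W] (θ : Om (D F 3 c) →* MulAut W)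
    (hW : ∀ w : W, w ^ p = 1) (hW1 : ∃ w : W, w ≠ 1) :
    ∃ b : Om (D F 3 c), orderOf b = 3 ∧ ∃ w : W, ∏ i ∈ Finset.range 3, θ (b ^ i) w ≠ 1 := by
  obtain ⟨b, hb, w, hw, hbw⟩ := exists_fixed h2 h3 hc θ hW ((Nat.coprime_primes Nat.prime_two hp).2 hp2.symm) hW1
  refine ⟨b, hb, w, ?_⟩
  have h6 : ∀ i, θ (b ^ i) w = w := by
    intro i
    induction i with
    | zero => rw [pow_zero, map_one]; rfl
    | succ i ih => rw [pow_succ, map_mul, MulAut.mul_apply, hbw, ih]
  rw [Finset.prod_congr rfl (fun i _ => h6 i), Finset.prod_const, Finset.card_range]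
  intro h5
  have h7 : orderOf w ∣ Nat.gcd 3 p := Nat.dvd_gcd (orderOf_dvd_of_pow_eq_one h5) (orderOf_dvd_of_pow_eq_one (hW w))
  rw [Nat.Coprime.gcd_eq_one ((Nat.coprime_primes Nat.prime_three hp).2 hp3.symm)] at h7
  exact hw (orderOf_eq_one_iff.1 (Nat.dvd_one.1 h7))

end Norm

section Three

variable {F : Type*} [Field F] [Fintype F]

/-- if the elements of order three have trivial norm then the elements `-refl_v` act trivially -/
theorem zv_trivial (h2 : (2 : F) ≠ 0) {c : F} (hc : c ≠ 0) {W : Type*} [CommGroup W]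
    (θ : Om (D F 3 c) →* MulAut W) {e : ℕ} (he : ∀ v : W, v ^ e = 1) (hcop : Nat.Coprime 2 e)
    (hN : ∀ b : Om (D F 3 c), orderOf b = 3 → ∀ w : W, ∏ i ∈ Finset.range 3, θ (b ^ i) w = 1)
    (v : ZMod 3 → F) (hv : D F 3 c v ≠ 0) (hvc : D F 3 c v = c) :
    ∃ h : zv v hv ∈ Om (D F 3 c), θ ⟨zv v hv, h⟩ = 1 := by
  classical
  have hodd : Odd 3 := by decide
  have key : ∀ (g : (ZMod 3 → F) ≃ₗ[F] (ZMod 3 → F)) (hg : g ∈ O (D F 3 c)) (t : ZMod 3 → ℤˣ),
      θ (kap hg (psi 3 1 c t)) = 1 := by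
    intro g hg t
    let U := (psi (F := F) 3 1 c).range.map (kap hg)
    have hfin : Finite U := by
      have : Finite (psi (F := F) 3 1 c).range := inferInstance
      exact Finite.of_surjective _ ((kap hg).subgroupMap_surjective (psi (F := F) 3 1 c).range)
    have hord : orderOf (kap hg (ro hodd h2 hc)) = 3 := by
      rw [orderOf_injective _ (kap_injective hg), orderOf_ro]
    have h4 := H371.Frob.trivial_of_norm θ U (c := kap hg (ro hodd h2 hc)) (m := 3) (e := e) (by norm_num)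
      (by
        rintro _ ⟨_, ⟨t, rfl⟩, rfl⟩ i
        obtain ⟨s, hs⟩ := ro_inv_psi (m := 1) hodd h2 hc i t
        refine ⟨psi 3 1 c s, ⟨s, rfl⟩, ?_⟩
        rw [← hs, map_mul, map_mul, map_inv, map_pow])
      (by
        rintro i hi0 hi _ ⟨_, ⟨t, rfl⟩, rfl⟩ hcomm
        rw [← map_pow, ← map_mul, ← map_mul] at hcomm
        rw [ro_free (n := 3) (m := 1) hodd h2 hc rfl (three_free i hi0 hi) t (kap_injective hg hcomm), map_one])
      he
      (by
        have h5 : Nat.card U ∣ 2 ^ 3 :=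
          (Subgroup.card_map_dvd (psi (F := F) 3 1 c).range (kap hg)).trans (card_psi_range c)
        exact Nat.Coprime.coprime_dvd_left h5 (Nat.Coprime.pow_left 3 hcop))
      (hN _ hord)
      (kap hg (psi 3 1 c t)) ⟨_, ⟨t, rfl⟩, rfl⟩
    exact MulEquiv.ext h4
  -- the involutions
  let e0 : ZMod 3 → F := Pi.single 0 1
  have e00 : e0 0 = 1 := Pi.single_eq_same _ _
  have e01 : e0 1 = 0 := Pi.single_eq_of_ne (by decide) _
  have e02 : e0 2 = 0 := Pi.single_eq_of_ne (by decide) _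
  have hDe0 : D F 3 c e0 = c := by
    rw [D_apply, sum_three, e00, e01, e02]
    ring
  have he0 : D F 3 c e0 ≠ 0 := by rw [hDe0]; exact hc
  let t0 : ZMod 3 → ℤˣ := fun i => if i = 2 then -1 else 1
  have hz : ((psi 3 1 c t0 : Om (D F 3 c)) : (ZMod 3 → F) ≃ₗ[F] (ZMod 3 → F)) = zv e0 he0 := by
    rw [psi_coe]
    apply LinearEquiv.ext
    intro x
    funext i
    rw [ds_apply, zv_apply, hDe0, polar_D, sum_three]
    have hcc : c⁻¹ * c = 1 := inv_mul_cancel₀ hc
    simp only [Pi.neg_apply, Pi.sub_apply, Pi.smul_apply, smul_eq_mul, e00, e01, e02]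
    obtain rfl | rfl | rfl : i = 0 ∨ i = 1 ∨ i = 2 := by
      revert i; decide
    · have : (t0 * (fun i : ZMod 3 => t0 (i + ((1 : ℕ) : ZMod 3)))⁻¹) 0 = 1 := by decide
      rw [this, e00, Units.val_one, Int.cast_one]
      linear_combination (-2 * x 0) * hcc
    · have : (t0 * (fun i : ZMod 3 => t0 (i + ((1 : ℕ) : ZMod 3)))⁻¹) 1 = -1 := by decide
      rw [this, e01]
      simp
    · have : (t0 * (fun i : ZMod 3 => t0 (i + ((1 : ℕ) : ZMod 3)))⁻¹) 2 = -1 := by decide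
      rw [this, e02]
      simp
  obtain ⟨g, hg, h5⟩ := exists_map h2 hc hDe0 hvc
  have hge : D F 3 c (g e0) ≠ 0 := by rw [mem_O.1 hg]; exact he0
  have h6 : zv v hv = zv (g e0) hge := by
    rcases h5 with h5 | h5
    · subst h5; rfl
    · have h7 : D F 3 c (-v) ≠ 0 := by rw [QuadraticMap.map_neg]; exact hv
      rw [← zv_neg hv h7]
      congr 1
      exact h5.symm
  have h7 : zv v hv = ((kap hg (psi 3 1 c t0) : Om (D F 3 c)) : (ZMod 3 → F) ≃ₗ[F] (ZMod 3 → F)) := by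
    rw [h6]
    show _ = g * ((psi 3 1 c t0 : Om (D F 3 c)) : (ZMod 3 → F) ≃ₗ[F] (ZMod 3 → F)) * g⁻¹
    rw [hz, zv_conj hg he0 hge]
  refine ⟨by rw [h7]; exact (kap hg (psi 3 1 c t0)).2, ?_⟩
  rw [← key g hg t0]
  congr 1
  exact Subtype.ext h7

/-- an isotropic vector -/
theorem exists_sing (h2 : (2 : F) ≠ 0) (c : F) : ∃ x : ZMod 3 → F, x ≠ 0 ∧ D F 3 c x = 0 := by
  have hchar : ringChar F ≠ 2 := by
    intro h
    apply h2
    have := ringChar.spec F 2
    rw [h] at this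
    exact_mod_cast this.2 dvd_rfl
  obtain ⟨X, Y, h⟩ := FiniteField.exists_root_sum_quadratic (f := (Polynomial.X ^ 2 : Polynomial F))
    (g := (Polynomial.X ^ 2 - Polynomial.C (-1) : Polynomial F))
    (Polynomial.degree_X_pow 2) (Polynomial.degree_X_pow_sub_C (by norm_num) _)
    (FiniteField.odd_card_of_char_ne_two hchar)
  let v : ZMod 3 → F := ![X, Y, 1]
  have v0 : v 0 = X := rfl
  have v1 : v 1 = Y := rfl
  have v2 : v 2 = 1 := rfl
  refine ⟨v, ?_, ?_⟩
  · intro h0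
    have := congrFun h0 2
    rw [v2] at this
    exact one_ne_zero this
  · rw [D_apply, sum_three, v0, v1, v2]
    have h3 : X ^ 2 + (Y ^ 2 - -1) = 0 := by simpa using h
    linear_combination c * h3

/-- the torus element -/
theorem torus {c : F} (hc : c ≠ 0) {e f : ZMod 3 → F} (h : Hyp (D F 3 c) e f) (l : Fˣ)
    (hv : D F 3 c (e + c • f) ≠ 0) (hw : D F 3 c ((l : F) • e + ((l⁻¹ : Fˣ) * c : F) • f) ≠ 0) :
    D F 3 c (e + c • f) = c ∧ D F 3 c ((l : F) • e + ((l⁻¹ : Fˣ) * c : F) • f) = c ∧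
      orderOf (zv _ hv * zv _ hw) = orderOf (l ^ 2) := by
  have hl : ((l⁻¹ : Fˣ) : F) * l = 1 := by rw [← Units.val_mul, inv_mul_cancel, Units.val_one]
  have e1 : polar (D F 3 c) e f = 1 := h.pair
  have e2 : polar (D F 3 c) f e = 1 := by rw [polar_comm]; exact e1
  have e3 : polar (D F 3 c) e e = 0 := polar_self_of_sing h.left
  have e4 : polar (D F 3 c) f f = 0 := polar_self_of_sing h.right
  have q1 : D F 3 c (e + c • f) = c := by
    rw [Q_add, QuadraticMap.map_smul, h.left, h.right, polar_smul_right, e1]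
    simp
  have q2 : D F 3 c ((l : F) • e + ((l⁻¹ : Fˣ) * c : F) • f) = c := by
    rw [Q_add, QuadraticMap.map_smul, QuadraticMap.map_smul, h.left, h.right, polar_smul_right, polar_smul_left, e1]
    simp only [smul_eq_mul, mul_zero, mul_one, add_zero, zero_add]
    linear_combination c * hl
  refine ⟨q1, q2, ?_⟩
  have hcc : c⁻¹ * c = 1 := inv_mul_cancel₀ hc
  obtain ⟨L, hL⟩ : ∃ L : F, L = (l : F) := ⟨_, rfl⟩
  obtain ⟨M, hM⟩ : ∃ M : F, M = ((l⁻¹ : Fˣ) : F) := ⟨_, rfl⟩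
  have hML : M * L = 1 := by rw [hM, hL]; exact hl
  have hR : ∀ x, (zv _ hv * zv _ hw) x = x + ((M ^ 2 - 1) * polar (D F 3 c) f x) • e +
      ((L ^ 2 - 1) * polar (D F 3 c) e x) • f := by
    intro x
    show zv _ hv (zv _ hw x) = _
    rw [zv_apply, zv_apply, q1, q2]
    rw [← hL, ← hM]
    obtain ⟨a, ha⟩ : ∃ a, a = polar (D F 3 c) e x := ⟨_, rfl⟩
    obtain ⟨b, hb⟩ : ∃ b, b = polar (D F 3 c) f x := ⟨_, rfl⟩
    have p1 : polar (D F 3 c) (L • e + (M * c) • f) x = L * a + M * c * b := by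
      rw [polar_add_left, polar_smul_left, polar_smul_left, ← ha, ← hb]; rfl
    rw [p1]
    have p2 : polar (D F 3 c) (e + c • f) (-(x - (c⁻¹ * (L * a + M * c * b)) • (L • e + (M * c) • f))) =
        L ^ 2 * a + M ^ 2 * c * b := by
      rw [polar_neg_right, polar_sub_right, polar_smul_right, polar_add_left, polar_add_left, polar_smul_left,
        polar_smul_left, polar_add_right, polar_add_right, polar_smul_right, polar_smul_right, polar_smul_right,
        polar_smul_right, e1, e2, e3, e4, ← ha, ← hb]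
      simp only [smul_eq_mul, mul_zero, mul_one, zero_add, add_zero]
      linear_combination (L * a + M * c * b) * (M + L) * hcc + (a + b * c) * hML
    rw [p2, ← ha, ← hb]
    have k1 : (c⁻¹ * (L ^ 2 * a + M ^ 2 * c * b)) = c⁻¹ * L ^ 2 * a + M ^ 2 * b := by
      linear_combination (M ^ 2 * b) * hcc
    have k2 : (c⁻¹ * (L * a + M * c * b)) = c⁻¹ * L * a + M * b := by
      linear_combination (M * b) * hcc
    rw [k1, k2]
    have g1 : (M ^ 2 - 1) * b = (c⁻¹ * L ^ 2 * a + M ^ 2 * b) - (c⁻¹ * L * a + M * b) * L := by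
      linear_combination b * hML
    have g2 : (L ^ 2 - 1) * a = (c⁻¹ * L ^ 2 * a + M ^ 2 * b) * c - (c⁻¹ * L * a + M * b) * (M * c) := by
      linear_combination (-L ^ 2 * a) * hcc + a * (M * L) * hcc + a * hML
    rw [g1, g2]
    module
  have hpow : ∀ (k : ℕ) x, ((zv _ hv * zv _ hw) ^ k) x = x + ((M ^ (2 * k) - 1) * polar (D F 3 c) f x) • e +
      ((L ^ (2 * k) - 1) * polar (D F 3 c) e x) • f := by
    intro k
    induction k with
    | zero => intro x; simp
    | succ k ih =>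
      intro x
      rw [pow_succ]
      show ((zv _ hv * zv _ hw) ^ k) ((zv _ hv * zv _ hw) x) = _
      rw [ih, hR]
      have p1 : polar (D F 3 c) f (x + ((M ^ 2 - 1) * polar (D F 3 c) f x) • e +
          ((L ^ 2 - 1) * polar (D F 3 c) e x) • f) = M ^ 2 * polar (D F 3 c) f x := by
        rw [polar_add_right, polar_add_right, polar_smul_right, polar_smul_right, e2, e4]
        ring
      have p2 : polar (D F 3 c) e (x + ((M ^ 2 - 1) * polar (D F 3 c) f x) • e +
          ((L ^ 2 - 1) * polar (D F 3 c) e x) • f) = L ^ 2 * polar (D F 3 c) e x := by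
        rw [polar_add_right, polar_add_right, polar_smul_right, polar_smul_right, e1, e3]
        ring
      rw [p1, p2, mul_add, mul_one, pow_add, pow_add]
      module
  rw [orderOf_eq_orderOf_iff]
  intro k
  constructor
  · intro hk
    have h3 := hpow k f
    rw [hk, e1, e4] at h3
    have h4 : ((L ^ (2 * k) - 1) * 1) • f = 0 := by
      have h5 : f = f + (((M ^ (2 * k) - 1) * 0) • e + ((L ^ (2 * k) - 1) * 1) • f) := by
        rw [← add_assoc]; exact h3
      rw [mul_zero, zero_smul, zero_add] at h5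
      exact left_eq_add.1 h5
    rw [mul_one] at h4
    have hf0 : f ≠ 0 := by
      rintro rfl
      rw [polar_zero_right] at e1
      exact zero_ne_one e1
    have h5 := (smul_eq_zero.1 h4).resolve_right hf0
    rw [sub_eq_zero, hL] at h5
    apply Units.ext
    push_cast
    rw [← pow_mul]
    exact h5
  · intro hk
    have h3 : L ^ (2 * k) = 1 := by
      have := congrArg Units.val hk
      push_cast at this
      rw [hL, pow_mul]
      exact this
    have h4 : M ^ (2 * k) = 1 := by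
      have h5 : (M * L) ^ (2 * k) = 1 := by rw [hML, one_pow]
      rw [mul_pow, h3, mul_one] at h5
      exact h5
    apply LinearEquiv.ext
    intro x
    rw [hpow, h3, h4]
    simp

end Three

section CBad

variable {F : Type*} [Field F] [Fintype F]

/-- **(a)** `q` prime to six -/
theorem cbad_a (h2 : (2 : F) ≠ 0) (h3 : (3 : F) ≠ 0) {κ : F} (hκ : κ ≠ 0) {p r : ℕ} (hp : p.Prime) (hp2 : p ≠ 2)
    (hp3 : p ≠ 3) (hr : r.Prime) (hr3 : r ≠ 3) {X : Set ℕ} (hX : 3 * p * r ∉ X) : CBad.{u} (Om (D F 3 κ)) X p r := by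
  intro W _ θ hW hW1
  obtain ⟨b, hb, w, hw⟩ := norm_three h2 h3 hκ hp hp2 hp3 θ hW hW1
  exact ⟨b, by rw [hb]; exact (Nat.coprime_primes Nat.prime_three hr).2 hr3.symm, by rw [hb]; exact hX, w,
    by rw [hb]; exact hw⟩

/-- **(b)** characteristic three, `t = 3` -/
theorem cbad_b (h2 : (2 : F) ≠ 0) (h3 : 3 ∣ Fintype.card F) {κ : F} (hκ : κ ≠ 0) {r : ℕ} (hr : r.Prime)
    (hr3 : r ≠ 3) (hrq : Nat.Coprime ((Fintype.card F - 1) / 2) r) {X : Set ℕ} (hX : 3 * 3 * r ∉ X)
    (hX' : (Fintype.card F - 1) / 2 * 3 * r ∉ X) : CBad.{u} (Om (D F 3 κ)) X 3 r := by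
  classical
  intro W _ θ hW hW1
  by_cases hN : ∀ b : Om (D F 3 κ), orderOf b = 3 → ∀ w : W, ∏ i ∈ Finset.range 3, θ (b ^ i) w = 1
  · obtain ⟨e, he0, he⟩ := exists_sing h2 κ
    obtain ⟨f, hef⟩ := exists_hyp (nondeg_D h2 hκ) he he0
    obtain ⟨l, hl⟩ := IsCyclic.exists_generator (α := Fˣ)
    have hlo : orderOf l = Fintype.card F - 1 := by
      rw [orderOf_eq_card_of_forall_mem_zpowers hl, Nat.card_eq_fintype_card, Fintype.card_units]
    have hcc : ((l⁻¹ : Fˣ) : F) * l = 1 := by rw [← Units.val_mul, inv_mul_cancel, Units.val_one]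
    have q1 : D F 3 κ (e + κ • f) = κ := by
      rw [Q_add, QuadraticMap.map_smul, hef.left, hef.right, polar_smul_right, hef.pair]
      simp
    have q2 : D F 3 κ ((l : F) • e + ((l⁻¹ : Fˣ) * κ : F) • f) = κ := by
      rw [Q_add, QuadraticMap.map_smul, QuadraticMap.map_smul, hef.left, hef.right, polar_smul_right,
        polar_smul_left, hef.pair]
      simp only [smul_eq_mul, mul_zero, mul_one, add_zero, zero_add]
      linear_combination κ * hcc
    have hv : D F 3 κ (e + κ • f) ≠ 0 := by rw [q1]; exact hκ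
    have hw : D F 3 κ ((l : F) • e + ((l⁻¹ : Fˣ) * κ : F) • f) ≠ 0 := by rw [q2]; exact hκ
    obtain ⟨-, -, ho⟩ := torus hκ hef l hv hw
    obtain ⟨m1, t1⟩ := zv_trivial h2 hκ θ hW (by decide) hN _ hv q1
    obtain ⟨m2, t2⟩ := zv_trivial h2 hκ θ hW (by decide) hN _ hw q2
    have hodd : Even (Fintype.card F - 1) := by
      obtain ⟨e', he'⟩ := QUpper.card_odd_eq (F := F) h2
      exact ⟨e', by omega⟩
    have ho2 : orderOf (l ^ 2) = (Fintype.card F - 1) / 2 := by
      rw [orderOf_pow_of_dvd (by norm_num) (by rw [hlo]; exact even_iff_two_dvd.1 hodd), hlo]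
    obtain ⟨b, hb⟩ : ∃ b : Om (D F 3 κ), b = ⟨zv _ hv, m1⟩ * ⟨zv _ hw, m2⟩ := ⟨_, rfl⟩
    have hbo : orderOf b = (Fintype.card F - 1) / 2 := by
      rw [← Subgroup.orderOf_coe, hb, Subgroup.coe_mul, ← ho2, ← ho]
    have hb1 : θ b = 1 := by rw [hb, map_mul, t1, t2, mul_one]
    obtain ⟨w, hw⟩ := hW1
    refine ⟨b, by rw [hbo]; exact hrq, by rw [hbo]; exact hX', w, ?_⟩
    have h6 : ∀ i, θ (b ^ i) w = w := by
      intro i
      rw [map_pow, hb1, one_pow]
      rfl
    rw [Finset.prod_congr rfl (fun i _ => h6 i), Finset.prod_const, Finset.card_range, hbo]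
    intro h5
    have h7 : orderOf w ∣ Nat.gcd ((Fintype.card F - 1) / 2) 3 :=
      Nat.dvd_gcd (orderOf_dvd_of_pow_eq_one h5) (orderOf_dvd_of_pow_eq_one (hW w))
    have h8 : Nat.Coprime ((Fintype.card F - 1) / 2) 3 := by
      rw [Nat.Coprime, Nat.gcd_comm]
      refine (Nat.Prime.coprime_iff_not_dvd Nat.prime_three).2 fun h9 => ?_
      have h10 : 3 ∣ Fintype.card F - 1 := by
        obtain ⟨k, hk⟩ := hodd
        have : Fintype.card F - 1 = 2 * ((Fintype.card F - 1) / 2) := by omega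
        rw [this]
        exact h9.mul_left 2
      have h11 : 0 < Fintype.card F := Fintype.card_pos
      omega
    rw [Nat.Coprime.gcd_eq_one h8] at h7
    exact hw (orderOf_eq_one_iff.1 (Nat.dvd_one.1 h7))
  · push Not at hN
    obtain ⟨b, hb, w, hw⟩ := hN
    exact ⟨b, by rw [hb]; exact (Nat.coprime_primes Nat.prime_three hr).2 hr3.symm, by rw [hb]; exact hX, w,
      by rw [hb]; exact hw⟩

/-- **(c)** `t ≥ 5` prime -/
theorem cbad_c (h2 : (2 : F) ≠ 0) {t : ℕ} [NeZero t] (ht : t.Prime) (ht5 : 5 ≤ t) {κ : F} (hκ : κ ≠ 0) {p r : ℕ}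
    (hp : p.Prime) (hp2 : p ≠ 2) (hpt : p ≠ t) (hr : r.Prime) (hrt : r ≠ t) {X : Set ℕ} (hX : t * p * r ∉ X) :
    CBad.{u} (Om (D F t κ)) X p r := by
  intro W _ θ hW hW1
  obtain ⟨b, hb, w, hw⟩ := norm_t ht ht5 h2 hκ hp hp2 hpt θ hW hW1
  exact ⟨b, by rw [hb]; exact (Nat.coprime_primes ht hr).2 hrt.symm, by rw [hb]; exact hX, w,
    by rw [hb]; exact hw⟩

/-- overgroups -/
theorem CBad.mono {C C' : Type*} [Group C] [Group C'] {f : C →* C'} (hf : Function.Injective f) {X : Set ℕ} {p r : ℕ}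
    (h : CBad.{u} C X p r) : CBad.{u} C' X p r := by
  intro W _ θ hW hW1
  obtain ⟨b, h1, h3, w, hw⟩ := h W (θ.comp f) hW hW1
  refine ⟨f b, by rw [orderOf_injective f hf]; exact h1, by rw [orderOf_injective f hf]; exact h3, w, ?_⟩
  rw [orderOf_injective f hf]
  simpa using hw

/-- **(d)** the Frobenius group `2 ^ (t - 1) : t` in dimension `t` -/
theorem exists_frob_t (h2 : (2 : F) ≠ 0) {t : ℕ} (ht : t.Prime) (ht2 : t ≠ 2) {V : Type*} [AddCommGroup V]
    [Module F V] [FiniteDimensional F V] [Finite V] {Q : QuadraticForm F V} (hQ : Nondeg Q) (hV : finrank F V = t) :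
    ∃ (U : Subgroup (Om Q)) (c : Om Q), orderOf c = t ∧ (∀ a ∈ U, c * a * c⁻¹ ∈ U) ∧
      (∀ i, 0 < i → i < orderOf c → ∀ a ∈ U, c ^ i * a = a * c ^ i → a = 1) ∧ Nat.card U ∣ 2 ^ t ∧ U ≠ ⊥ := by
  classical
  have hto : Odd t := ht.odd_of_ne_two ht2
  have hne : NeZero t := ⟨ht.ne_zero⟩
  obtain ⟨κ, e, hκ, he⟩ := exists_frame (n := t) h2 hto hQ hV
  let E := omCongr he
  let U := (psi (F := F) t 1 κ).range
  have hfin : Finite U := inferInstance
  refine ⟨U.map E.toMonoidHom, E (ro hto h2 hκ), ?_, ?_, ?_, ?_, ?_⟩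
  · rw [MulEquiv.orderOf_eq, orderOf_ro]
  · rintro _ ⟨_, ⟨s, rfl⟩, rfl⟩
    refine ⟨psi t 1 κ (fun i => s (i + 1)), ⟨_, rfl⟩, ?_⟩
    have h1 := ro_psi (m := 1) hto h2 hκ s
    show E (psi t 1 κ (fun i => s (i + 1))) = E (ro hto h2 hκ) * E (psi t 1 κ s) * (E (ro hto h2 hκ))⁻¹
    rw [← map_mul, h1, map_mul, mul_inv_cancel_right]
  · rintro i hi0 hi _ ⟨_, ⟨s, rfl⟩, rfl⟩ hcomm
    rw [MulEquiv.orderOf_eq, orderOf_ro] at hi
    have h1 : ro hto h2 hκ ^ i * psi t 1 κ s = psi t 1 κ s * ro hto h2 hκ ^ i := by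
      apply E.injective
      rw [map_mul, map_mul, map_pow]
      exact hcomm
    show E (psi t 1 κ s) = 1
    rw [free_t ht hto h2 hκ hi0 hi s h1, map_one]
  · exact (Subgroup.card_map_dvd U E.toMonoidHom).trans (card_psi_range κ)
  · intro h
    rw [Subgroup.map_eq_bot_iff_of_injective _ E.injective] at h
    let s : ZMod t → ℤˣ := fun i => if i = 0 then -1 else 1
    have h6 : psi t 1 κ s ∈ U := ⟨s, rfl⟩
    rw [h, Subgroup.mem_bot] at h6
    have h7 := congrArg Subtype.val h6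
    rw [psi_coe] at h7
    have h8 : ds F (s * (fun i : ZMod t => s (i + ((1 : ℕ) : ZMod t)))⁻¹) = ds F 1 := by
      rw [h7, ds_one]
      rfl
    have h9 := congrFun (ds_inj h2 h8) 0
    have : Fact (1 < t) := ⟨ht.one_lt⟩
    have h10 : (0 : ZMod t) + ((1 : ℕ) : ZMod t) ≠ 0 := by
      rw [zero_add, Nat.cast_one]
      exact one_ne_zero
    simp only [Pi.mul_apply, Pi.inv_apply, Pi.one_apply, s, if_true, if_neg h10] at h9
    exact absurd h9 (by decide)

end CBad

end Cfsg.Agent.H104.CBadOm
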