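import Mathlib
import Cfsg.Agent.H160.QEnum

/-!
# Multisets closed under Frobenius and inversion, six and eight elements, without the type (helper104)
-/

set_option autoImplicit false

namespace Cfsg.Agent.H104.QEnumB

open Cfsg.Agent.H160.QRoots

variable {K : Type*} [Field K] [DecidableEq K] {q : ℕ}

theorem Bd.mono {R : Multiset K} {M N M' N' : ℕ} (h : Bd R M N) (hM : M ≤ M') (hN : N ∣ N') : Bd R M' N' :=
  ⟨fun x => (h.cnt x).trans hM, fun x hx => pow_dvd (h.ex x hx) hN⟩

/-- adding an orbit -/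
theorem of_peel {R R' : Multiset K} {μ : K} {d M E : ℕ} (h : Inv q R)
    (h5 : ∀ x, x ∈ R' ↔ x ∈ R ∧ x ∉ orb q μ d) (h6 : ∀ x ∈ R', R'.count x = R.count x) (hM : R.count μ ≤ M)
    (hR' : Bd R' M E) (hμ : μ ^ E = 1) : Bd R M E := by
  constructor
  · intro x
    by_cases hx : x ∈ R
    · by_cases hxo : x ∈ orb q μ d
      · rw [count_orb h hxo]
        exact hM
      · have := (h5 x).2 ⟨hx, hxo⟩
        rw [← h6 x this]
        exact hR'.cnt x
    · rw [Multiset.count_eq_zero_of_notMem hx]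
      exact Nat.zero_le _
  · intro x hx
    by_cases hxo : x ∈ orb q μ d
    · exact ex_orb hxo hμ
    · exact hR'.ex x ((h5 x).2 ⟨hx, hxo⟩)

theorem bd_zero (M E : ℕ) : Bd (0 : Multiset K) M E :=
  ⟨fun x => by simp, fun x hx => absurd hx (Multiset.notMem_zero x)⟩

/-! ### divisibilities -/

section Div

variable {e : ℕ} (he : q = 2 * e + 1)
include he

theorem half_sub : (q - 1) / 2 = e := by omega

theorem half_add : (q + 1) / 2 = e + 1 := by omega

theorem sq_eq : q ^ 2 + 1 = 2 * (2 * e ^ 2 + 2 * e + 1) := by subst he; ring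

theorem div1 : q - 1 ∣ (q ^ 2 + 1) * ((q - 1) / 2) := by
  rw [half_sub he, sq_eq he, show q - 1 = 2 * e by omega]
  exact ⟨2 * e ^ 2 + 2 * e + 1, by ring⟩

theorem div2 : q + 1 ∣ (q ^ 2 + 1) * ((q + 1) / 2) := by
  rw [half_add he, sq_eq he, show q + 1 = 2 * (e + 1) by omega]
  exact ⟨2 * e ^ 2 + 2 * e + 1, by ring⟩

theorem div3 : q + 1 ∣ (q ^ 3 - 1) * ((q + 1) / 2) := by
  have h3 : q ^ 3 = 8 * e ^ 3 + 12 * e ^ 2 + 6 * e + 1 := by subst he; ring
  rw [half_add he, show q ^ 3 - 1 = 2 * (4 * e ^ 3 + 6 * e ^ 2 + 3 * e) by omega, show q + 1 = 2 * (e + 1) by omega]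
  exact ⟨4 * e ^ 3 + 6 * e ^ 2 + 3 * e, by ring⟩

theorem div4 : q - 1 ∣ (q ^ 3 + 1) * ((q - 1) / 2) := by
  have h3 : q ^ 3 = 8 * e ^ 3 + 12 * e ^ 2 + 6 * e + 1 := by subst he; ring
  rw [half_sub he, show q ^ 3 + 1 = 2 * (4 * e ^ 3 + 6 * e ^ 2 + 3 * e + 1) by omega, show q - 1 = 2 * e by omega]
  exact ⟨4 * e ^ 3 + 6 * e ^ 2 + 3 * e + 1, by ring⟩

end Div

section

variable {R : Multiset K} (hq : Function.Injective (fun x : K => x ^ q)) (hq0 : 0 < q)
include hq hq0

theorem three {e : ℕ} (he : q = 2 * e + 1) (h : Inv q R) (hc : R.card = 6) :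
    (∃ μ, IsMin q μ 3 ∧ R = (orb q μ 3).val) ∨ Bd R 1 ((q ^ 2 + 1) * ((q - 1) / 2)) ∨
      Bd R 1 ((q ^ 2 + 1) * ((q + 1) / 2)) ∨ Bd R 3 (q ^ 2 - 1) := by
  by_cases hbig : ∃ μ ∈ R, ∃ d, IsMin q μ d ∧ 3 ≤ d
  · left
    obtain ⟨μ, hμ, d, hd, h3d⟩ := hbig
    have h1 := d_le hq h hd hμ
    obtain rfl : d = 3 := by omega
    obtain ⟨R', h3, h4, h5, h6, h7⟩ := peel hq h hd
    have h8 : 1 ≤ R.count μ := Multiset.one_le_count_iff_mem.2 hμ
    have h9 : R.count μ = 1 := by omega
    have hR' : R'.card = 0 := by omega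
    rw [Multiset.card_eq_zero] at hR'
    rw [h9, one_nsmul, hR', add_zero] at h3
    exact ⟨μ, hd, h3⟩
  · right
    push Not at hbig
    have hd2 : ∀ x ∈ R, ∀ d, IsMin q x d → d ≤ 2 := fun x hx d hd => by
      have := hbig x hx d hd; omega
    rcases small_cases hq hq0 h hd2 with ⟨μ, hμ, hd, h1⟩ | h1
    · obtain ⟨R', h3, h4, h5, h6, h7⟩ := peel hq h hd
      have h8 : 1 ≤ R.count μ := Multiset.one_le_count_iff_mem.2 hμ
      have h9 : R.count μ = 1 := by omega
      have hR' : R'.card = 2 := by omega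
      rcases one hq hq0 h4 hR' with hB | hB
      · left
        exact of_peel h h5 h6 h9.le (Bd.mono hB le_rfl (div1 he)) (pow_dvd h1 (Dvd.intro _ rfl))
      · right; left
        exact of_peel h h5 h6 h9.le (Bd.mono hB le_rfl (div2 he)) (pow_dvd h1 (Dvd.intro _ rfl))
    · right; right
      exact ⟨fun x => by have := cnt_le hq h x; omega, h1⟩

theorem four {e : ℕ} (he : q = 2 * e + 1) (h : Inv q R) (hc : R.card = 8) :
    (∃ μ, IsMin q μ 4 ∧ R = (orb q μ 4).val) ∨ Bd R 1 ((q ^ 3 - 1) * ((q + 1) / 2)) ∨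
      Bd R 1 ((q ^ 3 + 1) * ((q - 1) / 2)) ∨ Bd R 1 ((q ^ 4 - 1) / 2) ∨ Bd R 2 ((q ^ 2 + 1) * ((q - 1) / 2)) ∨
      Bd R 2 ((q ^ 2 + 1) * ((q + 1) / 2)) ∨ Bd R 3 (q ^ 2 - 1) ∨ Bd R 4 (q - 1) ∨ Bd R 4 (q + 1) := by
  by_cases hbig : ∃ μ ∈ R, ∃ d, IsMin q μ d ∧ 4 ≤ d
  · left
    obtain ⟨μ, hμ, d, hd, h3d⟩ := hbig
    have h1 := d_le hq h hd hμ
    obtain rfl : d = 4 := by omega
    obtain ⟨R', h3, h4, h5, h6, h7⟩ := peel hq h hd
    have h8 : 1 ≤ R.count μ := Multiset.one_le_count_iff_mem.2 hμ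
    have h9 : R.count μ = 1 := by omega
    have hR' : R'.card = 0 := by omega
    rw [Multiset.card_eq_zero] at hR'
    rw [h9, one_nsmul, hR', add_zero] at h3
    exact ⟨μ, hd, h3⟩
  right
  push Not at hbig
  by_cases hbig3 : ∃ μ ∈ R, ∃ d, IsMin q μ d ∧ 3 ≤ d
  · obtain ⟨μ, hμ, d, hd, h3d⟩ := hbig3
    have h1 := hbig μ hμ d hd
    obtain rfl : d = 3 := by omega
    obtain ⟨R', h3, h4, h5, h6, h7⟩ := peel hq h hd
    have h8 : 1 ≤ R.count μ := Multiset.one_le_count_iff_mem.2 hμ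
    have h9 : R.count μ = 1 := by omega
    have hR' : R'.card = 2 := by omega
    rcases hd.pow hq0 with k | k
    · left
      refine of_peel h h5 h6 h9.le ?_ (pow_dvd k (Dvd.intro _ rfl))
      rcases one hq hq0 h4 hR' with hB | hB
      · exact Bd.mono hB le_rfl ((sub_one_dvd q 3).mul_right _)
      · exact Bd.mono hB le_rfl (div3 he)
    · right; left
      refine of_peel h h5 h6 h9.le ?_ (pow_dvd k (Dvd.intro _ rfl))
      rcases one hq hq0 h4 hR' with hB | hB
      · exact Bd.mono hB le_rfl (div4 he)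
      · exact Bd.mono hB le_rfl ((add_one_dvd_cube q).mul_right _)
  right; right
  push Not at hbig3
  have hd2 : ∀ x ∈ R, ∀ d, IsMin q x d → d ≤ 2 := fun x hx d hd => by
    have := hbig3 x hx d hd; omega
  rcases small_cases hq hq0 h hd2 with ⟨μ, hμ, hd, h1⟩ | h1
  · obtain ⟨R', h3, h4, h5, h6, h7⟩ := peel hq h hd
    have h8 : 1 ≤ R.count μ := Multiset.one_le_count_iff_mem.2 hμ
    by_cases h9 : R.count μ = 1
    · have hR' : R'.card = 4 := by omega
      by_cases hsm : ∀ x, R.count x ≤ 1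
      · left
        exact ⟨hsm, half_ex hq hq0 he h hd2⟩
      · right
        push Not at hsm
        obtain ⟨x, hx⟩ := hsm
        have hxR : x ∈ R := Multiset.one_le_count_iff_mem.1 (by omega)
        have hxo : x ∉ orb q μ 2 := by
          intro hxo
          rw [count_orb h hxo, h9] at hx
          omega
        have hxR' : x ∈ R' := (h5 x).2 ⟨hxR, hxo⟩
        obtain ⟨d', hd'⟩ := exists_isMin hq h4 hxR'
        have h10 := dm_le hq h4 hd'
        rw [h6 x hxR'] at h10
        have h11 := hd'.pos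
        have h13 : d' = 1 := by nlinarith
        subst h13
        have h14 : R.count x = 2 := by omega
        obtain ⟨R'', k3, k4, k5, k6, k7⟩ := peel hq h4 hd'
        rw [h6 x hxR', h14] at k7
        have hR'' : R''.card = 0 := by omega
        rw [Multiset.card_eq_zero] at hR''
        have hcx : R'.count x ≤ 2 := by rw [h6 x hxR']; omega
        rcases hd'.pow hq0 with k | k
        · left
          refine of_peel h h5 h6 (by omega) ?_ (pow_dvd h1 (Dvd.intro _ rfl))
          refine of_peel h4 k5 k6 hcx ?_ ?_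
          · rw [hR'']
            exact bd_zero _ _
          · rw [pow_one] at k
            exact pow_dvd k (div1 he)
        · right; left
          refine of_peel h h5 h6 (by omega) ?_ (pow_dvd h1 (Dvd.intro _ rfl))
          refine of_peel h4 k5 k6 hcx ?_ ?_
          · rw [hR'']
            exact bd_zero _ _
          · rw [pow_one] at k
            exact pow_dvd k (div2 he)
    · right; left
      have h10 : R.count μ = 2 := by omega
      have hR' : R'.card = 0 := by omega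
      rw [Multiset.card_eq_zero] at hR'
      refine of_peel h h5 h6 (by omega) ?_ (pow_dvd h1 (Dvd.intro _ rfl))
      rw [hR']
      exact bd_zero _ _
  · right; right; right
    by_cases hc3 : ∀ x, R.count x ≤ 3
    · exact Or.inl ⟨hc3, h1⟩
    · push Not at hc3
      obtain ⟨μ, hμ3⟩ := hc3
      have hμ : μ ∈ R := Multiset.one_le_count_iff_mem.1 (by omega)
      obtain ⟨d, hd⟩ := exists_isMin hq h hμ
      have h2 := dm_le hq h hd
      have h3 := hd.pos
      have h4 : d = 1 := by nlinarith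
      subst h4
      have h5 : R.count μ = 4 := by omega
      obtain ⟨R', k3, k4, k5, k6, k7⟩ := peel hq h hd
      have hR' : R'.card = 0 := by omega
      rw [Multiset.card_eq_zero] at hR'
      right
      rcases hd.pow hq0 with h9 | h9
      · left
        refine of_peel h k5 k6 (by omega) ?_ (by rwa [pow_one] at h9)
        rw [hR']
        exact bd_zero _ _
      · right
        refine of_peel h k5 k6 (by omega) ?_ (by rwa [pow_one] at h9)
        rw [hR']
        exact bd_zero _ _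

end

end Cfsg.Agent.H104.QEnumB
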