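import Mathlib
import Cfsg.Agent.H160.QChar
import Cfsg.Agent.H104.QEnumB

/-!
# Isometries of an eight-dimensional quadratic space over the field with two elements have order at most `42` (helper104)

For `S3507` (`Mo (POmega8^-(2)) 59`).
-/

set_option autoImplicit false

namespace Cfsg.Agent.H104.CycRoots

open QuadraticMap Module
open Cfsg.Agent.LieClassical.OrthCore Cfsg.Agent.H160.QDisc Cfsg.Agent.H160.QRoots Cfsg.Agent.H160.QChar
  Cfsg.Agent.H104.QEnumB

section roots

variable {K : Type*} [Field K] [DecidableEq K]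

omit [DecidableEq K] in
theorem sq_ne {μ : K} {d : ℕ} (h : IsMin 2 μ d) : μ ^ 1 ≠ 1 := by
  intro h1
  rw [pow_one] at h1
  exact h.ne1 (by rw [h1, inv_one])

omit [DecidableEq K] in
theorem min1 {μ : K} (h : IsMin 2 μ 1) : μ ^ 3 = 1 := by
  rcases h.pow (by norm_num) with h1 | h1
  · exact absurd h1 (sq_ne h)
  · exact h1

omit [DecidableEq K] in
theorem min2 {μ : K} (h : IsMin 2 μ 2) : μ ^ 5 = 1 := by
  rcases h.pow (by norm_num) with h1 | h1
  · exfalso
    apply (h.min 1 (by norm_num) (by norm_num)).2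
    have h2 : μ ^ 3 = 1 := h1
    rw [pow_one]
    refine eq_inv_of_mul_eq_one_left ?_
    rw [← h2]
    ring
  · exact h1

/-- the multiset of the eigenvalues `≠ 1`, `k` the multiplicity of `1` -/
theorem key {R : Multiset K} (hq : Function.Injective (fun x : K => x ^ 2)) (h : Inv 2 R) {k : ℕ}
    (hc : R.card + k = 8) : ∃ M N c, Bd R M N ∧ k ≤ M ∧ M ≤ 2 ^ c ∧ N * 2 ^ c ≤ 59 ∧ 0 < N := by
  by_cases hb4 : ∃ μ ∈ R, ∃ d, IsMin 2 μ d ∧ 4 ≤ d
  · obtain ⟨μ, hμ, d, hd, h4d⟩ := hb4
    obtain ⟨R', h3, h4, h5, h6, h7⟩ := peel hq h hd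
    have h8 : 1 ≤ R.count μ := Multiset.one_le_count_iff_mem.2 hμ
    have h9 : d = 4 := by nlinarith
    subst h9
    have h10 : R.count μ = 1 := by omega
    have hR' : R'.card = 0 := by omega
    rw [Multiset.card_eq_zero] at hR'
    rcases hd.pow (by norm_num) with k1 | k1
    · refine ⟨1, 15, 0, of_peel h h5 h6 h10.le ?_ k1, by omega, by norm_num, by norm_num, by norm_num⟩
      rw [hR']
      exact bd_zero _ _
    · refine ⟨1, 17, 0, of_peel h h5 h6 h10.le ?_ k1, by omega, by norm_num, by norm_num, by norm_num⟩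
      rw [hR']
      exact bd_zero _ _
  push Not at hb4
  by_cases hb3 : ∃ μ ∈ R, ∃ d, IsMin 2 μ d ∧ 3 ≤ d
  · obtain ⟨μ, hμ, d, hd, h3d⟩ := hb3
    have h4d := hb4 μ hμ d hd
    obtain ⟨R', h3, h4, h5, h6, h7⟩ := peel hq h hd
    have h8 : 1 ≤ R.count μ := Multiset.one_le_count_iff_mem.2 hμ
    have h9 : d = 3 := by omega
    subst h9
    have h10 : R.count μ = 1 := by omega
    have hR' : R'.card ≤ 2 := by omega
    have hex : ∀ x ∈ R', x ^ 3 = 1 ∧ R'.count x ≤ 2 := by
      intro x hx
      obtain ⟨d', hd'⟩ := exists_isMin hq h4 hx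
      have h11 := dm_le hq h4 hd'
      have h12 := hd'.pos
      have h13 : 1 ≤ R'.count x := Multiset.one_le_count_iff_mem.2 hx
      have h14 : d' = 1 := by nlinarith
      subst h14
      exact ⟨min1 hd', by omega⟩
    have hcnt : ∀ x, R'.count x ≤ 2 := fun x => by
      by_cases hx : x ∈ R'
      · exact (hex x hx).2
      · rw [Multiset.count_eq_zero_of_notMem hx]; exact Nat.zero_le _
    rcases hd.pow (by norm_num) with k1 | k1
    · refine ⟨2, 21, 1, of_peel h h5 h6 (by omega) ⟨hcnt, fun x hx => ?_⟩ ?_, by omega, by norm_num, by norm_num,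
        by norm_num⟩
      · exact pow_dvd (hex x hx).1 (by norm_num)
      · exact pow_dvd k1 (by norm_num)
    · refine ⟨2, 9, 1, of_peel h h5 h6 (by omega) ⟨hcnt, fun x hx => ?_⟩ ?_, by omega, by norm_num, by norm_num,
        by norm_num⟩
      · exact pow_dvd (hex x hx).1 (by norm_num)
      · exact pow_dvd k1 (by norm_num)
  push Not at hb3
  have hd2 : ∀ x ∈ R, ∀ d, IsMin 2 x d → x ^ 15 = 1 := by
    intro x hx d hd
    have h1 := hb3 x hx d hd
    have h2 := hd.pos
    have h3 : d = 1 ∨ d = 2 := by omega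
    rcases h3 with rfl | rfl
    · exact pow_dvd (min1 hd) (by norm_num)
    · exact pow_dvd (min2 hd) (by norm_num)
  by_cases hb2 : ∃ μ ∈ R, ∃ d, IsMin 2 μ d ∧ 2 ≤ d
  · obtain ⟨μ, hμ, d, hd, h2d⟩ := hb2
    have h3d := hb3 μ hμ d hd
    obtain ⟨R', h3, h4, h5, h6, h7⟩ := peel hq h hd
    have h8 : 1 ≤ R.count μ := Multiset.one_le_count_iff_mem.2 hμ
    have h9 : d = 2 := by omega
    subst h9
    have h10 : R.count μ ≤ 2 := by omega
    have hμ5 := min2 hd
    by_cases hR0 : R' = 0
    · refine ⟨4, 5, 2, of_peel h h5 h6 (by omega) ?_ hμ5, ?_, by norm_num, by norm_num, by norm_num⟩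
      · rw [hR0]
        exact bd_zero _ _
      · omega
    · obtain ⟨y, hy⟩ := Multiset.exists_mem_of_ne_zero hR0
      have hcnt : ∀ x ∈ R', R'.count x * 2 ≤ R'.card := by
        intro x hx
        obtain ⟨d', hd'⟩ := exists_isMin hq h4 hx
        have h11 := dm_le hq h4 hd'
        have h12 := hd'.pos
        nlinarith
      have h13 := hcnt y hy
      have h14 : 1 ≤ R'.count y := Multiset.one_le_count_iff_mem.2 hy
      refine ⟨2, 15, 1, of_peel h h5 h6 (by omega) ⟨fun x => ?_, fun x hx => ?_⟩ (pow_dvd hμ5 (by norm_num)), by omega,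
        by norm_num, by norm_num, by norm_num⟩
      · by_cases hx : x ∈ R'
        · have := hcnt x hx
          omega
        · rw [Multiset.count_eq_zero_of_notMem hx]; exact Nat.zero_le _
      · obtain ⟨d', hd'⟩ := exists_isMin hq h4 hx
        exact hd2 x ((h5 x).1 hx).1 d' hd'
  push Not at hb2
  refine ⟨8, 3, 3, ⟨fun x => (Multiset.count_le_card x R).trans (by omega), fun x hx => ?_⟩, by omega, by norm_num,
    by norm_num, by norm_num⟩
  obtain ⟨d, hd⟩ := exists_isMin hq h hx
  have h1 := hb2 x hx d hd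
  have h2 := hd.pos
  have h3 : d = 1 := by omega
  subst h3
  exact min1 hd

end roots

section isom

variable {F V : Type*} [Field F] [Fintype F] [AddCommGroup V] [Module F V] [FiniteDimensional F V]

theorem order_le (hF : Fintype.card F = 2) (h8 : finrank F V = 8) {Q : QuadraticForm F V} (hQ : Nondeg Q)
    {g : V ≃ₗ[F] V} (hg : g ∈ O Q) : ∃ n, 0 < n ∧ n ≤ 59 ∧ g ^ n = 1 := by
  classical
  have : Fact (Nat.Prime 2) := ⟨Nat.prime_two⟩
  have : CharP F 2 := charP_of_card_eq_prime (p := 2) (by rw [← hF])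
  obtain ⟨R, hR⟩ : ∃ R, R = rts (g : V →ₗ[F] V) := ⟨_, rfl⟩
  have hq : Function.Injective (fun x : AlgebraicClosure F => x ^ 2) := by
    have := frob_inj F
    rwa [hF] at this
  have hfr : ∀ x, R.count (x ^ 2) = R.count x := fun x => by
    have := count_frob (g : V →ₗ[F] V) x
    rwa [hF, ← hR] at this
  have hin : ∀ x, R.count x⁻¹ = R.count x := fun x => by
    rw [hR]
    exact count_inv hQ hg x
  have h0 : ∀ x ∈ R, x ≠ 0 := by
    rintro x hx rfl
    rw [hR, ← map_zero (algebraMap F (AlgebraicClosure F)), mem_rts_iff] at hx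
    obtain ⟨v, hv⟩ := hx.exists_hasEigenvector
    have h3 := hv.apply_eq_smul
    rw [zero_smul] at h3
    exact hv.2 (g.map_eq_zero_iff.1 h3)
  have hcard : R.card = 8 := by rw [hR, card_rts, h8]
  have hsq1 : ∀ x : AlgebraicClosure F, x ^ 2 = 1 → x = 1 := fun x hx => hq (by
    show x ^ 2 = 1 ^ 2
    rw [hx, one_pow])
  have hInv : Inv 2 (R.filter (fun x => x ≠ 1)) := by
    constructor
    · intro x
      by_cases hx : x = 1
      · rw [hx, one_pow]
      · rw [Multiset.count_filter_of_pos (p := fun x => x ≠ 1) hx,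
          Multiset.count_filter_of_pos (p := fun x => x ≠ 1) (fun h => hx (hsq1 x h)), hfr]
    · intro x
      by_cases hx : x = 1
      · rw [hx, inv_one]
      · rw [Multiset.count_filter_of_pos (p := fun x => x ≠ 1) hx,
          Multiset.count_filter_of_pos (p := fun x => x ≠ 1) (fun h => hx (inv_eq_one.1 h)), hin]
    · intro x hx
      exact h0 x (Multiset.mem_of_mem_filter hx)
    · intro x hx h
      have h1 := h0 x (Multiset.mem_of_mem_filter hx)
      apply (Multiset.mem_filter.1 hx).2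
      apply hsq1
      rw [pow_two]
      nth_rewrite 2 [h]
      exact mul_inv_cancel₀ h1
  have hc : (R.filter (fun x => x ≠ 1)).card + R.count 1 = 8 := by
    have h1 := congrArg Multiset.card (Multiset.filter_add_not (fun x => x ≠ 1) R)
    rw [Multiset.card_add, hcard] at h1
    rw [← h1, Multiset.count_eq_card_filter_eq]
    congr 2
    apply Multiset.filter_congr
    intro x _
    rw [not_not]
    exact eq_comm
  obtain ⟨M, N, c, hB, hk, hM, hN, hN0⟩ := key hq hInv hc
  have hB' : Bd (rts (g : V →ₗ[F] V)) M N := by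
    rw [← hR]
    constructor
    · intro x
      by_cases hx : x = 1
      · rw [hx]
        exact hk
      · rw [← Multiset.count_filter_of_pos (p := fun x => x ≠ 1) hx]
        exact hB.cnt x
    · intro x hx
      by_cases hx1 : x = 1
      · rw [hx1, one_pow]
      · exact hB.ex x (Multiset.mem_filter.2 ⟨hx, hx1⟩)
  have h1 := pow_eq_one_of_bd (p := 2) hB' hM
  refine ⟨N * 2 ^ c, by positivity, hN, ?_⟩
  apply LinearEquiv.toLinearMap_injective
  refine Eq.trans ?_ h1
  have h2 : ∀ i : ℕ, ((g ^ i : V ≃ₗ[F] V) : V →ₗ[F] V) = (g : V →ₗ[F] V) ^ i := by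
    intro i
    induction i with
    | zero => rfl
    | succ i ih => rw [pow_succ, pow_succ, ← ih]; rfl
  exact h2 _

end isom

end Cfsg.Agent.H104.CycRoots
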