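import Mathlib
import Cfsg.Agent.H104.CycRoots
import Cfsg.Agent.H384.Cyc.Defs
import Cfsg.Agent.AutOrth.Final
import Cfsg.Agent.H359.OEightE
import Cfsg.Agent.H899.O7.Spec
import Cfsg.Agent.H899.O7.Main
import Cfsg.Agent.H677.OmegaIrr
import Cfsg.Agent.S2146
import Cfsg.Agent.S2147
import Cfsg.Agent.S2607
import Cfsg.Agent.S2608

/-!
# `POmega8^+(2)`, `POmega8^-(2)`, `POmega8^+(3)` for `S3507` (helper104)

* `mo_of_out` : a bound for the orders of the automorphisms from `Out T` and the element orders of `T`;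
* `sm_plus_two`, `sm_minus_two` : `Sm` for `POmega8^+(2)`, `POmega8^-(2)`;
* `smC_plus_three` : `SmC` for `POmega8^+(3)`.
-/

set_option autoImplicit false

namespace Cfsg.Agent.H104.CycOm8

open Cfsg.Agent.H384.Cyc

universe u

/-- **automorphisms from outer automorphisms** -/
theorem mo_of_out {T : Type*} [Group T] {X : Type*} [Group X] (e : Cfsg.Out T ≃* X) {k B : ℕ}
    (hk : ∀ x : X, ∃ n, 0 < n ∧ n ≤ k ∧ x ^ n = 1) (hB : ∀ t : T, ∃ n, 0 < n ∧ n ≤ B ∧ t ^ n = 1) :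
    Mo T (k * B) := by
  intro α
  obtain ⟨n, hn0, hn, h1⟩ := hk (e (QuotientGroup.mk α))
  have h2 : (QuotientGroup.mk (α ^ n) : Cfsg.Out T) = 1 := by
    apply e.injective
    rw [map_one, ← h1, ← map_pow]
    rfl
  obtain ⟨t, ht⟩ := (QuotientGroup.eq_one_iff _).1 h2
  obtain ⟨m, hm0, hm, h3⟩ := hB t
  have h4 : α ^ (n * m) = 1 := by
    rw [pow_mul, ← ht, ← map_pow, h3, map_one]
  exact (Nat.le_of_dvd (Nat.mul_pos hn0 hm0) (orderOf_dvd_of_pow_eq_one h4)).trans (Nat.mul_le_mul hn hm)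

theorem pow_fst {A B : Type*} [Group A] [Group B] [Subsingleton B] {k : ℕ} (h : ∀ x : A, ∃ n, 0 < n ∧ n ≤ k ∧ x ^ n = 1)
    (x : A × B) : ∃ n, 0 < n ∧ n ≤ k ∧ x ^ n = 1 := by
  obtain ⟨n, h0, h1, h2⟩ := h x.1
  exact ⟨n, h0, h1, Prod.ext h2 (Subsingleton.elim _ _)⟩

theorem perm3 (x : Equiv.Perm (Fin 3)) : ∃ n, 0 < n ∧ n ≤ 3 ∧ x ^ n = 1 := by
  have h : ∀ x : Equiv.Perm (Fin 3), x ^ 1 = 1 ∨ x ^ 2 = 1 ∨ x ^ 3 = 1 := by decide
  rcases h x with h | h | h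
  · exact ⟨1, by norm_num, by norm_num, h⟩
  · exact ⟨2, by norm_num, by norm_num, h⟩
  · exact ⟨3, by norm_num, by norm_num, h⟩

set_option maxRecDepth 20000 in
theorem perm4 (x : Equiv.Perm (Fin 4)) : ∃ n, 0 < n ∧ n ≤ 4 ∧ x ^ n = 1 := by
  have h : ∀ x : Equiv.Perm (Fin 4), x ^ 1 = 1 ∨ x ^ 2 = 1 ∨ x ^ 3 = 1 ∨ x ^ 4 = 1 := by decide
  rcases h x with h | h | h | h
  · exact ⟨1, by norm_num, by norm_num, h⟩
  · exact ⟨2, by norm_num, by norm_num, h⟩
  · exact ⟨3, by norm_num, by norm_num, h⟩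
  · exact ⟨4, by norm_num, by norm_num, h⟩

/-! ### `POmega8^+(2)` -/

theorem mo_plus_two {F : Type*} [Field F] [Fintype F] (hF : Fintype.card F = 2) :
    Mo (Cfsg.POmega F (Cfsg.quadFormPlus 4 F)) 45 := by
  have h1 := Cfsg.Agent.S2607.result (F := F) (f := 1) (m := 4) le_rfl (by rw [hF, pow_one]) le_rfl
  rw [if_pos rfl] at h1
  obtain ⟨e⟩ := h1
  obtain ⟨e8⟩ := Cfsg.Agent.H359.OEight.exists_equiv hF
  have hsub : Subsingleton (Multiplicative (ZMod 1)) := inferInstanceAs (Subsingleton (ZMod 1))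
  refine mo_of_out (k := 3) (B := 15) e (pow_fst perm3) fun t => ?_
  have h2 := Cfsg.Agent.H359.OEight.sp (e8 t)
  rw [MulEquiv.orderOf_eq] at h2
  have h3 : ∀ n ∈ Cfsg.Agent.H359.Om, 0 < n ∧ n ≤ 15 := by decide
  exact ⟨orderOf t, (h3 _ h2).1, (h3 _ h2).2, pow_orderOf_eq_one t⟩

/-- **`POmega8^+(2)`** -/
theorem sm_plus_two {F : Type*} [Field F] [Fintype F] (hF : Fintype.card F = 2) :
    Sm (Cfsg.POmega F (Cfsg.quadFormPlus 4 F)) := by
  refine ⟨45, mo_plus_two hF, fun H hH => ?_⟩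
  have h1 := (Cfsg.Agent.S2146.result (F := F) hF 4 le_rfl).1 H hH
  norm_num at h1
  omega

/-! ### `POmega8^-(2)` -/

open QuadraticMap Cfsg.Agent.LieClassical.OrthCore Cfsg.Agent.LieClassical.OrthTrans
  Cfsg.Agent.ClassicalGeometry.OrthAut1 Cfsg.Agent.ClassicalGeometry.OrthSemi
  Cfsg.Agent.ClassicalGeometry.OrthSemiForms Cfsg.Agent.AutOrth.Main

/-- over the field with two elements semisimilitudes are isometries -/
theorem exists_isom {F V : Type*} [Field F] [Fintype F] [AddCommGroup V] [Module F V] [FiniteDimensional F V]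
    (hF : Fintype.card F = 2) {Q : QuadraticForm F V} (M : Gam Q) :
    ∃ g ∈ O Q, ∀ v, g v = M.1 v := by
  obtain ⟨M, σ, c, hM⟩ := M
  have h1 : ∀ x : F, x ≠ 0 → x = 1 := by
    intro x hx
    have := FiniteField.pow_card_sub_one_eq_one x hx
    rwa [hF, pow_one] at this
  have hc : c = 1 := h1 c hM.ne
  have hσ : ∀ x, σ x = x := by
    intro x
    by_cases hx : x = 0
    · rw [hx, map_zero]
    · rw [h1 x hx, map_one]
  obtain ⟨f, hf⟩ : ∃ f : V →ₗ[F] V, ∀ v, f v = M v :=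
    ⟨{ toFun := M, map_add' := hM.add, map_smul' := fun a v => by rw [hM.smul, hσ]; rfl }, fun v => rfl⟩
  have hinj : Function.Injective f := fun x y h => M.injective (by rw [← hf, ← hf, h])
  refine ⟨LinearEquiv.ofInjectiveEndo f hinj, ?_, fun v => hf v⟩
  rw [mem_O]
  intro v
  show Q (f v) = Q v
  rw [hf, hM.form, hc, one_mul, hσ]

theorem mo_of_isom {F V : Type*} [Field F] [Fintype F] [AddCommGroup V] [Module F V] [FiniteDimensional F V]
    (hF : Fintype.card F = 2) {Q : QuadraticForm F V} (hQ : Nondeg Q) (h8 : Module.finrank F V = 8)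
    (hs : Function.Surjective (Psi Q)) : Mo (P Q) 59 := by
  intro α
  obtain ⟨M, rfl⟩ := hs α
  obtain ⟨g, hg, hgM⟩ := exists_isom hF M
  obtain ⟨n, hn0, hn, h1⟩ := CycRoots.order_le hF h8 hQ hg
  have h2 : ∀ (i : ℕ) v, (g ^ i) v = (M.1 ^ i) v := by
    intro i
    induction i with
    | zero => intro v; rfl
    | succ i ih => intro v; rw [pow_succ, pow_succ, LinearEquiv.mul_apply, Equiv.Perm.mul_apply, ih, hgM]
  have h3 : M ^ n = 1 := by
    apply Subtype.ext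
    ext v
    have h4 := h2 n v
    rw [h1] at h4
    exact h4.symm
  have h4 : Psi Q M ^ n = 1 := by rw [← map_pow, h3, map_one]
  exact (Nat.le_of_dvd hn0 (orderOf_dvd_of_pow_eq_one h4)).trans hn

theorem mo_minus_two {F : Type*} [Field F] [Fintype F] (hF : Fintype.card F = 2) {a b : F}
    (hab : ∀ z₁ z₂ : F, z₁ ^ 2 + a * z₁ * z₂ + b * z₂ ^ 2 = 0 → z₁ = 0 ∧ z₂ = 0) :
    Mo (Cfsg.POmega F (Cfsg.quadFormMinus 3 F a b)) 59 := by
  have hs := Cfsg.Agent.AutOrth.Final.surjective_minus (m := 3) le_rfl hab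
  have hG := Cfsg.Agent.ClassicalGeometry.OrthSemiForms.good_minus (F := F) (m := 3) (by norm_num) a b hab
  have hQ := Cfsg.Agent.LieClassical.OrthForms.nondeg_minusForm 3 F a b hab
  have h1 := mo_of_isom hF hQ (by simp) hs
  have h2 := h1.congr (pomegaEquiv hG).symm
  rwa [Cfsg.Agent.LieClassical.OrthForms.coe_minusForm] at h2

/-- **`POmega8^-(2)`** -/
theorem sm_minus_two {F : Type*} [Field F] [Fintype F] (hF : Fintype.card F = 2) {a b : F}
    (hab : ∀ z₁ z₂ : F, z₁ ^ 2 + a * z₁ * z₂ + b * z₂ ^ 2 = 0 → z₁ = 0 ∧ z₂ = 0) :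
    Sm (Cfsg.POmega F (Cfsg.quadFormMinus 3 F a b)) := by
  refine ⟨59, mo_minus_two hF hab, fun H hH => ?_⟩
  have h1 := (Cfsg.Agent.S2147.result (F := F) hF 4 le_rfl a b hab).1 H hH
  norm_num at h1
  omega

/-! ### `POmega8^+(3)` -/

theorem mo_plus_three {F : Type*} [Field F] [Fintype F] (hF : Fintype.card F = 3) :
    Mo (Cfsg.POmega F (Cfsg.quadFormPlus 4 F)) 80 := by
  have : Fact (Nat.Prime 3) := ⟨Nat.prime_three⟩
  have h1 := Cfsg.Agent.S2608.result (F := F) (p := 3) (f := 1) (m := 4) le_rfl (by rw [hF, pow_one]) (by norm_num)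
    le_rfl
  rw [if_pos rfl] at h1
  obtain ⟨e⟩ := h1
  obtain ⟨e8⟩ := Cfsg.Agent.H899.O7.Main.equiv8 hF
  have hsub : Subsingleton (Multiplicative (ZMod 1)) := inferInstanceAs (Subsingleton (ZMod 1))
  refine mo_of_out (k := 4) (B := 20) e (pow_fst perm4) fun t => ?_
  have h2 : orderOf (e8 t) ∈ Cfsg.Agent.H899.O7.Om := by
    rw [← Cfsg.Agent.H899.O7.Spec.range_Q8]
    exact ⟨e8 t, rfl⟩
  rw [MulEquiv.orderOf_eq] at h2
  obtain ⟨m, hm, h3⟩ := h2
  have h4 : ∀ n ∈ Cfsg.Agent.H899.O7.PolyList.exps, 0 < n ∧ n ≤ 20 := by decide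
  exact ⟨m, (h4 m hm).1, (h4 m hm).2, orderOf_dvd_iff_pow_eq_one.1 h3⟩

theorem md_plus_three {F : Type u} [Field F] [Fintype F] (hF : Fintype.card F = 3) :
    Cfsg.Agent.H954.OutDeg.MD (Cfsg.POmega F (Cfsg.quadFormPlus 4 F)) 81 := by
  classical
  have : Finite (Cfsg.isometryGroup F (Cfsg.quadFormPlus 4 F)) := inferInstance
  have : Finite (Cfsg.POmega F (Cfsg.quadFormPlus 4 F)) := inferInstance
  obtain ⟨e8⟩ := Cfsg.Agent.H899.O7.Main.equiv8 hF
  intro χ hχ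
  have hG := Cfsg.Agent.ClassicalGeometry.OrthSemiForms.good_plus (F := ZMod 3) (m := 4) (by norm_num)
  have h4 := Cfsg.Agent.H677.OmegaIrr.charDegree_ge hG e8 χ (Cfsg.Agent.H954.OutDeg.ne_one hχ)
  simpa using h4

/-- **`POmega8^+(3)`** -/
theorem smC_plus_three {F : Type u} [Field F] [Fintype F] (hF : Fintype.card F = 3) :
    SmC (Cfsg.POmega F (Cfsg.quadFormPlus 4 F)) :=
  ⟨80, 81, mo_plus_three hF, md_plus_three hF, by norm_num⟩

end Cfsg.Agent.H104.CycOm8
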