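import Mathlib
import Cfsg.Agent.H104.CycOm8
import Cfsg.Agent.S0293

/-!
# `Ord` for `POmega8^+(3)` (helper104, for `S3507`)
-/

set_option autoImplicit false

namespace Cfsg.Agent.H104.CycOrd


/-- **`POmega8^+(3)`** -/
theorem ord_plus_three {F : Type*} [Field F] [Fintype F] (hF : Fintype.card F = 3) :
    Cfsg.Agent.H384.Cyc.Ord (Cfsg.POmega F (Cfsg.quadFormPlus 4 F)) := by
  refine ⟨80, CycOm8.mo_plus_three hF, ?_⟩
  have h1 := Cfsg.Agent.S0293.result (F := F) hF 4 le_rfl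
  have h2 : Nat.gcd 4 (3 ^ 4 - 1) = 4 := by norm_num
  rw [h2] at h1
  simp only [Finset.prod_range_succ, Finset.prod_range_zero] at h1
  norm_num at h1
  omega

end Cfsg.Agent.H104.CycOrd
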