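import Cfsg.Agent.H104.U54.Geo
import Cfsg.Agent.H104.U54.Res
import Cfsg.Agent.H372.DerU.Ntc

/-!
# S3502, the row `PSU 5 F 4` (task 3778)
-/

set_option autoImplicit false

namespace Cfsg.Agent.H104.U54

open Cfsg Cfsg.Geo Cfsg.Agent.OrdDiv Cfsg.Agent.H439.Der Cfsg.Agent.H372.DerU Cfsg.Agent.H372.FxU
open Cfsg.Agent.ClassicalGeometry.PSUAutBasic (pr pr_surjective pr_eq_one_iff)
open Cfsg.Agent.Phan (emb emb_injective)

variable {F : Type} [Field F] [Fintype F]

/-- an element of order `39` -/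
theorem exists_ord (hF : Fintype.card F = 4 ^ 2) : ∃ z : PSU 5 F 4, orderOf z = 39 := by
  obtain ⟨x, hx⟩ := exists_emb (F := F) (q := 4) (r := 13) (by norm_num) (m := 3) (by
    have h := S0278.result hF 3 (by norm_num)
    simp only [Finset.prod_range_succ, Finset.prod_range_zero] at h
    norm_num [Nat.even_iff] at h
    omega)
  obtain ⟨y, hy⟩ := exists_emb (F := F) (q := 4) (r := 3) (by norm_num) (m := 2) (by
    rw [card_two hF]
    norm_num)
  have hc : Commute (pr 5 F 4 (emb hF 0 (by norm_num : 0 + 3 ≤ 5) x)) (pr 5 F 4 (emb hF 3 (by norm_num : 3 + 2 ≤ 5) y)) := by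
    show _ * _ = _ * _
    rw [← map_mul, emb_comm, map_mul]
  refine ⟨_, (hc.orderOf_mul_eq_mul_orderOf_of_coprime ?_).trans ?_⟩
  · rw [orderOf_emb hF (by norm_num) _ (by norm_num), orderOf_emb hF (by norm_num) _ (by norm_num), hx, hy]
    norm_num
  · rw [orderOf_emb hF (by norm_num) _ (by norm_num), orderOf_emb hF (by norm_num) _ (by norm_num), hx, hy]

/-- the subgroups of order divisible by `13 · 17` -/
theorem big (tab : OrderTable.{0}) (hK : ∀ (X : Type) [Group X] [Finite X] [IsSimpleGroup X], Cfsg.IsKnownSimple' X)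
    (hF : Fintype.card F = 4 ^ 2) {M : Subgroup (PSU 5 F 4)} (hM : M ≠ ⊤) (h13 : 13 ∣ Nat.card M)
    (h17 : 17 ∣ Nat.card M) : ¬ 41 ∣ Nat.card M ∧ ∀ z ∈ M, orderOf z ≠ 39 := by
  have hfin : Finite (PSU 5 F 4) := Quotient.finite _
  rcases S5663.result (F := F) 5 4 hF (by norm_num) (by norm_num) (H251.GeoU.pre M) (H251.GeoU.pre_le M)
    (H251.GeoU.pre_proper M hM) with ⟨X, hX, hle⟩ | ⟨P, hP, -⟩
  · have hMX : Nat.card M ∣ Nat.card X := (H251.GeoU.card_dvd_pre M).trans (Subgroup.card_dvd_of_le hle)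
    obtain ⟨h1, W, h2, h3, h4⟩ := geo_point hF hX (h13.trans hMX) (h17.trans hMX)
    exact ⟨fun h => h1 (h.trans hMX), fun z hz => no_ord_point hF h2 h3 (hle.trans h4) hz⟩
  · exact res tab hK hF hM (H264.FKS.exists_res_psu hF (by norm_num) hP) h13 h17

/-- **The row.** -/
theorem rowS_psu54 (tab : OrderTable.{0})
    (hK : ∀ (X : Type) [Group X] [Finite X] [IsSimpleGroup X], Cfsg.IsKnownSimple' X)
    {F : Type} [Field F] [Fintype F] (hF : Fintype.card F = 4 ^ 2) : RowS (Cfsg.PSU 5 F 4) := by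
  have hfin : Finite (PSU 5 F 4) := Quotient.finite _
  refine RowS.of_three fun M hM => ?_
  have miss : ∀ v : ℕ, v.Prime → v ∣ Nat.card (PSU 5 F 4) → v ≠ 41 → ¬ v ∣ Nat.card M → Three (PSU 5 F 4) M := by
    intro v hv hd h41 hn
    have := Fact.mk hv
    obtain ⟨x, hx⟩ := exists_prime_orderOf_dvd_card' v hd
    exact Three.of_not_dvd hn (ntc_ne hF hv hd h41) ⟨x, by rw [hx]⟩
  by_cases h13 : 13 ∣ Nat.card M
  swap
  · exact miss 13 (by norm_num) (by rw [card_u54 hF]; unfold NN; norm_num) (by norm_num) h13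
  by_cases h17 : 17 ∣ Nat.card M
  swap
  · exact miss 17 (by norm_num) (by rw [card_u54 hF]; unfold NN; norm_num) (by norm_num) h17
  obtain ⟨h1, h2⟩ := big tab hK hF hM.1 h13 h17
  obtain ⟨z, hz⟩ := exists_ord hF
  exact Three.of_not_SC_order h1 (H219.RowPsu.nsc_psu hF (by norm_num) (by decide) 41 (by norm_num)
    (by rw [card_u54 hF]; unfold NN; norm_num)) hz h2 (by norm_num)

end Cfsg.Agent.H104.U54
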