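import Cfsg.Agent.H104.OmegaTools
import Cfsg.Agent.H104.RowPOmega

/-!
# Atoms in `Ω(Q)`
-/

set_option autoImplicit false
set_option linter.unusedSectionVars false
set_option maxHeartbeats 400000

open Matrix

namespace Cfsg.Agent.H104.IrrOmega

open Cfsg.Agent.H193 Cfsg.Agent.H193.Types Cfsg.Agent.H193.Count Cfsg.Agent.H193.Realise Cfsg.Agent.H193.RealForm
  AtomTypes AtomSys AtomGL AtomTools AtomForm AtomGU AtomIsom AtomQuad OmegaTools ClosedSet H795 QuadraticMap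
  Cfsg.Agent.LieClassical.OrthCore AbSyl

universe v

variable {F : Type} [Field F] {ι : Type} [Fintype ι] [DecidableEq ι]

/-- `Ω(Q)` as matrices -/
def oGL (Q : QuadraticForm F (ι → F)) : ↥(Cfsg.Omega F ⇑Q) →* GL ι F :=
  (Cfsg.isometryGroup F ⇑Q).subtype.comp (Cfsg.Omega F ⇑Q).subtype

theorem oGL_injective (Q : QuadraticForm F (ι → F)) : Function.Injective (oGL Q) :=
  fun _ _ h => Subtype.ext (Subtype.ext h)

theorem oGL_Q {Q : QuadraticForm F (ι → F)} (g : ↥(Cfsg.Omega F ⇑Q)) (v : ι → F) :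
    Q ((oGL Q g : Matrix ι ι F) *ᵥ v) = Q v := OrthConj.mem_isometryGroup.1 g.1.2 v

section

variable [Fintype F] {E : Type v} [Field E] [Algebra F E] {p : ℕ}
  [IsAlgClosed E] [hp : Fact p.Prime] {ζ : E} (hζ : IsPrimitiveRoot ζ p) (w : (ZMod p)ˣ)
  (hw : (w : ZMod p) = (Fintype.card F : ZMod p)) (hp2 : p ≠ 2)

include hζ hw in
theorem quad_inv {Q : QuadraticForm F (ι → F)} (hQ : (polarBilin Q).Nondegenerate) {x : GL ι F} (hx : x ^ p = 1)
    (hxQ : ∀ v, Q ((x : Matrix ι ι F) *ᵥ v) = Q v) : Inv (gen w) (ty (r := p) ζ (x : Matrix ι ι F)) := by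
  refine (inv_gen_iff w _).2 ⟨fun c => by rw [hw]; exact typ_frob hζ _ c, fun c => ?_⟩
  refine ty_symm hζ (by rw [← Units.val_pow_eq_pow_val, hx, Units.val_one]) (polarBilin Q) (fun u hu => hQ.1 u hu)
    (fun u v => ?_) c
  rw [polarBilin_apply_apply, polarBilin_apply_apply, polar, polar, ← Matrix.mulVec_add, hxQ, hxQ, hxQ]

include hζ in
/-- powers with exponents in `Γ` -/
theorem ty_pow_inv {κ : Type} [Fintype κ] [DecidableEq κ] {C : GL κ F} (hC : C ^ p = 1)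
    (hinv : Inv (gen w) (ty (r := p) ζ (C : Matrix κ κ F))) {s : (ZMod p)ˣ} (hs : s ∈ Subgroup.zpowers (gen w)) {u : ℕ}
    (hu : (u : ZMod p) = (s : ZMod p)) :
    ty (r := p) ζ ((C ^ u : GL κ F) : Matrix κ κ F) = ty ζ (C : Matrix κ κ F) := by
  have hCM : (C : Matrix κ κ F) ^ p = 1 := by rw [← Units.val_pow_eq_pow_val, hC, Units.val_one]
  have hu0 : (u : ZMod p) ≠ 0 := by rw [hu]; exact s.ne_zero
  funext d
  obtain ⟨k, rfl⟩ := hs
  have h1 := ty_pow hζ hCM hu0 ((((gen w ^ k)⁻¹ : (ZMod p)ˣ) : ZMod p) * d)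
  have h2 : (u : ZMod p) * ((((gen w ^ k)⁻¹ : (ZMod p)ˣ) : ZMod p) * d) = d := by
    rw [hu, ← mul_assoc, ← Units.val_mul, mul_inv_cancel, Units.val_one, one_mul]
  rw [h2] at h1
  rw [Units.val_pow_eq_pow_val, h1, ← _root_.zpow_neg]
  exact Inv.zpow (gen w) hinv (-k) d

include hζ hp2 in
/-- conjugating `C` to its powers -/
theorem conj_exp {κ : Type} [Fintype κ] [DecidableEq κ] {P : QuadraticForm F (κ → F)} (hP : Nondeg P) {C : GL κ F}
    (hC : C ^ p = 1) (hCP : ∀ v, P ((C : Matrix κ κ F) *ᵥ v) = P v)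
    (hinv : Inv (gen w) (ty (r := p) ζ (C : Matrix κ κ F))) {s : (ZMod p)ˣ} (hs : s ∈ Subgroup.zpowers (gen w)) {u : ℕ}
    (hu : (u : ZMod p) = (s : ZMod p)) :
    ∃ k : GL κ F, (∀ v, P ((k : Matrix κ κ F) *ᵥ v) = P v) ∧ k * C * k⁻¹ = C ^ u := by
  have hpF : (p : F) ≠ 0 := Types.natCast_ne_zero hζ
  have hodd : Odd p := (Nat.Prime.eq_two_or_odd' hp.out).resolve_left hp2
  let A : Cfsg.isometryGroup F ⇑P := ⟨C, OrthConj.mem_isometryGroup.2 hCP⟩
  have hA : A ^ p = 1 := Subtype.ext hC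
  have hAu : (A ^ u) ^ p = 1 := by rw [← pow_mul, mul_comm, pow_mul, hA, one_pow]
  have h1 : IsConj A (A ^ u) := by
    rw [OrthConj.isConj_iff P (OrthReal.nondegenerate_of hP) A (A ^ u) hodd hpF hA hAu]
    have hCu : (C ^ u) ^ p = 1 := by rw [← pow_mul, mul_comm, pow_mul, hC, one_pow]
    exact MonoidHom.map_isConj (Units.coeHom (Matrix κ κ F))
      ((isConj_iff_ty hζ hC hCu).2 (ty_pow_inv hζ w hC hinv hs hu).symm)
  obtain ⟨k, hk⟩ := isConj_iff.1 h1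
  refine ⟨k, OrthConj.mem_isometryGroup.1 k.2, ?_⟩
  have := congrArg Subtype.val hk
  exact this

/-- data of a peeled element -/
structure Data (ζ : E) (p : ℕ) [Fact p.Prime] (w : (ZMod p)ˣ) (Q : QuadraticForm F (ι → F)) (x : GL ι F)
    (κ : Type) [Fintype κ] [DecidableEq κ] (C : GL κ F) (P : QuadraticForm F (κ → F))
    (R : Type) [AddCommGroup R] [Module F R] (e : (ι → F) ≃ₗ[F] (κ → F) × R) (xR : R → R) (QR : R → F) : Prop where
  nd : Nondeg P
  pow : C ^ p = 1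
  pres : ∀ v, P ((C : Matrix κ κ F) *ᵥ v) = P v
  zero : ty (r := p) ζ (C : Matrix κ κ F) 0 = 0
  inv : Inv (gen w) (ty (r := p) ζ (C : Matrix κ κ F))
  dec : ∀ v, e ((x : Matrix ι ι F) *ᵥ v) = ((C : Matrix κ κ F) *ᵥ (e v).1, xR (e v).2)
  form : ∀ v, Q v = P (e v).1 + QR (e v).2

/-- the isometries acting on the first component -/
noncomputable def lam {Q : QuadraticForm F (ι → F)} {κ : Type} [Fintype κ] [DecidableEq κ] {P : QuadraticForm F (κ → F)}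
    {R : Type} [AddCommGroup R] [Module F R] {e : (ι → F) ≃ₗ[F] (κ → F) × R} {QR : R → F}
    (hf : ∀ v, Q v = P (e v).1 + QR (e v).2) : ↥(Cfsg.isometryGroup F ⇑P) →* ↥(Cfsg.isometryGroup F ⇑Q) :=
  ((AtomPeel.lift e).comp (Cfsg.isometryGroup F ⇑P).subtype).codRestrict _ fun T =>
    OrthConj.mem_isometryGroup.2 fun v => by
      rw [hf v, hf]
      change P (e (((AtomPeel.lift e (T : GL κ F) : GL ι F) : Matrix ι ι F) *ᵥ v)).1 +
        QR (e (((AtomPeel.lift e (T : GL κ F) : GL ι F) : Matrix ι ι F) *ᵥ v)).2 = _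
      rw [AtomPeel.e_lift]
      congr 1
      exact OrthConj.mem_isometryGroup.1 T.2 _

theorem lam_coe {Q : QuadraticForm F (ι → F)} {κ : Type} [Fintype κ] [DecidableEq κ] {P : QuadraticForm F (κ → F)}
    {R : Type} [AddCommGroup R] [Module F R] {e : (ι → F) ≃ₗ[F] (κ → F) × R} {QR : R → F}
    (hf : ∀ v, Q v = P (e v).1 + QR (e v).2) (T : ↥(Cfsg.isometryGroup F ⇑P)) :
    ((lam hf T : ↥(Cfsg.isometryGroup F ⇑Q)) : GL ι F) = AtomPeel.lift e (T : GL κ F) := rfl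

include hζ hw hp2

/-- splitting off an atom -/
theorem o_data {Q : QuadraticForm F (ι → F)} (hQ : (polarBilin Q).Nondegenerate) {x : GL ι F} (hx : x ^ p = 1)
    (hxQ : ∀ v, Q ((x : Matrix ι ι F) *ᵥ v) = Q v) {c : ZMod p} (hc : c ≠ 0) (hxc : ty ζ (x : Matrix ι ι F) c ≠ 0) :
    ∃ (C : GL (Fin (orderOf (gen w))) F) (P : QuadraticForm F (Fin (orderOf (gen w)) → F))
      (R : Type) (_ : AddCommGroup R) (_ : Module F R) (e : (ι → F) ≃ₗ[F] (Fin (orderOf (gen w)) → F) × R)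
      (xR : R → R) (QR : R → F),
      ty (r := p) ζ (C : Matrix (Fin (orderOf (gen w))) (Fin (orderOf (gen w))) F) = ind (gen w) c ∧
      Data ζ p w Q x (Fin (orderOf (gen w))) C P R e xR QR := by
  obtain ⟨C, P, hC, hCty, hP, hCP⟩ := exists_model_quad hζ w hw hp2 (ind_inv (w := gen w) (c := c)) (ind_at_zero hc)
    (sum_ind hc)
  have hinv := quad_inv hζ w hw hQ hx hxQ
  have h0 : ty (r := p) ζ (C : Matrix (Fin (orderOf (gen w))) (Fin (orderOf (gen w))) F) 0 = 0 := by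
    rw [hCty, ind_at_zero hc]
  have hCinv : Inv (gen w) (ty (r := p) ζ (C : Matrix (Fin (orderOf (gen w))) (Fin (orderOf (gen w))) F)) := by
    rw [hCty]; exact ind_inv
  obtain ⟨R, i1, i2, e, xR, QR, h1, h2⟩ := split_quad hζ w hw hp2 hQ hx hxQ hinv hP hC hCP hCinv h0 (fun d => by
    rw [hCty]; exact ind_le hinv hxc d)
  exact ⟨C, P, R, i1, i2, e, xR, QR, hCty, hP, hC, hCP, h0, hCinv, h1, h2⟩

omit hw hp2 hζ [Fintype F] in
theorem gen_ne_one (hp2 : p ≠ 2) : 2 ≤ orderOf (gen w) := by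
  have hind' := (inv_gen_iff w _).1 (ind_inv (w := gen w) (c := (1 : ZMod p)))
  obtain ⟨j, hj⟩ := even_sum hp2 hind'.2 (ind_at_zero one_ne_zero)
  rw [sum_ind one_ne_zero] at hj
  have := orderOf_pos (gen w)
  omega

omit hw hp2 in
theorem data_fix {Q : QuadraticForm F (ι → F)} {x : GL ι F} {κ : Type} [Fintype κ] [DecidableEq κ] {C : GL κ F}
    {P : QuadraticForm F (κ → F)} {R : Type} [AddCommGroup R] [Module F R] {e : (ι → F) ≃ₗ[F] (κ → F) × R} {xR : R → R}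
    {QR : R → F} (D : Data ζ p w Q x κ C P R e xR QR) : ∀ v, (C : Matrix κ κ F) *ᵥ v = v → v = 0 :=
  no_fix hζ D.zero

omit hw in
/-- the peeled element is in `Ω` -/
theorem data_peel {Q : QuadraticForm F (ι → F)} (hQ : (polarBilin Q).Nondegenerate) (hn : 5 ≤ Fintype.card ι)
    {x : GL ι F} {C : GL (Fin (orderOf (gen w))) F}
    {P : QuadraticForm F (Fin (orderOf (gen w)) → F)} {R : Type} [AddCommGroup R] [Module F R]
    {e : (ι → F) ≃ₗ[F] (Fin (orderOf (gen w)) → F) × R} {xR : R → R}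
    {QR : R → F} (D : Data ζ p w Q x (Fin (orderOf (gen w))) C P R e xR QR) {c : ZMod p} (hc : c ≠ 0)
    (hty : ty (r := p) ζ (C : Matrix (Fin (orderOf (gen w))) (Fin (orderOf (gen w))) F) = ind (gen w) c) :
    ∃ y : ↥(Cfsg.Omega F ⇑Q), oGL Q y = AtomPeel.lift e C ∧ AtomPeel.Peel ζ p (gen w) x (oGL Q y) := by
  have hodd : Odd p := (Nat.Prime.eq_two_or_odd' hp.out).resolve_left hp2
  have hC0 := data_fix hζ w D
  have hC1 : C ≠ 1 := by
    intro h
    have h2 := hC0 (fun _ => 1) (by rw [h, Units.val_one, Matrix.one_mulVec])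
    exact one_ne_zero (congrFun h2 ⟨0, orderOf_pos _⟩)
  have hpeel := AtomPeel.peel hζ (gen w) (x := x) D.dec D.pow hC1 ⟨c, hc, fun d _ => by
    rw [hty]; exact ⟨ind_one, ind_zero⟩⟩ hC0
  let C' : ↥(Cfsg.isometryGroup F ⇑P) := ⟨C, OrthConj.mem_isometryGroup.2 D.pres⟩
  have hC'p : C' ^ p = 1 := Subtype.ext D.pow
  exact ⟨⟨lam D.form C', mem_of_odd hQ hn hodd (by rw [← map_pow, hC'p, map_one])⟩, rfl, hpeel⟩

/-- **Conjugacy of atoms in `Ω`.** -/
theorem o_conj {Q : QuadraticForm F (ι → F)} (hQ : (polarBilin Q).Nondegenerate) (hn : 5 ≤ Fintype.card ι)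
    (hn2 : orderOf (gen w) + 2 ≤ Fintype.card ι) {y z : ↥(Cfsg.Omega F ⇑Q)} (hy : y ^ p = 1) (hz : z ^ p = 1)
    (hat : AtomPeel.ATy (gen w) (ty (r := p) ζ (oGL Q y : Matrix ι ι F)))
    (hty : ty (r := p) ζ (oGL Q y : Matrix ι ι F) = ty ζ (oGL Q z : Matrix ι ι F)) : IsConj y z := by
  have hpF : (p : F) ≠ 0 := Types.natCast_ne_zero hζ
  have hodd : Odd p := (Nat.Prime.eq_two_or_odd' hp.out).resolve_left hp2
  have hyI : (y : Cfsg.isometryGroup F ⇑Q) ^ p = 1 := by rw [← SubgroupClass.coe_pow, hy]; rfl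
  have hzI : (z : Cfsg.isometryGroup F ⇑Q) ^ p = 1 := by rw [← SubgroupClass.coe_pow, hz]; rfl
  have hyG : (oGL Q y) ^ p = 1 := by rw [← map_pow, hy, map_one]
  have hzG : (oGL Q z) ^ p = 1 := by rw [← map_pow, hz, map_one]
  have h1 : IsConj (y : Cfsg.isometryGroup F ⇑Q) (z : Cfsg.isometryGroup F ⇑Q) := by
    rw [OrthConj.isConj_iff Q hQ _ _ hodd hpF hyI hzI]
    exact MonoidHom.map_isConj (Units.coeHom (Matrix ι ι F)) ((isConj_iff_ty hζ hyG hzG).2 hty)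
  obtain ⟨g, hg⟩ := isConj_iff.1 h1
  have hfix : 2 ≤ Module.finrank F (fixS (toLE (oGL Q y))) := by
    rw [finrank_fixS hζ hyG]
    have h2 := sum_ty hζ (M := (oGL Q y : Matrix ι ι F)) (by rw [← Units.val_pow_eq_pow_val, hyG, Units.val_one])
    obtain ⟨c, hc, h3⟩ := hat
    have h4 : ∀ d : ZMod p, d ≠ 0 → ty ζ (oGL Q y : Matrix ι ι F) d = ind (gen w) c d := by
      intro d hd
      by_cases h : AtomPeel.Orb (gen w) c d
      · rw [(h3 d hd).1 h, ind_one h]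
      · rw [(h3 d hd).2 h, ind_zero h]
    have h5 : ∑ d ∈ Finset.univ.erase (0 : ZMod p), ind (gen w) c d = orderOf (gen w) := by
      have h6 := sum_ind (w := gen w) hc
      rw [← Finset.add_sum_erase _ _ (Finset.mem_univ (0 : ZMod p)), ind_at_zero hc, zero_add] at h6
      exact h6
    rw [← Finset.add_sum_erase _ _ (Finset.mem_univ (0 : ZMod p)),
      Finset.sum_congr rfl fun d hd => h4 d (Finset.ne_of_mem_erase hd), h5] at h2
    omega
  obtain ⟨s, hs, hgs⟩ := adjust_cent hQ hn hpF hyI hfix g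
  rw [isConj_iff]
  refine ⟨⟨g * s, hgs⟩, Subtype.ext ?_⟩
  change g * s * (y : Cfsg.isometryGroup F ⇑Q) * (g * s)⁻¹ = z
  rw [← hg, mul_assoc g s, hs]
  group

/-- **Moving an atom in `Ω`.** -/
theorem o_sep {Q : QuadraticForm F (ι → F)} (hQ : (polarBilin Q).Nondegenerate) (hn : 5 ≤ Fintype.card ι)
    {x : ↥(Cfsg.Omega F ⇑Q)} (hx : x ^ p = 1) (hx1 : x ≠ 1)
    (h : 2 ≤ Module.finrank F (fixS (toLE (oGL Q x))) ∨ 2 < orderOf (gen w)) :
    ∃ y k : ↥(Cfsg.Omega F ⇑Q), AtomPeel.Peel ζ p (gen w) (oGL Q x) (oGL Q y) ∧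
      ∃ u : ℕ, (u : ZMod p) ≠ 1 ∧ k * x * k⁻¹ = y ^ u * (y⁻¹ * x) := by
  have hpF : (p : F) ≠ 0 := Types.natCast_ne_zero hζ
  have hxG : (oGL Q x) ^ p = 1 := by rw [← map_pow, hx, map_one]
  have hxI : (x : Cfsg.isometryGroup F ⇑Q) ^ p = 1 := by rw [← SubgroupClass.coe_pow, hx]; rfl
  obtain ⟨c, hc, hxc⟩ := IrrSL.exists_ty_ne hζ (A := (oGL Q x : Matrix ι ι F))
    (by rw [← Units.val_pow_eq_pow_val, hxG, Units.val_one]) (fun h => hx1 (oGL_injective Q (Units.ext (by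
      rw [h, map_one, Units.val_one]))))
  obtain ⟨C, P, R, i1, i2, e, xR, QR, hCty, D⟩ := o_data hζ w hw hp2 hQ hxG (oGL_Q x) hc hxc
  obtain ⟨y, hy, hpeel⟩ := data_peel hζ w hp2 hQ hn D hc hCty
  obtain ⟨u, hu⟩ : ∃ u : ℕ, (u : ZMod p) = ((gen w : (ZMod p)ˣ) : ZMod p) := ⟨_, ZMod.natCast_zmod_val _⟩
  obtain ⟨k₁, hk₁P, hk₁⟩ := conj_exp hζ w hp2 D.nd D.pow D.pres D.inv (Subgroup.mem_zpowers (gen w)) hu
  let K : ↥(Cfsg.isometryGroup F ⇑P) := ⟨k₁, OrthConj.mem_isometryGroup.2 hk₁P⟩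
  rcases h with h | h
  · obtain ⟨s, hs, hgs⟩ := adjust_cent hQ hn hpF hxI h (lam D.form K)
    refine ⟨y, ⟨lam D.form K * s, hgs⟩, hpeel, u, ?_, ?_⟩
    · intro h1
      have h2 := gen_ne_one w hp2
      have h3 : gen w = 1 := Units.ext (by rw [← hu, h1, Units.val_one])
      rw [h3, orderOf_one] at h2
      omega
    · apply oGL_injective Q
      simp only [map_mul, map_inv, map_pow, hy]
      have h2 : oGL Q ⟨lam D.form K * s, hgs⟩ = AtomPeel.lift e k₁ * (s : GL ι F) := rfl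
      have h3 : (s : GL ι F) * oGL Q x = oGL Q x * (s : GL ι F) := congrArg Subtype.val hs
      rw [h2]
      calc AtomPeel.lift e k₁ * (s : GL ι F) * oGL Q x * (AtomPeel.lift e k₁ * (s : GL ι F))⁻¹ =
          AtomPeel.lift e k₁ * ((s : GL ι F) * oGL Q x) * (s : GL ι F)⁻¹ * (AtomPeel.lift e k₁)⁻¹ := by group
        _ = AtomPeel.lift e k₁ * oGL Q x * (AtomPeel.lift e k₁)⁻¹ := by rw [h3]; group
        _ = _ := by rw [AtomPeel.lift_conj D.dec, hk₁, map_pow]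
  · refine ⟨y, ⟨lam D.form K * lam D.form K, sq_mem hQ hn _⟩, hpeel, u * u, ?_, ?_⟩
    · intro h1
      have h3 : gen w ^ 2 = 1 := Units.ext (by
        rw [Units.val_pow_eq_pow_val, ← hu, _root_.sq, ← Nat.cast_mul, h1, Units.val_one])
      have := Nat.le_of_dvd (by norm_num) (orderOf_dvd_of_pow_eq_one h3)
      omega
    · apply oGL_injective Q
      have h2 : oGL Q ⟨lam D.form K * lam D.form K, sq_mem hQ hn _⟩ = AtomPeel.lift e (k₁ * k₁) := by
        rw [map_mul]; rfl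
      rw [map_mul, map_mul, map_mul, map_mul, map_inv, map_inv, map_pow, hy]
      have h3 : k₁ * k₁ * C * (k₁ * k₁)⁻¹ = C ^ (u * u) := by
        calc k₁ * k₁ * C * (k₁ * k₁)⁻¹ = k₁ * (k₁ * C * k₁⁻¹) * k₁⁻¹ := by group
          _ = (k₁ * C * k₁⁻¹) ^ u := by rw [hk₁, ← conj_pow, hk₁]
          _ = _ := by rw [hk₁, ← pow_mul]
      rw [h2, AtomPeel.lift_conj D.dec, h3, map_pow]

end

end Cfsg.Agent.H104.IrrOmega
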