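import Cfsg.Agent.H104.IrrOmega

/-!
# `AbIrr` and `NormOm` for `PΩ(q)`, `p` odd, `p ∤ q`
-/

set_option autoImplicit false
set_option linter.unusedSectionVars false
set_option maxHeartbeats 400000

open Matrix

namespace Cfsg.Agent.H104.IrrPOmega

open Cfsg.Agent.H193 Cfsg.Agent.H193.Types Cfsg.Agent.H193.Count Cfsg.Agent.H193.Realise Cfsg.Agent.H193.RealForm
  AtomTypes AtomSys AtomGL AtomTools AtomForm AtomGU AtomIsom AtomQuad OmegaTools ClosedSet H795 QuadraticMap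
  Cfsg.Agent.LieClassical.OrthCore AbSyl IrrOmega

universe v

section blocks

variable {F : Type} [Field F] {κ : Type} [Fintype κ] [DecidableEq κ]

/-- block diagonal matrices -/
def blkM : Matrix κ κ F × Matrix κ κ F →* Matrix (κ ⊕ κ) (κ ⊕ κ) F where
  toFun p := fromBlocks p.1 0 0 p.2
  map_one' := fromBlocks_one
  map_mul' a b := by rw [fromBlocks_multiply]; simp

/-- block diagonal invertible matrices -/
def blkH : GL κ F × GL κ F →* GL (κ ⊕ κ) F :=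
  (Units.map blkM).comp (MulEquiv.prodUnits (M := Matrix κ κ F) (N := Matrix κ κ F)).symm.toMonoidHom

theorem blkH_val (A B : GL κ F) : ((blkH (A, B) : GL (κ ⊕ κ) F) : Matrix (κ ⊕ κ) (κ ⊕ κ) F) =
    fromBlocks (A : Matrix κ κ F) 0 0 (B : Matrix κ κ F) := rfl

/-- the interchange -/
def swp : GL (κ ⊕ κ) F := ⟨fromBlocks 0 1 1 0, fromBlocks 0 1 1 0, by
  rw [fromBlocks_multiply]; simp, by rw [fromBlocks_multiply]; simp⟩

theorem swp_blkH (A B : GL κ F) : swp * blkH (A, B) = blkH (B, A) * swp := by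
  apply Units.ext
  rw [Units.val_mul, Units.val_mul, blkH_val, blkH_val]
  change fromBlocks 0 1 1 0 * _ = _ * fromBlocks 0 1 1 0
  rw [fromBlocks_multiply, fromBlocks_multiply]
  simp

/-- the doubled form -/
noncomputable def dbl (P : QuadraticForm F (κ → F)) : QuadraticForm F (κ ⊕ κ → F) :=
  P.comp (LinearMap.funLeft F F Sum.inl) + P.comp (LinearMap.funLeft F F Sum.inr)

theorem dbl_apply (P : QuadraticForm F (κ → F)) (v : κ ⊕ κ → F) : dbl P v = P (v ∘ Sum.inl) + P (v ∘ Sum.inr) := rfl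

theorem dbl_blkH {P : QuadraticForm F (κ → F)} {A B : GL κ F} (hA : ∀ v, P ((A : Matrix κ κ F) *ᵥ v) = P v)
    (hB : ∀ v, P ((B : Matrix κ κ F) *ᵥ v) = P v) (v : κ ⊕ κ → F) :
    dbl P ((blkH (A, B) : Matrix (κ ⊕ κ) (κ ⊕ κ) F) *ᵥ v) = dbl P v := by
  rw [dbl_apply, dbl_apply, blkH_val, fromBlocks_mulVec]
  simp only [Sum.elim_comp_inl, Sum.elim_comp_inr, Matrix.zero_mulVec, add_zero, zero_add]
  rw [hA, hB]

theorem dbl_swp {P : QuadraticForm F (κ → F)} (v : κ ⊕ κ → F) :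
    dbl P (((swp : GL (κ ⊕ κ) F) : Matrix (κ ⊕ κ) (κ ⊕ κ) F) *ᵥ v) = dbl P v := by
  change dbl P ((fromBlocks 0 1 1 0 : Matrix (κ ⊕ κ) (κ ⊕ κ) F) *ᵥ v) = _
  rw [dbl_apply, dbl_apply, fromBlocks_mulVec]
  simp only [Sum.elim_comp_inl, Sum.elim_comp_inr, Matrix.zero_mulVec, Matrix.one_mulVec, add_zero, zero_add]
  rw [add_comm]

theorem dbl_nondeg {P : QuadraticForm F (κ → F)} (hP : Nondeg P) : Nondeg (dbl P) := by
  have hpolar : ∀ u v, polar (dbl P) u v = polar P (u ∘ Sum.inl) (v ∘ Sum.inl) + polar P (u ∘ Sum.inr) (v ∘ Sum.inr) := by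
    intro u v
    simp only [polar, dbl_apply]
    change P (u ∘ Sum.inl + v ∘ Sum.inl) + P (u ∘ Sum.inr + v ∘ Sum.inr) - _ - _ = _
    ring
  intro u hu
  have h1 : u ∘ Sum.inl = 0 := hP _ fun v => by
    have := hu (Sum.elim v 0)
    rw [hpolar, Sum.elim_comp_inl, Sum.elim_comp_inr, polar_zero_right, add_zero] at this
    exact this
  have h2 : u ∘ Sum.inr = 0 := hP _ fun v => by
    have := hu (Sum.elim 0 v)
    rw [hpolar, Sum.elim_comp_inl, Sum.elim_comp_inr, polar_zero_right, zero_add] at this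
    exact this
  rw [← Sum.elim_comp_inl_inr u, h1, h2]
  funext i
  rcases i with i | i <;> rfl

end blocks

section

variable {F : Type} [Field F] [Fintype F] {ι : Type} [Fintype ι] [DecidableEq ι]
  {E : Type v} [Field E] [Algebra F E] {p : ℕ}
  [IsAlgClosed E] [hp : Fact p.Prime] {ζ : E} (hζ : IsPrimitiveRoot ζ p) (w : (ZMod p)ˣ)
  (hw : (w : ZMod p) = (Fintype.card F : ZMod p)) (hp2 : p ≠ 2)

omit [IsAlgClosed E] [Fintype F] in
theorem ty_blkH (ζ : E) {κ : Type} [Fintype κ] [DecidableEq κ] (A B : GL κ F) (d : ZMod p) :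
    ty ζ (blkH (A, B) : Matrix (κ ⊕ κ) (κ ⊕ κ) F) d = ty ζ (A : Matrix κ κ F) d + ty ζ (B : Matrix κ κ F) d := by
  rw [blkH_val, ty, Matrix.charpoly_fromBlocks_zero₁₂, typ_mul ζ (Matrix.charpoly_monic _).ne_zero
    (Matrix.charpoly_monic _).ne_zero]
  rfl

omit [IsAlgClosed E] [Fintype F] [Field F] [Field E] [Algebra F E] in
theorem exists_ne' {a : ZMod p → ℕ} (h : a 0 < ∑ d, a d) : ∃ c, c ≠ 0 ∧ a c ≠ 0 := by
  by_contra hcon
  push Not at hcon
  rw [Finset.sum_eq_single (0 : ZMod p) (fun d _ hd => hcon d hd) (fun h => absurd (Finset.mem_univ _) h)] at h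
  exact lt_irrefl _ h

include hζ in
theorem ty_pow_ind {κ : Type} [Fintype κ] [DecidableEq κ] {C : GL κ F} (hC : C ^ p = 1) {c : ZMod p}
    (hCty : ty (r := p) ζ (C : Matrix κ κ F) = ind (gen w) c) {j : ℕ} (hj : (j : ZMod p) ≠ 0) :
    ty (r := p) ζ ((C ^ j : GL κ F) : Matrix κ κ F) = ind (gen w) ((j : ZMod p) * c) := by
  have hCM : (C : Matrix κ κ F) ^ p = 1 := by rw [← Units.val_pow_eq_pow_val, hC, Units.val_one]
  funext d
  have h1 := ty_pow hζ hCM hj ((j : ZMod p)⁻¹ * d)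
  rw [mul_inv_cancel_left₀ hj] at h1
  rw [Units.val_pow_eq_pow_val, h1, hCty]
  have horb : AtomPeel.Orb (gen w) ((j : ZMod p) * c) d ↔ AtomPeel.Orb (gen w) c ((j : ZMod p)⁻¹ * d) := by
    constructor
    · rintro ⟨s, hs, rfl⟩
      exact ⟨s, hs, by field_simp⟩
    · rintro ⟨s, hs, h2⟩
      refine ⟨s, hs, ?_⟩
      have h3 : d = (j : ZMod p) * ((j : ZMod p)⁻¹ * d) := (mul_inv_cancel_left₀ hj d).symm
      rw [h3, h2]
      ring
  by_cases h : AtomPeel.Orb (gen w) ((j : ZMod p) * c) d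
  · rw [ind_one h, ind_one (horb.1 h)]
  · rw [ind_zero h, ind_zero fun h' => h (horb.2 h')]

include hζ hw hp2

/-- two atoms -/
theorem o_double {Q : QuadraticForm F (ι → F)} (hQ : (polarBilin Q).Nondegenerate) (hn : 7 ≤ Fintype.card ι)
    {x : ↥(Cfsg.Omega F ⇑Q)} (hx : x ^ p = 1) (h2 : orderOf (gen w) = 2)
    (hfix : Module.finrank F (fixS (toLE (oGL Q x))) ≤ 1) :
    ∃ z k : ↥(Cfsg.Omega F ⇑Q), z = k * x * k⁻¹ * x⁻¹ ∧ z ≠ 1 ∧ Commute (k * x * k⁻¹) x ∧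
      2 ≤ Module.finrank F (fixS (toLE (oGL Q z))) := by
  have hpF : (p : F) ≠ 0 := Types.natCast_ne_zero hζ
  have hodd : Odd p := (Nat.Prime.eq_two_or_odd' hp.out).resolve_left hp2
  have hxG : (oGL Q x) ^ p = 1 := by rw [← map_pow, hx, map_one]
  have hsum := sum_ty hζ (M := (oGL Q x : Matrix ι ι F)) (by rw [← Units.val_pow_eq_pow_val, hxG, Units.val_one])
  have hinv := quad_inv hζ w hw hQ hxG (oGL_Q x)
  rw [finrank_fixS hζ hxG] at hfix
  obtain ⟨a, ha⟩ : ∃ a, a = ty (r := p) ζ (oGL Q x : Matrix ι ι F) := ⟨_, rfl⟩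
  rw [← ha] at hsum hinv hfix
  obtain ⟨c, hc, hac⟩ := exists_ne' (a := a) (by omega)
  have hle := ind_le hinv hac
  obtain ⟨b, hb⟩ : ∃ b : ZMod p → ℕ, b = fun d => a d - ind (gen w) c d := ⟨_, rfl⟩
  have hbd : ∀ d, b d = a d - ind (gen w) c d := fun d => by rw [hb]
  have hbsum : ∑ d, b d = Fintype.card ι - 2 := by
    rw [hb, Finset.sum_tsub_distrib _ fun d _ => hle d, hsum, sum_ind hc, h2]
  have hbinv : Inv (gen w) b := fun d => by rw [hbd, hbd, hinv, ind_inv (w := gen w) d]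
  obtain ⟨c', hc', hbc⟩ := exists_ne' (a := b) (by rw [hbsum, hbd]; omega)
  have hle' := ind_le hbinv hbc
  -- the model
  obtain ⟨C, P, hC, hCty, hP, hCP⟩ := exists_model_quad hζ w hw hp2 (ind_inv (w := gen w) (c := c)) (ind_at_zero hc)
    (sum_ind hc)
  obtain ⟨j, hj⟩ : ∃ j : ℕ, (j : ZMod p) = c' / c := ⟨_, ZMod.natCast_zmod_val _⟩
  have hj0 : (j : ZMod p) ≠ 0 := by rw [hj]; exact div_ne_zero hc' hc
  have hCj := ty_pow_ind hζ w hC hCty hj0
  rw [hj, div_mul_cancel₀ _ hc] at hCj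
  have hCjP : ∀ n : ℕ, ∀ v, P (((C ^ n : GL (Fin (orderOf (gen w))) F) : Matrix (Fin (orderOf (gen w))) (Fin (orderOf (gen w))) F) *ᵥ v) = P v := by
    intro n
    induction n with
    | zero => intro v; rw [pow_zero, Units.val_one, Matrix.one_mulVec]
    | succ n ih => intro v; rw [pow_succ', Units.val_mul, ← Matrix.mulVec_mulVec, hCP, ih]
  obtain ⟨D, hD⟩ : ∃ D : GL (Fin (orderOf (gen w)) ⊕ Fin (orderOf (gen w))) F, D = blkH (C, C ^ j) := ⟨_, rfl⟩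
  have hDp : D ^ p = 1 := by
    have h3 : ((C, C ^ j) : GL (Fin (orderOf (gen w))) F × GL (Fin (orderOf (gen w))) F) ^ p = 1 := by
      rw [Prod.pow_mk, hC, ← pow_mul, mul_comm, pow_mul, hC, one_pow]
      rfl
    rw [hD, ← map_pow, h3, map_one]
  have hDP : ∀ v, dbl P ((D : Matrix _ _ F) *ᵥ v) = dbl P v := by
    intro v
    rw [hD]
    exact dbl_blkH hCP (hCjP j) v
  have hDty : ∀ d : ZMod p, ty ζ (D : Matrix (Fin (orderOf (gen w)) ⊕ Fin (orderOf (gen w)))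
      (Fin (orderOf (gen w)) ⊕ Fin (orderOf (gen w))) F) d = ind (gen w) c d + ind (gen w) c' d := by
    intro d
    rw [hD, ty_blkH, hCty, hCj]
  have hD0 : ty ζ (D : Matrix (Fin (orderOf (gen w)) ⊕ Fin (orderOf (gen w)))
      (Fin (orderOf (gen w)) ⊕ Fin (orderOf (gen w))) F) (0 : ZMod p) = 0 := by
    rw [hDty, ind_at_zero hc, ind_at_zero hc']
  obtain ⟨R, i1, i2, e, xR, QR, he, hform⟩ := split_quad hζ w hw hp2 hQ hxG (oGL_Q x) (by rw [← ha]; exact hinv)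
    (dbl_nondeg hP) hDp hDP (fun d => by rw [hDty, hDty, ind_inv (w := gen w) d, ind_inv (w := gen w) d]) hD0
    (fun d => by
      rw [hDty, ← ha]
      have h3 := hle d
      have h4 := hle' d
      rw [hbd] at h4
      omega)
  -- inversion
  have hgen : ((gen w : (ZMod p)ˣ) : ZMod p) = -1 := by
    have h3 : (gen w) ^ 2 = 1 := by rw [← h2]; exact pow_orderOf_eq_one _
    have h4 : ((gen w : (ZMod p)ˣ) : ZMod p) ^ 2 = 1 := by
      rw [← Units.val_pow_eq_pow_val, h3, Units.val_one]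
    have h5 : (((gen w : (ZMod p)ˣ) : ZMod p) - 1) * (((gen w : (ZMod p)ˣ) : ZMod p) + 1) = 0 := by
      linear_combination h4
    rcases mul_eq_zero.1 h5 with h5 | h5
    · exfalso
      have h6 : gen w = 1 := Units.ext (sub_eq_zero.1 h5)
      rw [h6, orderOf_one] at h2
      omega
    · exact eq_neg_of_add_eq_zero_left h5
  obtain ⟨k₁, hk₁P, hk₁⟩ := conj_exp hζ w hp2 hP hC hCP (by rw [hCty]; exact ind_inv) (Subgroup.mem_zpowers (gen w))
    (u := p - 1) (by rw [hgen, Nat.cast_sub hp.out.one_le, ZMod.natCast_self, zero_sub, Nat.cast_one])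
  have hCi : C ^ (p - 1) = C⁻¹ := by
    rw [eq_inv_iff_mul_eq_one, ← pow_succ, Nat.sub_add_cancel hp.out.one_le, hC]
  rw [hCi] at hk₁
  have hk₁i : ∀ v, P (((k₁⁻¹ : GL (Fin (orderOf (gen w))) F) : Matrix (Fin (orderOf (gen w))) (Fin (orderOf (gen w))) F) *ᵥ v) = P v := by
    intro v
    rw [← hk₁P, Matrix.mulVec_mulVec, ← Units.val_mul, mul_inv_cancel, Units.val_one, Matrix.one_mulVec]
  have hk₁' : k₁⁻¹ * C * k₁ = C⁻¹ := by
    have h3 : k₁ * C⁻¹ * k₁⁻¹ = C := by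
      have h4 := congrArg (fun t => t⁻¹) hk₁
      simp only [_root_.mul_inv_rev, inv_inv] at h4
      rw [← mul_assoc] at h4
      exact h4
    calc k₁⁻¹ * C * k₁ = k₁⁻¹ * (k₁ * C⁻¹ * k₁⁻¹) * k₁ := by rw [h3]
      _ = C⁻¹ := by group
  obtain ⟨K, hK⟩ : ∃ K : GL (Fin (orderOf (gen w)) ⊕ Fin (orderOf (gen w))) F, K = blkH (k₁, k₁⁻¹) := ⟨_, rfl⟩
  have hKD : K * D * K⁻¹ = D⁻¹ := by
    rw [hK, hD, ← map_inv, ← map_inv, ← map_mul, ← map_mul]
    congr 1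
    refine Prod.ext ?_ ?_
    · exact hk₁
    · change k₁⁻¹ * C ^ j * (k₁⁻¹)⁻¹ = (C ^ j)⁻¹
      rw [← conj_pow, inv_inv, hk₁', inv_pow]
  -- the element is in `Ω`
  let A' : ↥(Cfsg.isometryGroup F ⇑(dbl P)) := ⟨blkH (k₁, 1), OrthConj.mem_isometryGroup.2 (dbl_blkH hk₁P fun v => by
    rw [Units.val_one, Matrix.one_mulVec])⟩
  let S' : ↥(Cfsg.isometryGroup F ⇑(dbl P)) := ⟨swp, OrthConj.mem_isometryGroup.2 dbl_swp⟩
  have hAS : (((A' * S' * A'⁻¹ * S'⁻¹) : ↥(Cfsg.isometryGroup F ⇑(dbl P))) : GL (Fin (orderOf (gen w)) ⊕ Fin (orderOf (gen w))) F) = K := by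
    change blkH (k₁, 1) * swp * (blkH (k₁, 1))⁻¹ * swp⁻¹ = K
    have h3 : ((k₁, 1) : GL (Fin (orderOf (gen w))) F × GL (Fin (orderOf (gen w))) F)⁻¹ = (k₁⁻¹, 1) := by
      rw [Prod.inv_mk, _root_.inv_one]
    calc blkH (k₁, 1) * swp * (blkH (k₁, 1))⁻¹ * swp⁻¹ = blkH (k₁, 1) * (swp * blkH (k₁⁻¹, 1)) * swp⁻¹ := by
          rw [← map_inv, h3]; group
      _ = blkH (k₁, 1) * blkH (1, k₁⁻¹) := by rw [swp_blkH]; group
      _ = K := by rw [← map_mul, hK, Prod.mk_mul_mk, mul_one, one_mul]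
  have hmem : lam hform (A' * S' * A'⁻¹ * S'⁻¹) ∈ Cfsg.Omega F ⇑Q := by
    rw [map_mul, map_mul, map_mul, map_inv, map_inv]
    exact Subgroup.commutator_mem_commutator (Subgroup.mem_top _) (Subgroup.mem_top _)
  obtain ⟨k, hk⟩ : ∃ k : ↥(Cfsg.Omega F ⇑Q), oGL Q k = AtomPeel.lift e K := ⟨⟨lam hform (A' * S' * A'⁻¹ * S'⁻¹), hmem⟩, by
    change AtomPeel.lift e (((A' * S' * A'⁻¹ * S'⁻¹) : ↥(Cfsg.isometryGroup F ⇑(dbl P))) : GL _ F) = _
    rw [hAS]⟩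
  have hkx : oGL Q (k * x * k⁻¹) = AtomPeel.lift e (D⁻¹ * D⁻¹) * oGL Q x := by
    rw [map_mul, map_mul, map_inv, hk, AtomPeel.lift_conj he, hKD, map_mul, map_inv, mul_assoc]
  have hz : oGL Q (k * x * k⁻¹ * x⁻¹) = AtomPeel.lift e (D⁻¹ * D⁻¹) := by
    rw [map_mul, hkx, map_inv, mul_inv_cancel_right]
  have hcommx : AtomPeel.lift e (D⁻¹ * D⁻¹) * oGL Q x = oGL Q x * AtomPeel.lift e (D⁻¹ * D⁻¹) :=
    AtomPeel.lift_comm he _ (by group)
  refine ⟨k * x * k⁻¹ * x⁻¹, k, rfl, ?_, ?_, ?_⟩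
  · intro h1
    rw [h1, map_one] at hz
    have hDD : D⁻¹ * D⁻¹ = 1 := by
      apply GL_ext
      intro v
      have h3 := AtomPeel.e_lift e (D⁻¹ * D⁻¹) (e.symm (v, 0))
      rw [← hz, Units.val_one, Matrix.one_mulVec, LinearEquiv.apply_symm_apply] at h3
      rw [Units.val_one, Matrix.one_mulVec]
      exact (congrArg Prod.fst h3).symm
    have hD2 : D ^ 2 = 1 := by
      rw [_root_.sq, ← _root_.inv_inj, _root_.mul_inv_rev, hDD, _root_.inv_one]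
    have hD1 : D = 1 := by
      have h3 := Nat.dvd_gcd (orderOf_dvd_of_pow_eq_one hD2) (orderOf_dvd_of_pow_eq_one hDp)
      rw [(Nat.coprime_primes Nat.prime_two hp.out).2 (Ne.symm hp2)] at h3
      exact orderOf_eq_one_iff.1 (Nat.dvd_one.1 h3)
    have h3 := no_fix hζ hD0 (fun _ => 1) (by rw [hD1, Units.val_one, Matrix.one_mulVec])
    exact one_ne_zero (congrFun h3 (Sum.inl ⟨0, orderOf_pos _⟩))
  · apply oGL_injective Q
    rw [map_mul, map_mul (oGL Q) x, hkx, ← mul_assoc, ← hcommx]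
  · have hR : FiniteDimensional F R := AtomPeel.finite_R e
    have hdim := e.finrank_eq
    rw [Module.finrank_prod, Module.finrank_fintype_fun_eq_card, Module.finrank_fintype_fun_eq_card, Fintype.card_sum,
      Fintype.card_fin, h2] at hdim
    have hle : Module.finrank F R ≤ Module.finrank F (fixS (toLE (oGL Q (k * x * k⁻¹ * x⁻¹)))) := by
      let φ : R →ₗ[F] fixS (toLE (oGL Q (k * x * k⁻¹ * x⁻¹))) :=
        LinearMap.codRestrict _ (e.symm.toLinearMap ∘ₗ LinearMap.inr F _ R) fun r => by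
          rw [mem_fixS, toLE_apply, hz]
          apply e.injective
          rw [AtomPeel.e_lift]
          simp
      refine LinearMap.finrank_le_finrank_of_injective (f := φ) fun r r' h => ?_
      have h3 : e.symm (0, r) = e.symm (0, r') := congrArg Subtype.val h
      exact congrArg Prod.snd (e.symm.injective h3)
    omega

omit hw hp2 in
/-- a closed set containing `x` contains an atom if an atom of `x` can be moved -/
theorem sep_one {G : Type*} [Group G] (ρ : G →* GL ι F) (hρ : Function.Injective ρ) {𝔅 : Set G} (h𝔅 : Closed p 𝔅)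
    {x y k : G} (hx : x ∈ 𝔅) (hy : AtomPeel.Peel ζ p w (ρ x) (ρ y)) {u : ℕ} (hu : (u : ZMod p) ≠ 1)
    (hk : k * x * k⁻¹ = y ^ u * (y⁻¹ * x)) : ∃ z ∈ AtomPeel.At ζ p w ρ, z ∈ 𝔅 := by
  have hyp : y ^ p = 1 := hρ (by rw [map_pow, hy.ypow, map_one])
  have hy1 : y ≠ 1 := fun h => hy.yne (by rw [h, map_one])
  have hyx : Commute y x := hρ (by rw [map_mul, map_mul, hy.yx])
  have h1 : k * x * k⁻¹ ∈ 𝔅 := h𝔅.conj x hx k
  have h2 : x⁻¹ ∈ 𝔅 := h𝔅.inv_mem hp.out hx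
  have hcomm : Commute (k * x * k⁻¹) x⁻¹ := by
    rw [hk]
    exact ((hyx.pow_left u).mul_left (hyx.inv_left.mul_left (Commute.refl x))).inv_right
  have h3 := h𝔅.mul _ h1 _ h2 hcomm.eq
  have h4 : k * x * k⁻¹ * x⁻¹ = y ^ (u + p - 1) := by
    rw [hk]
    have h5 : y ^ (u + p - 1) * y = y ^ u := by
      rw [← pow_succ, Nat.sub_add_cancel (by have := hp.out.pos; omega), pow_add, hyp, mul_one]
    rw [← h5]
    group
  rw [h4] at h3
  have hn : (((u + p - 1 : ℕ)) : ZMod p) ≠ 0 := by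
    rw [Nat.cast_sub (by have := hp.out.pos; omega), Nat.cast_add, ZMod.natCast_self, add_zero, Nat.cast_one, sub_ne_zero]
    exact hu
  refine ⟨y ^ (u + p - 1), ⟨?_, ?_, ?_⟩, h3⟩
  · rw [← pow_mul, mul_comm, pow_mul, hyp, one_pow]
  · intro h
    apply hn
    have h6 := orderOf_dvd_of_pow_eq_one h
    rw [orderOf_eq_prime hyp hy1] at h6
    rwa [ZMod.natCast_eq_zero_iff]
  · rw [map_pow, Units.val_pow_eq_pow_val]
    refine aty_pow hζ w ?_ hy.ty hn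
    rw [← Units.val_pow_eq_pow_val, hy.ypow, Units.val_one]

theorem omega_sep {Q : QuadraticForm F (ι → F)} (hQ : (polarBilin Q).Nondegenerate) (hn : 7 ≤ Fintype.card ι)
    (𝔅 : Set ↥(Cfsg.Omega F ⇑Q)) (h𝔅 : Closed p 𝔅) (hne : ∃ x ∈ 𝔅, x ≠ 1) :
    ∃ z ∈ AtomPeel.At ζ p (gen w) (oGL Q), z ∈ 𝔅 := by
  have key : ∀ x ∈ 𝔅, x ≠ 1 → (2 ≤ Module.finrank F (fixS (toLE (oGL Q x))) ∨ 2 < orderOf (gen w)) →
      ∃ z ∈ AtomPeel.At ζ p (gen w) (oGL Q), z ∈ 𝔅 := by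
    intro x hx hx1 h
    obtain ⟨y, k, hy, u, hu, hk⟩ := o_sep hζ w hw hp2 hQ (by omega) (h𝔅.pow x hx) hx1 h
    exact sep_one hζ (gen w) (oGL Q) (oGL_injective Q) h𝔅 hx hy hu hk
  obtain ⟨x, hx, hx1⟩ := hne
  by_cases h : 2 ≤ Module.finrank F (fixS (toLE (oGL Q x))) ∨ 2 < orderOf (gen w)
  · exact key x hx hx1 h
  · push Not at h
    have h2 := gen_ne_one w hp2
    obtain ⟨z, k, hz, hz1, hcomm, hfix⟩ := o_double hζ w hw hp2 hQ hn (h𝔅.pow x hx) (by omega) (by omega)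
    refine key z ?_ hz1 (Or.inl hfix)
    rw [hz]
    exact h𝔅.mul _ (h𝔅.conj x hx k) _ (h𝔅.inv_mem hp.out hx) hcomm.inv_right.eq

/-- atoms in `Ω` -/
theorem o_peel {Q : QuadraticForm F (ι → F)} (hQ : (polarBilin Q).Nondegenerate) (hn : 5 ≤ Fintype.card ι)
    {x : ↥(Cfsg.Omega F ⇑Q)} (hx : x ^ p = 1) (hx1 : x ≠ 1) :
    ∃ y : ↥(Cfsg.Omega F ⇑Q), AtomPeel.Peel ζ p (gen w) (oGL Q x) (oGL Q y) := by
  have hxG : (oGL Q x) ^ p = 1 := by rw [← map_pow, hx, map_one]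
  obtain ⟨c, hc, hxc⟩ := IrrSL.exists_ty_ne hζ (A := (oGL Q x : Matrix ι ι F))
    (by rw [← Units.val_pow_eq_pow_val, hxG, Units.val_one]) (fun h => hx1 (oGL_injective Q (Units.ext (by
      rw [h, map_one, Units.val_one]))))
  obtain ⟨C, P, R, i1, i2, e, xR, QR, hCty, D⟩ := o_data hζ w hw hp2 hQ hxG (oGL_Q x) hc hxc
  obtain ⟨y, -, hpeel⟩ := data_peel hζ w hp2 hQ hn D hc hCty
  exact ⟨y, hpeel⟩

end

section

variable {F : Type} [Field F] [Fintype F] {ι : Type} [Fintype ι] [DecidableEq ι] {p : ℕ} [hp : Fact p.Prime]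
  {Q : QuadraticForm F (ι → F)} (hQ : (polarBilin Q).Nondegenerate)

include hQ

theorem omega_trunc (hn : 5 ≤ Fintype.card ι) (hp2 : p ≠ 2) (hpF : (p : F) ≠ 0) :
    Trunc p ((Units.coeHom (Matrix ι ι F)).comp (oGL Q)) := by
  rintro A s hA hs ⟨k, hk⟩
  have hodd : Odd p := (Nat.Prime.eq_two_or_odd' hp.out).resolve_left hp2
  have hcard := card_ne_zero_of_pGroup hpF hA
  obtain ⟨ρ, hρ⟩ : ∃ ρ, ρ = (Units.coeHom (Matrix ι ι F)).comp (oGL Q) := ⟨_, rfl⟩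
  have hρg : ∀ g, ρ g = (oGL Q g : Matrix ι ι F) := fun g => by rw [hρ]; rfl
  rw [← hρ]
  have hQρ : ∀ g v, Q (ρ g *ᵥ v) = Q v := fun g v => by rw [hρg]; exact oGL_Q g v
  have hbi : BiForm (fun u v => polar Q u v) := by
    constructor
    · intro u u' v
      exact QuadraticMap.polar_add_left Q u u' v
    · intro u v v'
      exact QuadraticMap.polar_add_right Q u v v'
    · intro c u v
      exact QuadraticMap.polar_smul_left Q c u v
    · intro n u v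
      exact QuadraticMap.polar_smul_right Q _ u v
  have hpres : ∀ g : ↥(Cfsg.Omega F ⇑Q), ∀ u v, (fun u v => polar Q u v) (ρ g *ᵥ u) (ρ g *ᵥ v) = (fun u v => polar Q u v) u v := by
    intro g u v
    change polar Q (ρ g *ᵥ u) (ρ g *ᵥ v) = polar Q u v
    rw [polar, polar, ← Matrix.mulVec_add, hQρ, hQρ, hQρ]
  have hse : ρ s * avg ρ A = avg ρ A * ρ s := mul_avg_comm fun a ha => by rw [← map_mul, hs a ha, map_mul]
  obtain ⟨T, hT⟩ : ∃ T, T = ρ s * avg ρ A + (1 - avg ρ A) := ⟨_, rfl⟩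
  have h1 : ∀ x, T *ᵥ x = avg ρ A *ᵥ (ρ s *ᵥ x) + (1 - avg ρ A) *ᵥ x := by
    intro x
    rw [hT, Matrix.add_mulVec, hse, ← Matrix.mulVec_mulVec]
  have h2 : ∀ x : ι → F, x = avg ρ A *ᵥ x + (1 - avg ρ A) *ᵥ x := by
    intro x
    rw [← Matrix.add_mulVec, add_sub_cancel, Matrix.one_mulVec]
  have h3 : ∀ x y, Q (avg ρ A *ᵥ x + (1 - avg ρ A) *ᵥ y) = Q (avg ρ A *ᵥ x) + Q ((1 - avg ρ A) *ᵥ y) := by
    intro x y
    have h4 : polar Q (avg ρ A *ᵥ x) ((1 - avg ρ A) *ᵥ y) = 0 := avg_orth hbi hpres hcard x y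
    rw [QuadraticMap.map_add ⇑Q, h4, add_zero]
  have hTQ : ∀ v, Q (T *ᵥ v) = Q v := by
    intro v
    rw [h1, h3]
    conv_rhs => rw [h2 v, h3]
    rw [Matrix.mulVec_mulVec, ← hse, ← Matrix.mulVec_mulVec, hQρ]
  have hTp : T ^ p ^ k = 1 := by
    rw [hT, trunc_pow hcard hs, hk, map_one, one_mul, add_sub_cancel]
  have hu : IsUnit T := IsUnit.of_pow_eq_one hTp (pow_pos hp.out.pos k).ne'
  let t : ↥(Cfsg.isometryGroup F ⇑Q) := ⟨hu.unit, OrthConj.mem_isometryGroup.2 fun v => by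
    rw [IsUnit.unit_spec, hTQ]⟩
  have htp : t ^ p ^ k = 1 := Subtype.ext (Units.ext (by
    rw [SubgroupClass.coe_pow, Units.val_pow_eq_pow_val]
    exact hTp))
  refine ⟨⟨t, mem_of_odd hQ hn (hodd.pow) htp⟩, ?_⟩
  rw [hρg, ← hT]
  rfl

omit [DecidableEq ι] [Fintype ι] hQ in
theorem orderOf_gen_le [DecidableEq ι] [Fintype ι] (hpF : (p : F) ≠ 0) {w : (ZMod p)ˣ}
    (hw : (w : ZMod p) = (Fintype.card F : ZMod p)) : orderOf (gen w) ≤ Nat.card (RankBound.qPM F p hpF) := by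
  have h7 : (-1 : (ZMod p)ˣ) ∈ RankBound.qPM F p hpF := Subgroup.subset_closure (by simp)
  have h8 : w ∈ RankBound.qPM F p hpF := by
    have : w = RankBound.qU F p hpF := Units.ext (by rw [hw]; rfl)
    rw [this]
    exact Subgroup.subset_closure (by simp)
  have h9 : gen w ∈ RankBound.qPM F p hpF := by
    rw [gen]
    split_ifs
    · have := Subgroup.mul_mem _ h7 h8
      rwa [neg_one_mul] at this
    · exact h8
  have h10 : Subgroup.zpowers (gen w) ≤ RankBound.qPM F p hpF := Subgroup.zpowers_le.2 h9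
  rw [← Nat.card_zpowers]
  exact Nat.card_mono (Set.toFinite _) h10

/-- **`Ω(Q)`, `p` odd, `p ∤ q`, dimension at least seven.** -/
theorem omega_main (hn : 7 ≤ Fintype.card ι) (hp2 : p ≠ 2) (hpF : (p : F) ≠ 0) :
    AbIrr p ↥(Cfsg.Omega F ⇑Q) ∧ NormOm p ↥(Cfsg.Omega F ⇑Q) := by
  obtain ⟨ζ, hζ⟩ := ClassCount.exists_root (F := F) hp.out hpF
  obtain ⟨w, hw⟩ := ClassCount.exists_unit (RankBound.card_ne_zero (p := p) (F := F) hpF)
  constructor
  · refine abIrr_of fun hr => ?_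
    have h2 : TwoLines.Rank2 p (Cfsg.isometryGroup F (⇑Q)) := hr.map_injective (Cfsg.Omega F (⇑Q)).subtype Subtype.val_injective
    obtain ⟨-, -, -, -, -, h3, -⟩ := RankBound.bound_form hpF (OrthEmb.isoHom (⇑Q)) (OrthEmb.isoHom_injective _) h2
      (OrthEmb.gram Q) (OrthEmb.gram_det hQ) (OrthEmb.gram_inv Q)
    have h4 := orderOf_gen_le (ι := ι) hpF hw
    have h5 := gen_ne_one w hp2
    exact AtomPeel.clIrr_of_peel hζ (gen w) (oGL Q) (oGL_injective Q)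
      (fun x hx hx1 => o_peel hζ w hw hp2 hQ (by omega) hx hx1)
      (fun y z hy hz hat h => o_conj hζ w hw hp2 hQ (by omega) (by omega) hy hz hat h)
      (omega_sep hζ w hw hp2 hQ hn)
  · exact AtomPeel.normOm_of_peel hζ (gen w) hpF (oGL Q) (oGL_injective Q)
      (fun x hx hx1 => o_peel hζ w hw hp2 hQ (by omega) hx hx1) (omega_trunc hQ (by omega) hp2 hpF)

/-- **`PΩ(Q)`** -/
theorem pomega_main (hn : 7 ≤ Fintype.card ι) (hs : ∃ u : ι → F, u ≠ 0 ∧ Q u = 0) (hp2 : p ≠ 2) (hpF : (p : F) ≠ 0) :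
    AbIrr p (Cfsg.POmega F ⇑Q) ∧ NormOm p (Cfsg.POmega F ⇑Q) := by
  obtain ⟨h1, h2⟩ := omega_main hQ hn hp2 hpF
  exact IrrSL.proj (fun z hz hzp => OrthEmb.center_free hQ (by omega) hs hp.out hp2 z hzp
    ((QuotientGroup.eq_one_iff z).2 hz)) h1 h2

end

section families

variable {F : Type} [Field F] [Fintype F] {p : ℕ} [hp : Fact p.Prime]

open Cfsg.Agent.LieClassical

/-- **`PΩ_{2m+1}(q)`, `q` odd, `m ≥ 3`.** -/
theorem odd_main {m : ℕ} (hm : 3 ≤ m) (h2 : (2 : F) ≠ 0) (hp2 : p ≠ 2) (hpF : (p : F) ≠ 0) :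
    AbIrr p (Cfsg.POmega F (Cfsg.quadFormOdd m F)) ∧ NormOm p (Cfsg.POmega F (Cfsg.quadFormOdd m F)) := by
  have key := pomega_main (p := p) (Q := OmegaReindex.quadOdd m F) (OmegaReindex.quadOdd_nondegenerate h2)
    (by simp; omega) (OmegaReindex.quadOdd_isotropic (by omega)) hp2 hpF
  rw [OmegaReindex.coe_quadOdd] at key
  exact key

/-- **`PΩ⁺_{2m}(q)`, `m ≥ 4`.** -/
theorem plus_main {m : ℕ} (hm : 4 ≤ m) (hp2 : p ≠ 2) (hpF : (p : F) ≠ 0) :
    AbIrr p (Cfsg.POmega F (Cfsg.quadFormPlus m F)) ∧ NormOm p (Cfsg.POmega F (Cfsg.quadFormPlus m F)) := by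
  have key := pomega_main (p := p) (Q := OmegaReindex.quadPlus m F) OmegaReindex.quadPlus_nondegenerate
    (by simp; omega) (OmegaReindex.quadPlus_isotropic (by omega)) hp2 hpF
  rw [OmegaReindex.coe_quadPlus] at key
  exact key

/-- **`PΩ⁻_{2m}(q)`, `m ≥ 4`.** -/
theorem minus_main {m : ℕ} (hm : 4 ≤ m) (a b : F)
    (hab : ∀ z₁ z₂ : F, z₁ ^ 2 + a * z₁ * z₂ + b * z₂ ^ 2 = 0 → z₁ = 0 ∧ z₂ = 0)
    (hp2 : p ≠ 2) (hpF : (p : F) ≠ 0) :
    AbIrr p (Cfsg.POmega F (Cfsg.quadFormMinus (m - 1) F a b)) ∧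
      NormOm p (Cfsg.POmega F (Cfsg.quadFormMinus (m - 1) F a b)) := by
  have key := pomega_main (p := p) (Q := OmegaReindex.quadMinus (m - 1) F a b)
    (OmegaReindex.quadMinus_nondegenerate hab)
    (by simp; omega) (OmegaReindex.quadMinus_isotropic (by omega) a b) hp2 hpF
  rw [OmegaReindex.coe_quadMinus] at key
  exact key

end families

end Cfsg.Agent.H104.IrrPOmega
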