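import Cfsg.Agent.H104.AtomIsom
import Cfsg.Agent.H104.RowPSp
import Cfsg.Agent.H193.SpCount

/-!
# `AbIrr` and `NormOm` for `PSp_{2m}(q)`, `p` odd, `p ∤ q`
-/

set_option autoImplicit false
set_option linter.unusedSectionVars false

open Matrix

namespace Cfsg.Agent.H104.IrrSp

open Cfsg.Agent.H193 Cfsg.Agent.H193.Types Cfsg.Agent.H193.Count Cfsg.Agent.H193.Realise Cfsg.Agent.H193.RealForm
  AtomTypes AtomSys AtomGL AtomTools AtomForm AtomGU AtomIsom ClosedSet H795 Cfsg.Agent.ClassicalGeometry.SympBasic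

universe u v

/-- the invertible matrices of `Sp` -/
def spGL (m : ℕ) (F : Type*) [Field F] : symplecticGroup (Fin m) F →* GL (Fin m ⊕ Fin m) F :=
  (symplecticGroup (Fin m) F).subtype.toHomUnits

section

variable {F : Type u} [Field F] {m : ℕ}

theorem spGL_val (g : symplecticGroup (Fin m) F) :
    ((spGL m F g : GL (Fin m ⊕ Fin m) F) : Matrix (Fin m ⊕ Fin m) (Fin m ⊕ Fin m) F) = g := rfl

theorem spGL_injective : Function.Injective (spGL m F) := by
  intro a b h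
  apply Subtype.ext
  exact congrArg Units.val h

theorem exists_sp {A : GL (Fin m ⊕ Fin m) F}
    (h : ∀ u v, sympForm m F ((A : Matrix (Fin m ⊕ Fin m) (Fin m ⊕ Fin m) F) *ᵥ u)
      ((A : Matrix (Fin m ⊕ Fin m) (Fin m ⊕ Fin m) F) *ᵥ v) = sympForm m F u v) : ∃ g, spGL m F g = A :=
  ⟨⟨(A : Matrix (Fin m ⊕ Fin m) (Fin m ⊕ Fin m) F), mem_symplecticGroup_iff.2 h⟩, Units.ext rfl⟩

end

section

variable {F : Type u} [Field F] [Fintype F] {E : Type v} [Field E] [Algebra F E] {p : ℕ}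
  [IsAlgClosed E] [hp : Fact p.Prime] {ζ : E} (hζ : IsPrimitiveRoot ζ p) {m : ℕ}

include hζ

theorem cast_ne_zero' : (p : F) ≠ 0 := Types.natCast_ne_zero hζ

theorem sp_conj {x y : symplecticGroup (Fin m) F} (hx : x ^ p = 1) (hy : y ^ p = 1)
    (hty : ty (r := p) ζ ((spGL m F x : GL (Fin m ⊕ Fin m) F) : Matrix (Fin m ⊕ Fin m) (Fin m ⊕ Fin m) F) =
      ty ζ ((spGL m F y : GL (Fin m ⊕ Fin m) F) : Matrix (Fin m ⊕ Fin m) (Fin m ⊕ Fin m) F)) : IsConj x y := by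
  obtain ⟨c, hc⟩ := (isConj_iff_ty hζ (A := spGL m F x) (B := spGL m F y) (by rw [← map_pow, hx, map_one])
    (by rw [← map_pow, hy, map_one])).2 hty
  obtain ⟨l, hl⟩ := CharP.exists F
  have hlp : Fact l.Prime := ⟨CharP.char_is_prime F l⟩
  have hne : p ≠ l := by
    rintro rfl
    exact cast_ne_zero' (F := F) hζ (CharP.cast_eq_zero F p)
  refine H175.SympConj.exists_conj (p := l) x y ?_ c.val.val (Units.isUnit _) ?_
  · exact Nat.Coprime.coprime_dvd_left (orderOf_dvd_of_pow_eq_one hx) ((Nat.coprime_primes hp.out hlp.out).2 hne)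
  · have hc' : c.val * spGL m F x = spGL m F y * c.val := hc
    have := congrArg Units.val hc'
    exact this

theorem sp_inv (w : (ZMod p)ˣ) (hw : (w : ZMod p) = (Fintype.card F : ZMod p)) {x : symplecticGroup (Fin m) F}
    (hx : x ^ p = 1) :
    Inv (gen w) (ty (r := p) ζ ((spGL m F x : GL (Fin m ⊕ Fin m) F) : Matrix (Fin m ⊕ Fin m) (Fin m ⊕ Fin m) F)) := by
  have hpow : ((spGL m F x : GL (Fin m ⊕ Fin m) F) : Matrix (Fin m ⊕ Fin m) (Fin m ⊕ Fin m) F) ^ p = 1 := by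
    rw [← Units.val_pow_eq_pow_val, ← map_pow, hx, map_one, Units.val_one]
  exact (inv_gen_iff w _).2 ⟨fun c => by rw [hw]; exact typ_frob hζ _ c, fun c =>
    ty_symm hζ hpow (sympBilin m F) (fun u hu => eq_zero_of_forall_sympForm_right hu)
      (fun u v => sympForm_mulVec x.2 u v) c⟩

/-- **Splitting off an atom in `Sp`.** -/
theorem sp_split (w : (ZMod p)ˣ) (hw : (w : ZMod p) = (Fintype.card F : ZMod p)) (hp2 : p ≠ 2)
    {x : symplecticGroup (Fin m) F} (hx : x ^ p = 1) (hx1 : x ≠ 1) :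
    ∃ (c : ZMod p) (C : GL (Fin (orderOf (gen w))) F)
      (B : (Fin (orderOf (gen w)) → F) →ₗ[F] (Fin (orderOf (gen w)) → F) →ₗ[F] F) (k : ℕ)
      (e : (Fin m ⊕ Fin m → F) ≃ₗ[F] (Fin (orderOf (gen w)) → F) × (Fin k ⊕ Fin k → F))
      (xR : (Fin k ⊕ Fin k → F) → (Fin k ⊕ Fin k → F)), c ≠ 0 ∧ C ^ p = 1 ∧
      ty (r := p) ζ (C : Matrix (Fin (orderOf (gen w))) (Fin (orderOf (gen w))) F) = ind (gen w) c ∧
      (∀ u, (∀ v, B u v = 0) → u = 0) ∧ (∀ u v, B v u = -1 * B u v) ∧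
      (∀ u v, B ((C : Matrix (Fin (orderOf (gen w))) (Fin (orderOf (gen w))) F) *ᵥ u)
        ((C : Matrix (Fin (orderOf (gen w))) (Fin (orderOf (gen w))) F) *ᵥ v) = B u v) ∧
      (∀ v, e (((spGL m F x : GL (Fin m ⊕ Fin m) F) : Matrix (Fin m ⊕ Fin m) (Fin m ⊕ Fin m) F) *ᵥ v) =
        ((C : Matrix (Fin (orderOf (gen w))) (Fin (orderOf (gen w))) F) *ᵥ (e v).1, xR (e v).2)) ∧
      ∀ u v, sympForm m F u v = B (e u).1 (e v).1 + sympForm k F (e u).2 (e v).2 := by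
  classical
  have hxM : ((spGL m F x : GL (Fin m ⊕ Fin m) F) : Matrix (Fin m ⊕ Fin m) (Fin m ⊕ Fin m) F) ^ p = 1 := by
    rw [← Units.val_pow_eq_pow_val, ← map_pow, hx, map_one, Units.val_one]
  obtain ⟨c, hc, hxc⟩ := IrrSL.exists_ty_ne hζ hxM (fun h => hx1 (Subtype.ext h))
  have hinv := sp_inv hζ w hw hx
  have hle := ind_le hinv hxc
  have hinv' := (inv_gen_iff w _).1 hinv
  have hind' := (inv_gen_iff w _).1 (ind_inv (w := gen w) (c := c))
  have hsx := sum_ty hζ hxM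
  rw [Fintype.card_sum, Fintype.card_fin] at hsx
  have hsi := sum_ind (w := gen w) hc
  have hs' : ∑ d : ZMod p, (ty ζ ((spGL m F x : GL (Fin m ⊕ Fin m) F) : Matrix (Fin m ⊕ Fin m) (Fin m ⊕ Fin m) F) d -
      ind (gen w) c d) = m + m - orderOf (gen w) := by
    rw [Finset.sum_tsub_distrib _ fun d _ => hle d, hsx, hsi]
  have hon : orderOf (gen w) ≤ m + m := by
    rw [← hsi, ← hsx]
    exact Finset.sum_le_sum fun d _ => hle d
  obtain ⟨j, hj⟩ := even_sum hp2 hind'.2 (ind_at_zero hc)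
  rw [hsi] at hj
  obtain ⟨C, B, hC, hCty, hBn, hBs, hBalt, hBC⟩ := exists_model_sp hζ w hw hp2 hc
  obtain ⟨z, hz, hzty⟩ := SpCount.realise_sp hζ w hw hp2 (m := m - j)
    (a := fun d => ty ζ ((spGL m F x : GL (Fin m ⊕ Fin m) F) : Matrix (Fin m ⊕ Fin m) (Fin m ⊕ Fin m) F) d -
      ind (gen w) c d) (fun d => by
      change ty ζ ((spGL m F x : GL (Fin m ⊕ Fin m) F) : Matrix (Fin m ⊕ Fin m) (Fin m ⊕ Fin m) F) _ - ind (gen w) c _ = _
      rw [hinv'.1 d, hind'.1 d]) (fun d => by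
      change ty ζ ((spGL m F x : GL (Fin m ⊕ Fin m) F) : Matrix (Fin m ⊕ Fin m) (Fin m ⊕ Fin m) F) _ - ind (gen w) c _ = _
      rw [hinv'.2 d, hind'.2 d]) (by rw [hs']; omega)
  obtain ⟨B', hB'⟩ : ∃ B' : LinearMap.BilinForm F ((Fin (orderOf (gen w)) → F) × (Fin (m - j) ⊕ Fin (m - j) → F)),
      ∀ u v, B' u v = B u.1 v.1 + sympForm (m - j) F u.2 v.2 := ⟨B.compl₁₂ (LinearMap.fst F _ _) (LinearMap.fst F _ _) +
      (sympBilin (m - j) F).compl₁₂ (LinearMap.snd F _ _) (LinearMap.snd F _ _), fun u v => rfl⟩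
  have hB'alt : B'.IsAlt := fun u => by rw [hB', hBalt, sympForm_self, add_zero]
  have hB'n : ∀ u, (∀ v, B' u v = 0) → u = 0 := by
    rintro ⟨u1, u2⟩ hu
    have h1 : u1 = 0 := hBn _ fun v => by
      have := hu (v, 0)
      rw [hB'] at this
      simpa using this
    have h2 : u2 = 0 := eq_zero_of_forall_sympForm_right fun v => by
      have := hu (0, v)
      rw [hB'] at this
      simpa using this
    rw [h1, h2]; rfl
  obtain ⟨e, he⟩ := ClassicalGeometry.SympIso.exists_linearEquiv_sympForm B' hB'alt hB'n (k := m) (by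
    rw [Module.finrank_prod, Module.finrank_fin_fun, Module.finrank_fintype_fun_eq_card, Fintype.card_sum,
      Fintype.card_fin]
    omega)
  have hzG : (spGL (m - j) F z) ^ p = 1 := by rw [← map_pow, hz, map_one]
  obtain ⟨N, hN, hNty, hNe⟩ := exists_matrix ζ e ((toLE C).prodCongr (toLE (spGL (m - j) F z)))
    (prod_pow _ _ (toLE_pow hC) (toLE_pow hzG))
  obtain ⟨g, hg⟩ := exists_sp (A := N) (fun u v => by
    rw [← he, ← he, hNe, hNe, hB', hB']
    change B (toLE C (e u).1) (toLE C (e v).1) + sympForm (m - j) F (toLE (spGL (m - j) F z) (e u).2)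
      (toLE (spGL (m - j) F z) (e v).2) = _
    rw [toLE_apply, toLE_apply, toLE_apply, toLE_apply, hBC, spGL_val, sympForm_mulVec z.2])
  have hgp : g ^ p = 1 := spGL_injective (by rw [map_pow, hg, hN, map_one])
  have hconj : IsConj x g := by
    refine sp_conj hζ hx hgp ?_
    funext d
    rw [hg, hNty, prod_typ ζ, toLE_lin, toLE_lin, Types.charpoly_toLin', Types.charpoly_toLin']
    change _ = ty ζ (C : Matrix (Fin (orderOf (gen w))) (Fin (orderOf (gen w))) F) d +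
      ty ζ (z : Matrix (Fin (m - j) ⊕ Fin (m - j)) (Fin (m - j) ⊕ Fin (m - j)) F) d
    rw [hCty, hzty]
    have := hle d
    change _ = ind (gen w) c d + (_ - ind (gen w) c d)
    omega
  obtain ⟨P, hP⟩ := isConj_iff.1 hconj
  have hP' : spGL m F P * spGL m F x = N * spGL m F P := by
    rw [← hg, ← map_mul, ← map_mul, ← hP]
    congr 1
    group
  refine ⟨c, C, B, m - j, (toLE (spGL m F P)).trans e, fun v => toLE (spGL (m - j) F z) v, hc, hC, hCty, hBn, hBs, hBC,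
    fun v => ?_, fun u v => ?_⟩
  · rw [LinearEquiv.trans_apply, LinearEquiv.trans_apply, toLE_apply, toLE_apply, Matrix.mulVec_mulVec,
      ← Units.val_mul, hP', Units.val_mul, ← Matrix.mulVec_mulVec, hNe]
    rw [← toLE_apply C]
    rfl
  · rw [LinearEquiv.trans_apply, LinearEquiv.trans_apply, ← hB', he, toLE_apply, toLE_apply, spGL_val,
      sympForm_mulVec P.2]

theorem sp_peel (w : (ZMod p)ˣ) (hw : (w : ZMod p) = (Fintype.card F : ZMod p)) (hp2 : p ≠ 2)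
    {x : symplecticGroup (Fin m) F} (hx : x ^ p = 1) (hx1 : x ≠ 1) :
    ∃ y k : symplecticGroup (Fin m) F, AtomPeel.Peel ζ p (gen w) (spGL m F x) (spGL m F y) ∧
      ∃ u : ℕ, (u : ZMod p) ≠ 1 ∧ k * x * k⁻¹ = y ^ u * (y⁻¹ * x) := by
  obtain ⟨c, C, B, j, e, xR, hc, hC, hCty, hBn, hBs, hBC, he, hform⟩ := sp_split hζ w hw hp2 hx hx1
  have hC0 : ∀ v, (C : Matrix (Fin (orderOf (gen w))) (Fin (orderOf (gen w))) F) *ᵥ v = v → v = 0 :=
    no_fix hζ (by rw [hCty, ind_at_zero hc])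
  have hC1 : C ≠ 1 := by
    intro h
    have h2 := hC0 (fun _ => 1) (by rw [h, Units.val_one, Matrix.one_mulVec])
    exact one_ne_zero (congrFun h2 ⟨0, orderOf_pos _⟩)
  have hpeel := AtomPeel.peel hζ (gen w) (x := spGL m F x) he hC hC1 ⟨c, hc, fun d _ => by
    rw [hCty]; exact ⟨ind_one, ind_zero⟩⟩ hC0
  have hlift : ∀ T : GL (Fin (orderOf (gen w))) F,
      (∀ u v, B ((T : Matrix (Fin (orderOf (gen w))) (Fin (orderOf (gen w))) F) *ᵥ u)
        ((T : Matrix (Fin (orderOf (gen w))) (Fin (orderOf (gen w))) F) *ᵥ v) = B u v) →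
      ∃ g, spGL m F g = AtomPeel.lift e T := by
    intro T hT
    apply exists_sp
    intro u v
    rw [hform, AtomPeel.e_lift, AtomPeel.e_lift, hform u v]
    congr 1
    exact hT _ _
  have hCi : C⁻¹ ^ p = 1 := by rw [inv_pow, hC, inv_one]
  obtain ⟨k₁, hk₁, hBk⟩ := conj_isom hζ hp2 B (-1) hBn hBs (C := C) (C' := C⁻¹) hC hCi (by
    funext d
    rw [ty_inv hζ hC, hCty]
    exact (((inv_gen_iff w _).1 (ind_inv (w := gen w) (c := c))).2 d).symm) hBC (fun u v => by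
      have h1 := hBC ((((C⁻¹ : GL (Fin (orderOf (gen w))) F)) : Matrix (Fin (orderOf (gen w))) (Fin (orderOf (gen w))) F) *ᵥ u)
        ((((C⁻¹ : GL (Fin (orderOf (gen w))) F)) : Matrix (Fin (orderOf (gen w))) (Fin (orderOf (gen w))) F) *ᵥ v)
      rw [Matrix.mulVec_mulVec, Matrix.mulVec_mulVec, ← Units.val_mul, mul_inv_cancel, Units.val_one, Matrix.one_mulVec,
        Matrix.one_mulVec] at h1
      exact h1.symm) hC0
  obtain ⟨y, hy⟩ := hlift C hBC
  obtain ⟨k, hk⟩ := hlift k₁ hBk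
  refine ⟨y, k, by rw [hy]; exact hpeel, p - 1, ?_, ?_⟩
  · intro h
    rw [Nat.cast_sub hp.out.one_le, ZMod.natCast_self, zero_sub, Nat.cast_one] at h
    have h2 : Fact (2 < p) := ⟨lt_of_le_of_ne hp.out.two_le (Ne.symm hp2)⟩
    exact ZMod.neg_one_ne_one h
  · apply spGL_injective
    have h3 : C⁻¹ = C ^ (p - 1) := by
      rw [inv_eq_iff_mul_eq_one, ← pow_succ', Nat.sub_add_cancel hp.out.one_le, hC]
    rw [map_mul, map_mul, map_mul, map_mul, map_inv, map_inv, map_pow, hy, hk, AtomPeel.lift_conj he, hk₁, h3, map_pow]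

end

section

variable {F : Type} [Field F] [Fintype F] {p : ℕ} [hp : Fact p.Prime]

theorem sp_trunc (hpF : (p : F) ≠ 0) (m : ℕ) :
    Trunc p ((Units.coeHom (Matrix (Fin m ⊕ Fin m) (Fin m ⊕ Fin m) F)).comp (spGL m F)) := by
  rintro A s hA hs -
  have hcard := card_ne_zero_of_pGroup hpF hA
  have hbi : BiForm (sympForm m F) := by
    constructor
    · intro u u' v
      rw [sympForm_add_left]
    · intro u v v'
      rw [sympForm_add_right]
    · intro c u v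
      rw [sympForm_smul_left]
    · intro n u v
      rw [sympForm_smul_right]
  have h3 := trunc_pres (ρ := (Units.coeHom (Matrix (Fin m ⊕ Fin m) (Fin m ⊕ Fin m) F)).comp (spGL m F)) hbi
    (fun g u v => sympForm_mulVec g.2 u v) hcard hs
  exact ⟨⟨_, mem_symplecticGroup_iff.2 h3⟩, rfl⟩

/-- **`Sp_{2m}(q)`, `p` odd, `p ∤ q`.** -/
theorem sp_main (hp2 : p ≠ 2) (hpF : (p : F) ≠ 0) (m : ℕ) :
    ClIrr p (symplecticGroup (Fin m) F) ∧ NormOm p (symplecticGroup (Fin m) F) := by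
  obtain ⟨ζ, hζ⟩ := ClassCount.exists_root (F := F) hp.out hpF
  obtain ⟨w, hw⟩ := ClassCount.exists_unit (RankBound.card_ne_zero (p := p) (F := F) hpF)
  constructor
  · refine AtomPeel.clIrr_of_peel hζ (gen w) (spGL m F) spGL_injective (fun x hx hx1 => ?_)
      (fun y z hy hz _ h => sp_conj hζ hy hz h)
      (sep_of_peel hζ (gen w) (spGL m F) spGL_injective fun x hx hx1 => sp_peel hζ w hw hp2 hx hx1)
    obtain ⟨y, _, hy, _⟩ := sp_peel hζ w hw hp2 hx hx1
    exact ⟨y, hy⟩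
  · refine AtomPeel.normOm_of_peel hζ (gen w) hpF (spGL m F) spGL_injective (fun x hx hx1 => ?_) (sp_trunc hpF m)
    obtain ⟨y, _, hy, _⟩ := sp_peel hζ w hw hp2 hx hx1
    exact ⟨y, hy⟩

/-- **`PSp_{2m}(q)`, `p` odd, `p ∤ q`.** -/
theorem psp_main (hp2 : p ≠ 2) (hpF : (p : F) ≠ 0) {m : ℕ} (hm : 1 ≤ m) :
    AbIrr p (Cfsg.PSp m F) ∧ NormOm p (Cfsg.PSp m F) := by
  obtain ⟨h1, h2⟩ := sp_main hp2 hpF m
  exact IrrSL.proj (fun z hz hzp => RowPSp.center_free hm hp.out hp2 z hzp ((QuotientGroup.eq_one_iff z).2 hz))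
    (abIrr_of fun _ => h1) h2

end

end Cfsg.Agent.H104.IrrSp
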