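import Cfsg.Agent.H104.AtomQuad
import Cfsg.Agent.H104.OrthEmb

/-!
# Elements of `Ω(Q)`: squares, elements of odd order, corrections by reflections
-/

set_option autoImplicit false
set_option linter.unusedSectionVars false

open Matrix

namespace Cfsg.Agent.H104.OmegaTools

open Cfsg.Agent.H193 AtomIsom AtomQuad QuadraticMap Cfsg.Agent.ClassicalGeometry.Reflection
  Cfsg.Agent.ClassicalGeometry.SpinorSign Cfsg.Agent.ClassicalGeometry.OmegaIndex
  Cfsg.Agent.ClassicalGeometry.OrthDickson Cfsg.Agent.H175.OmegaAdjust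

variable {F : Type} [Field F] [Finite F] {ι : Type} [Fintype ι] [DecidableEq ι] {Q : QuadraticForm F (ι → F)}
  (hQ : (polarBilin Q).Nondegenerate) (hn : 5 ≤ Fintype.card ι)

include hQ hn

theorem det_sq (g : Cfsg.isometryGroup F ⇑Q) :
    ((g : GL ι F) : Matrix ι ι F).det * ((g : GL ι F) : Matrix ι ι F).det = 1 := by
  have h1 := OrthEmb.gram_inv Q g
  have h2 := congrArg Matrix.det h1
  rw [Matrix.det_mul, Matrix.det_mul, Matrix.det_transpose] at h2
  have h3 : (OrthEmb.gram Q).det ≠ 0 := (OrthEmb.gram_det hQ).ne_zero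
  apply mul_right_cancel₀ h3
  rw [one_mul]
  calc _ = (OrthEmb.isoHom (⇑Q) g).det * (OrthEmb.gram Q).det * (OrthEmb.isoHom (⇑Q) g).det := by
        change ((g : GL ι F) : Matrix ι ι F).det * ((g : GL ι F) : Matrix ι ι F).det * _ =
          ((g : GL ι F) : Matrix ι ι F).det * _ * ((g : GL ι F) : Matrix ι ι F).det
        ring
    _ = _ := h2

/-- squares are in `Ω` -/
theorem sq_mem (g : Cfsg.isometryGroup F ⇑Q) : g * g ∈ Cfsg.Omega F ⇑Q := by
  have := Fintype.ofFinite F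
  by_cases h2 : (2 : F) = 0
  · rw [Cfsg.Agent.H183.mem_Omega_iff_dsign _ h2 hQ (Or.inr (by omega)), dsign_mul_of_gen Q hQ (Or.inr (by omega))]
    exact Int.units_mul_self _
  · rw [mem_Omega_iff h2 Q hQ (by omega) one_ne_zero, map_mul]
    refine ⟨?_, Int.units_mul_self _⟩
    have h3 := det_sq hQ hn g
    rw [← Matrix.det_mul] at h3
    exact h3

/-- elements of odd order are in `Ω` -/
theorem mem_of_odd {g : Cfsg.isometryGroup F ⇑Q} {k : ℕ} (hk : Odd k) (hg : g ^ k = 1) : g ∈ Cfsg.Omega F ⇑Q := by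
  obtain ⟨j, rfl⟩ := hk
  have h1 := sq_mem hQ hn (g ^ (j + 1))
  have h2 : g ^ (j + 1) * g ^ (j + 1) = g := by
    rw [← pow_add, show j + 1 + (j + 1) = 2 * j + 1 + 1 by ring, pow_succ, hg, one_mul]
  rwa [h2] at h1

/-- **Corrections.** -/
theorem adjust (K : Subgroup (Cfsg.isometryGroup F ⇑Q)) (X : Submodule F (ι → F)) (hX : 2 ≤ Module.finrank F X)
    (hnd : ∀ x ∈ X, (∀ y ∈ X, polar ⇑Q x y = 0) → x = 0)
    (hK : ∀ v ∈ X, ∀ hv : Q v ≠ 0, reflIso Q v hv ∈ K) (g : Cfsg.isometryGroup F ⇑Q) :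
    ∃ s ∈ K, g * s ∈ Cfsg.Omega F ⇑Q := by
  by_cases h2 : (2 : F) = 0
  · obtain ⟨v, hvX, hv⟩ := exists_nonsing Q X (by
      rintro rfl
      rw [finrank_bot] at hX
      omega) hnd
    exact adjust_two Q h2 hQ (Or.inr (by omega)) K v hv (hK v hvX hv) g
  · obtain ⟨a, ha⟩ := FiniteField.exists_nonsquare (F := F) (fun h => h2 (by
      have := ringChar.Nat.cast_ringChar (R := F)
      rw [h] at this
      exact_mod_cast this))
    obtain ⟨u, huX, hu⟩ := exists_value h2 Q X hX hnd 1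
    obtain ⟨v, hvX, hv⟩ := exists_value h2 Q X hX hnd a
    have hu0 : Q u ≠ 0 := by rw [hu]; exact one_ne_zero
    have hv0 : Q v ≠ 0 := by
      rw [hv]
      rintro rfl
      exact ha ⟨0, by rw [mul_zero]⟩
    exact adjust_odd_refl Q h2 hQ (by omega) K u v hu0 hv0 (by rw [hu, hv, one_mul]; exact ha) (hK u huX hu0)
      (hK v hvX hv0) g

/-- reflections in fixed vectors commute with `x` -/
theorem refl_comm {x : Cfsg.isometryGroup F ⇑Q} {v : ι → F} (hv : Q v ≠ 0) (hvx : v ∈ fixS (toLE (x : GL ι F))) :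
    reflIso Q v hv ∈ Subgroup.centralizer {x} := by
  rw [Subgroup.mem_centralizer_singleton_iff]
  apply Subtype.ext
  apply GL_ext
  intro u
  have hxv : ((x : GL ι F) : Matrix ι ι F) *ᵥ v = v := by
    have := mem_fixS.1 hvx
    rwa [toLE_apply] at this
  have hxQ : ∀ u, Q (((x : GL ι F) : Matrix ι ι F) *ᵥ u) = Q u := OrthConj.mem_isometryGroup.1 x.2
  have hpol : polar Q v (((x : GL ι F) : Matrix ι ι F) *ᵥ u) = polar Q v u := by
    conv_lhs => rw [← hxv]
    rw [polar, polar, ← Matrix.mulVec_add, hxQ, hxQ, hxQ]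
  rw [Subgroup.coe_mul, Subgroup.coe_mul, Units.val_mul, Units.val_mul, ← Matrix.mulVec_mulVec, ← Matrix.mulVec_mulVec,
    coe_reflIso, reflectionMatrix_mulVec, reflectionMatrix_mulVec, hpol, Matrix.mulVec_sub, Matrix.mulVec_smul, hxv]

/-- the centraliser of an element with fixed space of dimension `≥ 2` covers `O / Ω` -/
theorem adjust_cent {N : ℕ} (hN : (N : F) ≠ 0) {x : Cfsg.isometryGroup F ⇑Q} (hx : x ^ N = 1)
    (hfix : 2 ≤ Module.finrank F (fixS (toLE (x : GL ι F)))) (g : Cfsg.isometryGroup F ⇑Q) :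
    ∃ s : Cfsg.isometryGroup F ⇑Q, s * x = x * s ∧ g * s ∈ Cfsg.Omega F ⇑Q := by
  have hxG : (x : GL ι F) ^ N = 1 := by rw [← SubgroupClass.coe_pow, hx]; rfl
  obtain ⟨s, hs, hgs⟩ := adjust hQ hn (Subgroup.centralizer {x}) (fixS (toLE (x : GL ι F))) hfix
    (fixS_nondeg hQ (toLE (x : GL ι F)) (fun v => by rw [toLE_apply]; exact OrthConj.mem_isometryGroup.1 x.2 v)
      (toLE_pow hxG) hN) (fun v hv hv0 => refl_comm hQ hn hv0 hv) g
  exact ⟨s, Subgroup.mem_centralizer_singleton_iff.1 hs, hgs⟩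

end Cfsg.Agent.H104.OmegaTools
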