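import Mathlib
import Cfsg.Agent.H160.QReal

/-!
# Involutive isometries as sign changes (helper104)

For an isometry `A` with `A² = 1`, `A ≠ ± 1`, of determinant one and trivial spinor sign of a nondegenerate quadratic space over a
finite field of odd order: there are an odd number `m`, a homomorphism `φ : (Fin m → ℤˣ) → O(Q)` and for every `j` an isometry `h`
with `h A h⁻¹ = φ (ε_j)`, `ε_j` the sign vector with entries `-1` except at `j`; the isometries `h` may be taken of determinant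
one and spinor sign one.
-/

set_option autoImplicit false
set_option linter.unusedSectionVars false

namespace Cfsg.Agent.H104.UnfDiag

open QuadraticMap Module
open Cfsg.Agent.LieClassical.OrthCore Cfsg.Agent.H160.QSpin Cfsg.Agent.H160.QDisc Cfsg.Agent.H160.QSplit

section model

variable {F : Type*} [Field F]

/-- `c Σ xᵢ²` -/
noncomputable def W (c : F) (m : ℕ) : QuadraticForm F (Fin m → F) := weightedSumSquares F (fun _ : Fin m => c)

theorem W_apply (c : F) (m : ℕ) (x : Fin m → F) : W c m x = ∑ i, c * (x i * x i) := by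
  rw [W, weightedSumSquares_apply]
  simp

theorem polar_W (c : F) (m : ℕ) (x y : Fin m → F) : polar (W c m) x y = ∑ i, 2 * c * (x i * y i) := by
  simp only [QuadraticMap.polar, W_apply, Pi.add_apply]
  rw [← Finset.sum_sub_distrib, ← Finset.sum_sub_distrib]
  refine Finset.sum_congr rfl fun i _ => ?_
  ring

theorem nondeg_W (h2 : (2 : F) ≠ 0) {c : F} (hc : c ≠ 0) (m : ℕ) : Nondeg (W c m) := by
  intro x hx
  funext i
  have h := hx (Pi.single i 1)
  rw [polar_W] at h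
  simp only [Pi.single_apply, mul_ite, mul_one, mul_zero, Finset.sum_ite_eq', Finset.mem_univ, if_true] at h
  exact (mul_eq_zero.1 h).resolve_left (mul_ne_zero h2 hc)

theorem dc_W [Fintype F] [DecidableEq F] (c : F) (m : ℕ) : dc (W c m) = quadraticChar F (2 * c) ^ m := by
  rw [dc_eq (Pi.basisFun F (Fin m)), ← map_pow]
  congr 1
  have h : LinearMap.BilinForm.toMatrix (Pi.basisFun F (Fin m)) (polarBilin (W c m)) =
      Matrix.diagonal (fun _ : Fin m => 2 * c) := by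
    ext i j
    rw [LinearMap.BilinForm.toMatrix_apply, Pi.basisFun_apply, Pi.basisFun_apply]
    show polar (W c m) _ _ = _
    rw [polar_W, Matrix.diagonal_apply]
    simp only [Pi.single_apply, mul_ite, mul_one, mul_zero]
    by_cases hij : i = j
    · subst hij
      simp
    · rw [if_neg hij]
      apply Finset.sum_eq_zero
      intro k _
      split_ifs with h1 h2
      · exact absurd (h1.symm.trans h2) (fun h => hij (by rw [← h1, ← h2]))
      · rfl
      · rfl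
  rw [h, Matrix.det_diagonal, Finset.prod_const, Finset.card_univ, Fintype.card_fin]

/-- diagonal sign changes -/
def dg (F : Type*) [Field F] (m : ℕ) : (Fin m → ℤˣ) →* ((Fin m → F) ≃ₗ[F] (Fin m → F)) where
  toFun ε :=
    { toFun := fun x i => ((ε i : ℤ) : F) * x i
      invFun := fun x i => ((ε i : ℤ) : F) * x i
      left_inv := fun x => by
        funext i
        change ((ε i : ℤ) : F) * (((ε i : ℤ) : F) * x i) = x i
        rw [← mul_assoc, ← Int.cast_mul, ← Units.val_mul, Int.units_mul_self]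
        simp
      right_inv := fun x => by
        funext i
        change ((ε i : ℤ) : F) * (((ε i : ℤ) : F) * x i) = x i
        rw [← mul_assoc, ← Int.cast_mul, ← Units.val_mul, Int.units_mul_self]
        simp
      map_add' := fun x y => by
        funext i
        simp only [Pi.add_apply]
        ring
      map_smul' := fun a x => by
        funext i
        simp only [Pi.smul_apply, smul_eq_mul, RingHom.id_apply]
        ring }
  map_one' := by
    ext x i
    show (((1 : Fin m → ℤˣ) i : ℤ) : F) * _ = _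
    simp
  map_mul' ε δ := by
    ext x i
    show ((((ε * δ : Fin m → ℤˣ)) i : ℤ) : F) * _ = ((ε i : ℤ) : F) * (((δ i : ℤ) : F) * _)
    rw [Pi.mul_apply, Units.val_mul, Int.cast_mul, mul_assoc]

theorem dg_apply {m : ℕ} (ε : Fin m → ℤˣ) (x : Fin m → F) (i : Fin m) : dg F m ε x i = ((ε i : ℤ) : F) * x i := rfl

theorem dg_mem (c : F) {m : ℕ} (ε : Fin m → ℤˣ) : dg F m ε ∈ O (W c m) := by
  intro x
  rw [W_apply, W_apply]
  refine Finset.sum_congr rfl fun i _ => ?_
  rw [dg_apply]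
  have h : ((ε i : ℤ) : F) * ((ε i : ℤ) : F) = 1 := by
    rw [← Int.cast_mul, ← Units.val_mul, Int.units_mul_self]
    simp
  linear_combination (c * (x i * x i)) * h

/-- the sign vector with entries `-1` except at `j` -/
def ep {m : ℕ} (j : Fin m) : Fin m → ℤˣ := fun i => if i = j then 1 else -1

theorem prod_ep {m : ℕ} (hm : Odd m) : ∏ j : Fin m, ep j = 1 := by
  funext i
  rw [Finset.prod_apply]
  simp only [ep]
  have h : ∏ j : Fin m, (if i = j then (1 : ℤˣ) else -1) = (-1) ^ (m - 1) := by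
    rw [Finset.prod_ite, Finset.prod_const_one, one_mul, Finset.prod_const]
    congr 1
    have : (Finset.univ.filter fun j : Fin m => ¬ i = j) = Finset.univ.erase i := by
      ext j
      simp [eq_comm]
    rw [this, Finset.card_erase_of_mem (Finset.mem_univ _), Finset.card_univ, Fintype.card_fin]
  rw [h]
  have : Even (m - 1) := by
    obtain ⟨k, rfl⟩ := hm
    exact ⟨k, by omega⟩
  exact this.neg_one_pow

/-- permutations of the coordinates -/
def pm (F : Type*) [Field F] {m : ℕ} (σ : Equiv.Perm (Fin m)) : (Fin m → F) ≃ₗ[F] (Fin m → F) :=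
  LinearEquiv.funCongrLeft F F σ

theorem pm_apply {m : ℕ} (σ : Equiv.Perm (Fin m)) (x : Fin m → F) (i : Fin m) : pm F σ x i = x (σ i) := rfl

theorem pm_mem (c : F) {m : ℕ} (σ : Equiv.Perm (Fin m)) : pm F σ ∈ O (W c m) := by
  intro x
  rw [W_apply, W_apply]
  simp only [pm_apply]
  exact Equiv.sum_comp σ (fun i => c * (x i * x i))

theorem pm_dg {m : ℕ} (i j : Fin m) :
    pm F (Equiv.swap i j) * dg F m (ep i) = dg F m (ep j) * pm F (Equiv.swap i j) := by
  ext1 x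
  funext l
  show ((ep i (Equiv.swap i j l) : ℤ) : F) * x (Equiv.swap i j l) = ((ep j l : ℤ) : F) * x (Equiv.swap i j l)
  congr 3
  rw [ep, ep]
  congr 1
  rw [eq_iff_iff]
  constructor
  · intro h
    have h1 := congrArg (Equiv.swap i j) h
    rwa [Equiv.swap_apply_self, Equiv.swap_apply_left] at h1
  · rintro rfl
    exact Equiv.swap_apply_right _ _

/-- splitting off the first coordinate -/
noncomputable def cs (F : Type*) [Field F] (m : ℕ) : (F × (Fin m → F)) ≃ₗ[F] (Fin (m + 1) → F) :=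
  Fin.consLinearEquiv F (fun _ : Fin (m + 1) => F)

theorem cs_apply {m : ℕ} (x : F × (Fin m → F)) : cs F m x = Fin.cons x.1 x.2 := rfl

theorem cs_iso (c : F) (m : ℕ) : IsIso ((oneF c).prod (W c m)) (W c (m + 1)) (cs F m) := by
  intro x
  rw [cs_apply, W_apply, Fin.sum_univ_succ, Qpr_apply, oneF_apply, W_apply]
  simp only [Fin.cons_zero, Fin.cons_succ]

theorem cs_neg {m : ℕ} (x : F) (y : Fin m → F) : dg F (m + 1) (ep 0) (cs F m (x, y)) = cs F m (x, -y) := by
  funext i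
  rw [dg_apply, cs_apply, cs_apply]
  refine Fin.cases ?_ (fun i => ?_) i
  · simp [ep]
  · simp [ep]

end model

section inv

variable {F : Type*} [Field F] [Fintype F] [DecidableEq F] {V : Type*} [AddCommGroup V] [Module F V]
  [FiniteDimensional F V] [Finite V]

omit [Fintype F] [DecidableEq F] [FiniteDimensional F V] [Finite V] in
theorem polar_zero (h2 : (2 : F) ≠ 0) {Q : QuadraticForm F V} {A : V ≃ₗ[F] V} (hA : A ∈ O Q) {x y : V}
    (hx : A x = -x) (hy : A y = y) : polar Q x y = 0 := by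
  have h1 := polar_map hA x y
  rw [hx, hy, polar_neg_left] at h1
  have h3 : (2 : F) * polar Q x y = 0 := by linear_combination -h1
  exact (mul_eq_zero.1 h3).resolve_left h2

/-- **the eigenspace decomposition of an involution** -/
theorem exists_split (h2 : (2 : F) ≠ 0) {Q : QuadraticForm F V} (hQ : Nondeg Q) {A : V ≃ₗ[F] V} (hA : El Q 1 A)
    (hA2 : A * A = 1) (h1 : A ≠ 1) (hm1 : A ≠ LinearEquiv.neg F) :
    ∃ (W₁ W₂ : Submodule F V) (e : (W₁ × W₂) ≃ₗ[F] V),
      IsIso ((Q.comp W₁.subtype).prod (Q.comp W₂.subtype)) Q e ∧ (∀ x y, e (x, y) = x + y) ∧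
      (∀ x, x ∈ W₁ ↔ A x = -x) ∧ (∀ x, x ∈ W₂ ↔ A x = x) ∧
      Nondeg (Q.comp W₁.subtype) ∧ Nondeg (Q.comp W₂.subtype) ∧ (∃ k, finrank F W₁ = 2 * (k + 1)) ∧
      (∃ s, finrank F W₂ = s + 1) ∧ dc (Q.comp W₁.subtype) = 1 := by
  have hA2' : ∀ x, A (A x) = x := fun x => LinearEquiv.congr_fun hA2 x
  have hinv : (2 : F)⁻¹ * 2 = 1 := inv_mul_cancel₀ h2
  obtain ⟨W₁, hW₁⟩ : ∃ W : Submodule F V, ∀ x, x ∈ W ↔ A x = -x := ⟨LinearMap.ker (en A + 1), fun x => by
    rw [LinearMap.mem_ker]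
    show A x + x = 0 ↔ _
    rw [add_eq_zero_iff_eq_neg]⟩
  obtain ⟨W₂, hW₂⟩ : ∃ W : Submodule F V, ∀ x, x ∈ W ↔ A x = x := ⟨LinearMap.ker (en A - 1), fun x => by
    rw [LinearMap.mem_ker]
    show A x - x = 0 ↔ _
    rw [sub_eq_zero]⟩
  have hc : IsCompl W₁ W₂ := by
    constructor
    · rw [Submodule.disjoint_def]
      intro x hx hy
      have h3 := (hW₁ x).1 hx
      rw [(hW₂ x).1 hy] at h3
      have h4 : (2 : F) • x = 0 := by
        rw [two_smul]
        nth_rewrite 1 [h3]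
        exact neg_add_cancel x
      exact (smul_eq_zero.1 h4).resolve_left h2
    · rw [codisjoint_iff, Submodule.eq_top_iff']
      intro x
      rw [Submodule.mem_sup]
      refine ⟨(2 : F)⁻¹ • (x - A x), ?_, (2 : F)⁻¹ • (x + A x), ?_, ?_⟩
      · rw [hW₁, map_smul, map_sub, hA2', ← smul_neg, neg_sub]
      · rw [hW₂, map_smul, map_add, hA2', add_comm]
      · rw [← smul_add, sub_add_add_cancel, ← two_smul F x, smul_smul, hinv, one_smul]
  have hO := hA.1
  obtain ⟨e, hev⟩ : ∃ e : (W₁ × W₂) ≃ₗ[F] V, ∀ x y, e (x, y) = (x : V) + y :=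
    ⟨Submodule.prodEquivOfIsCompl W₁ W₂ hc, fun x y => Submodule.coe_prodEquivOfIsCompl' W₁ W₂ hc (x, y)⟩
  have he : IsIso ((Q.comp W₁.subtype).prod (Q.comp W₂.subtype)) Q e := by
    rintro ⟨x, y⟩
    rw [hev, Qpr_apply, Q_add, polar_zero h2 hO ((hW₁ x).1 x.2) ((hW₂ y).1 y.2), add_zero]
    rfl
  have hge : A = cj e (pr (LinearEquiv.neg F) 1) := by
    ext v
    obtain ⟨⟨x, y⟩, rfl⟩ := e.surjective v
    rw [cj_apply', pr_apply, hev, map_add, (hW₁ x).1 x.2, (hW₂ y).1 y.2]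
    show -(x : V) + (y : V) = e (-x, y)
    rw [hev]
    rfl
  obtain ⟨hQ₁, hQ₂⟩ := nondeg_of_prod (he.symm.nondeg hQ)
  have hdim : finrank F W₁ + finrank F W₂ = finrank F V := by
    have := e.finrank_eq
    rw [← this, finrank_prod]
  have hprO : pr (LinearEquiv.neg F : W₁ ≃ₗ[F] W₁) (1 : W₂ ≃ₗ[F] W₂) ∈ O ((Q.comp W₁.subtype).prod (Q.comp W₂.subtype)) :=
    pr_mem_O (neg_mem_O _) (O _).one_mem
  obtain ⟨hO', hdet, hsp⟩ := hA
  have hpar : Even (finrank F W₁) := by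
    by_contra hodd
    rw [Nat.not_even_iff_odd] at hodd
    have h3 := det_of_no_one hQ₁ (neg_mem_O (Q.comp W₁.subtype)) (fun v hv => by
      have h4 : -v = v := hv
      have h5 : (2 : F) • v = 0 := by
        rw [two_smul]
        nth_rewrite 1 [← h4]
        exact neg_add_cancel v
      exact (smul_eq_zero.1 h5).resolve_left h2)
    rw [hodd.neg_one_pow, ← LinearEquiv.coe_det] at h3
    rw [hge, det_cj, det_pr, map_one, mul_one] at hdet
    rw [hdet, Units.val_one] at h3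
    apply h2
    have : (2 : F) = 1 - (-1) := by norm_num
    rw [this, ← h3, sub_self]
  have hdc : dc (Q.comp W₁.subtype) = 1 := by
    rw [← spin_neg_one h2 hQ₁ hpar]
    have h3 := spin_cj he hprO
    have h4 : (⟨cj e (pr (LinearEquiv.neg F) 1), cj_mem_O he hprO⟩ : O Q) = ⟨A, hO'⟩ := Subtype.ext hge.symm
    rw [h4, hsp, spin_pr h2 hQ₁ hQ₂ (neg_mem_O _) (O _).one_mem] at h3
    have h5 : spin (Q.comp W₂.subtype) ⟨1, (O (Q.comp W₂.subtype)).one_mem⟩ = 1 := map_one _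
    rw [h5, mul_one] at h3
    rw [← h3]
    rfl
  refine ⟨W₁, W₂, e, he, hev, hW₁, hW₂, hQ₁, hQ₂, ?_, ?_, hdc⟩
  · obtain ⟨k, hk⟩ := hpar
    rcases Nat.eq_zero_or_pos k with rfl | hk0
    · exfalso
      apply h1
      have : Subsingleton W₁ := Module.finrank_zero_iff.1 hk
      ext v
      obtain ⟨⟨x, y⟩, rfl⟩ := e.surjective v
      have hx : x = 0 := Subsingleton.elim _ _
      rw [hev, hx, map_add, (hW₂ y).1 y.2]
      simp
    · exact ⟨k - 1, by omega⟩
  · rcases Nat.eq_zero_or_pos (finrank F W₂) with h0 | h0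
    · exfalso
      apply hm1
      have : Subsingleton W₂ := Module.finrank_zero_iff.1 h0
      ext v
      obtain ⟨⟨x, y⟩, rfl⟩ := e.surjective v
      have hy : y = 0 := Subsingleton.elim _ _
      rw [hev, hy, map_add, (hW₁ x).1 x.2]
      simp
    · exact ⟨finrank F W₂ - 1, by omega⟩

omit [FiniteDimensional F V] [Finite V] in
theorem exists_cU (h2 : (2 : F) ≠ 0) {d : ℤ} (hd : d = 1 ∨ d = -1) (s : ℕ) :
    ∃ (c : F) (U : QuadraticForm F (Fin s → F)), c ≠ 0 ∧ Nondeg U ∧ dc (oneF c) * dc U = d := by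
  cases s with
  | zero =>
    obtain ⟨c, hc, hdc⟩ := exists_oneF (F := F) h2 hd
    refine ⟨c, 0, hc, fun x _ => Subsingleton.elim _ _, ?_⟩
    have h3 : dc (0 : QuadraticForm F (Fin 0 → F)) = 1 := by
      unfold dc
      rw [gdet_of_zero _ (by simp)]
      simp
    rw [hdc, h3, mul_one]
  | succ s =>
    obtain ⟨c, hc, hdc⟩ := exists_oneF (F := F) h2 (d := 1) (Or.inl rfl)
    obtain ⟨U, hU, hdU⟩ := exists_form h2 hd s
    exact ⟨c, U, hc, hU, by rw [hdc, hdU, one_mul]⟩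

omit [Fintype F] [DecidableEq F] [FiniteDimensional F V] [Finite V] in
theorem refl_comm {Q : QuadraticForm F V} {A : V ≃ₗ[F] V} (hA : A ∈ O Q) {v : V} (hv : Q v ≠ 0) (hvA : A v = -v) :
    refl Q v hv * A = A * refl Q v hv := by
  ext x
  show refl Q v hv (A x) = A (refl Q v hv x)
  have h1 := polar_map hA v x
  rw [hvA, polar_neg_left] at h1
  have h2 : polar Q v (A x) = - polar Q v x := by rw [← h1, neg_neg]
  rw [refl_apply, refl_apply, map_sub, map_smul, hvA, h2, mul_neg, neg_smul, smul_neg]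

/-- **corrections by reflections in the `-1`-space** -/
theorem adjust (h2 : (2 : F) ≠ 0) {Q : QuadraticForm F V} (hQ : Nondeg Q) {A : V ≃ₗ[F] V} (hA : A ∈ O Q)
    {W₁ : Submodule F V} (hW : ∀ x, x ∈ W₁ ↔ A x = -x) (hnd : Nondeg (Q.comp W₁.subtype)) (hd : 2 ≤ finrank F W₁)
    {h : V ≃ₗ[F] V} (hh : h ∈ O Q) : ∃ s ∈ O Q, s * A = A * s ∧ El Q 1 (h * s) := by
  have hval : ∀ c : F, ∃ v ∈ W₁, Q v = c := by
    intro c
    obtain ⟨v, hv⟩ := ClassicalGeometry.Discriminant.exists_value h2 (polarBilin (Q.comp W₁.subtype)) (isSymm_bilin _)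
      (nondeg_bilin hnd) hd (2 * c)
    refine ⟨v, v.2, ?_⟩
    rw [← two_mul_Q] at hv
    exact mul_left_cancel₀ h2 hv
  obtain ⟨a, ha0, ha⟩ := exists_qc (F := F) h2 (d := -1) (Or.inr rfl)
  obtain ⟨v, hvW, hv⟩ := hval 1
  obtain ⟨w, hwW, hw⟩ := hval a
  have hv0 : Q v ≠ 0 := by rw [hv]; exact one_ne_zero
  have hw0 : Q w ≠ 0 := by rw [hw]; exact ha0
  have cv := refl_comm hA hv0 ((hW v).1 hvW)
  have cw := refl_comm hA hw0 ((hW w).1 hwW)
  have sv : spin Q ⟨refl Q v hv0, refl_mem_O hv0⟩ = -1 := by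
    apply Units.ext
    rw [spin_refl_int h2, hv, map_one]
    rfl
  have sw : spin Q ⟨refl Q w hw0, refl_mem_O hw0⟩ = 1 := by
    apply Units.ext
    rw [spin_refl_int h2, hw, ha]
    rfl
  have hspin : ∀ (s : V ≃ₗ[F] V) (hs : s ∈ O Q), spin Q ⟨h * s, (O Q).mul_mem hh hs⟩ = spin Q ⟨h, hh⟩ * spin Q ⟨s, hs⟩ :=
    fun s hs => map_mul (spin Q) ⟨h, hh⟩ ⟨s, hs⟩
  have hdet : LinearEquiv.det h = 1 ∨ LinearEquiv.det h = -1 := by
    have h3 := congrArg Units.val (det_sq hQ hh)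
    rw [Units.val_pow_eq_pow_val, Units.val_one, pow_two] at h3
    rcases mul_self_eq_one_iff.1 h3 with h5 | h5
    · exact Or.inl (Units.ext h5)
    · exact Or.inr (Units.ext h5)
  rcases hdet with hdet | hdet <;> rcases Int.units_eq_one_or (spin Q ⟨h, hh⟩) with hs | hs
  · refine ⟨1, (O Q).one_mem, by rw [one_mul, mul_one], ?_⟩
    rw [mul_one]
    exact ⟨hh, hdet, hs⟩
  · refine ⟨refl Q v hv0 * refl Q w hw0, (O Q).mul_mem (refl_mem_O hv0) (refl_mem_O hw0), ?_, ?_⟩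
    · rw [mul_assoc, cw, ← mul_assoc, cv, mul_assoc]
    · refine ⟨(O Q).mul_mem hh ((O Q).mul_mem (refl_mem_O hv0) (refl_mem_O hw0)), ?_, ?_⟩
      · rw [map_mul, map_mul, hdet, det_refl, det_refl]
        simp
      · rw [hspin _ ((O Q).mul_mem (refl_mem_O hv0) (refl_mem_O hw0))]
        have h3 : spin Q ⟨refl Q v hv0 * refl Q w hw0, (O Q).mul_mem (refl_mem_O hv0) (refl_mem_O hw0)⟩ =
            spin Q ⟨refl Q v hv0, refl_mem_O hv0⟩ * spin Q ⟨refl Q w hw0, refl_mem_O hw0⟩ :=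
          map_mul (spin Q) ⟨_, refl_mem_O hv0⟩ ⟨_, refl_mem_O hw0⟩
        rw [h3, hs, sv, sw]
        rfl
  · refine ⟨refl Q w hw0, refl_mem_O hw0, cw, (O Q).mul_mem hh (refl_mem_O hw0), ?_, ?_⟩
    · rw [map_mul, hdet, det_refl]
      simp
    · rw [hspin _ (refl_mem_O hw0), hs, sw]
      rfl
  · refine ⟨refl Q v hv0, refl_mem_O hv0, cv, (O Q).mul_mem hh (refl_mem_O hv0), ?_, ?_⟩
    · rw [map_mul, hdet, det_refl]
      simp
    · rw [hspin _ (refl_mem_O hv0), hs, sv]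
      rfl

/-- **the sign change model of an involution** -/
theorem exists_model (h2 : (2 : F) ≠ 0) {Q : QuadraticForm F V} (hQ : Nondeg Q) {A : V ≃ₗ[F] V} (hA : El Q 1 A)
    (hA2 : A * A = 1) (h1 : A ≠ 1) (hm1 : A ≠ LinearEquiv.neg F) :
    ∃ (m : ℕ) (φ : (Fin m → ℤˣ) →* (V ≃ₗ[F] V)), Odd m ∧
      ∀ j : Fin m, ∃ h : V ≃ₗ[F] V, El Q 1 h ∧ h * A = φ (ep j) * h := by
  obtain ⟨W₁, W₂, e, he, hev, hW₁, hW₂, hQ₁, hQ₂, ⟨k, hk⟩, ⟨s, hs⟩, hdc⟩ := exists_split h2 hQ hA hA2 h1 hm1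
  obtain ⟨c, U, hc, hU, hcU⟩ := exists_cU h2 (dc_cases hQ₂) s
  have hchi : quadraticChar F (2 * c) ^ 2 = 1 := quadraticChar_sq_one (mul_ne_zero h2 hc)
  obtain ⟨f₁, hf₁⟩ := exists_iso h2 (nondeg_W h2 hc (2 * (k + 1))) hQ₁ (by rw [hk]; simp) (by
    rw [dc_W, hdc, pow_mul, hchi, one_pow])
  obtain ⟨f₂, hf₂⟩ := exists_iso h2 (nondeg_prod (nondeg_oneF h2 hc) hU) hQ₂ (by
    rw [hs, finrank_prod, finrank_self]
    simp [add_comm]) (by rw [dc_prod, hcU])
  obtain ⟨E, hE⟩ : ∃ E : ((Fin (2 * (k + 1) + 1) → F) × (Fin s → F)) ≃ₗ[F] V,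
      ∀ x y u, E (cs F _ (x, y), u) = e (f₁ y, f₂ (x, u)) := by
    refine ⟨((cs F _).symm.prodCongr (LinearEquiv.refl F _)).trans
      ((((LinearEquiv.prodComm F F (Fin (2 * (k + 1)) → F)).prodCongr (LinearEquiv.refl F (Fin s → F))).trans
        (LinearEquiv.prodAssoc F (Fin (2 * (k + 1)) → F) F (Fin s → F))).trans ((f₁.prodCongr f₂).trans e)), ?_⟩
    intro x y u
    simp only [LinearEquiv.trans_apply, LinearEquiv.prodCongr_apply, LinearEquiv.symm_apply_apply,
      LinearEquiv.refl_apply]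
    rfl
  have hEiso : IsIso ((W c (2 * (k + 1) + 1)).prod U) Q E := by
    rintro ⟨w, u⟩
    obtain ⟨⟨x, y⟩, rfl⟩ := (cs F _).surjective w
    rw [hE, he, Qpr_apply, Qpr_apply, hf₁, hf₂, Qpr_apply, cs_iso c _ (x, y), Qpr_apply]
    ring
  let φ : (Fin (2 * (k + 1) + 1) → ℤˣ) →* (V ≃ₗ[F] V) :=
    (cjEquiv E).toMonoidHom.comp (prHom.comp (MonoidHom.prod (dg F _) 1))
  have hφ : ∀ ε, φ ε = cj E (pr (dg F _ ε) 1) := fun ε => rfl
  have h0 : φ (ep 0) = A := by
    rw [hφ]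
    ext v
    obtain ⟨⟨w, u⟩, rfl⟩ := E.surjective v
    obtain ⟨⟨x, y⟩, rfl⟩ := (cs F _).surjective w
    rw [cj_apply', pr_apply]
    show E (dg F _ (ep 0) (cs F _ (x, y)), u) = _
    rw [cs_neg, hE, hE, hev, hev, map_add, (hW₁ _).1 (f₁ y).2, (hW₂ _).1 (f₂ (x, u)).2, map_neg]
    rfl
  refine ⟨_, φ, ⟨k + 1, rfl⟩, fun j => ?_⟩
  have hO : cj E (pr (pm F (Equiv.swap 0 j)) 1) ∈ O Q := cj_mem_O hEiso (pr_mem_O (pm_mem c _) (O U).one_mem)
  obtain ⟨t, htO, htA, ht⟩ := adjust h2 hQ hA.1 hW₁ hQ₁ (by omega) hO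
  refine ⟨_, ht, ?_⟩
  rw [mul_assoc, htA, ← mul_assoc, ← mul_assoc]
  congr 1
  rw [← h0, hφ, hφ, ← cj_mul, ← cj_mul, ← pr_mul, ← pr_mul, pm_dg]

end inv

end Cfsg.Agent.H104.UnfDiag
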